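import Cfsg.Agent.Lib.Perm.ThreeSizes.Inverted
import Cfsg.Agent.Lib.Char.Burnside
import Cfsg.Agent.Lib.StructC.SylowClassCover
import Cfsg.Agent.Lib.StructB.InvertedOdd
import Cfsg.Agent.S0205

/-!
# Primary elements modulo the centre
-/

set_option autoImplicit false
set_option linter.unusedSectionVars false

namespace CfsgLib.Perm.ThreeSizes

open CfsgLib.InvChar.ConjRank

universe u

variable {G : Type u} [Group G] [Finite G]

local notation "Z" => Subgroup.center G
local notation "n[" x "]" => Nat.card (cent x)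

theorem isSolvable_of_mod_center (h : Group.IsSolvable (G ⧸ Subgroup.center G)) : Group.IsSolvable G :=
  isSolvable_of_quotient Z
    (Group.isSolvable_of_comm fun u v => Subtype.ext (Subgroup.mem_center_iff.mp v.2 u)) h

/-- An element of prime order modulo the centre lifts to an element of prime power order. -/
theorem exists_lift {r : ℕ} (hr : r.Prime) {t : G ⧸ Z} (ht : orderOf t = r) :
    ∃ (y : G) (k : ℕ), y ∉ Z ∧ y ^ r ∈ Z ∧ (∃ i, orderOf y = r ^ i) ∧
      (QuotientGroup.mk y : G ⧸ Z) = t ^ k := by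
  obtain ⟨y0, rfl⟩ := QuotientGroup.mk_surjective t
  obtain ⟨k, hk⟩ : ∃ k, k = orderOf y0 / r ^ (orderOf y0).factorization r := ⟨_, rfl⟩
  have hd := Nat.ordProj_dvd (orderOf y0) r
  have hy0 : y0 ^ r ∈ Z := by
    rw [← QuotientGroup.eq_one_iff, QuotientGroup.mk_pow, ← ht, pow_orderOf_eq_one]
  have hndvd : ¬ r ∣ k := hk ▸ Nat.not_dvd_ordCompl hr (orderOf_pos y0).ne'
  refine ⟨y0 ^ k, k, fun hc => hndvd ?_, ?_, ⟨(orderOf y0).factorization r, ?_⟩, QuotientGroup.mk_pow _ _ _⟩
  · rw [← ht]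
    exact orderOf_dvd_of_pow_eq_one (by rw [← QuotientGroup.mk_pow, QuotientGroup.eq_one_iff]; exact hc)
  · rw [← pow_mul, mul_comm, pow_mul]
    exact Subgroup.pow_mem _ hy0 k
  · rw [hk, orderOf_pow, Nat.gcd_eq_right (Nat.div_dvd_of_dvd hd), Nat.div_div_self hd (orderOf_pos y0).ne']

/-- At most two primes modulo the centre make the group soluble. -/
theorem isSolvable_of_primes {p : ℕ} (hp : p.Prime)
    (h : ∀ (x : G) (r i : ℕ), r.Prime → x ∉ Z → orderOf x = r ^ i → r = 2 ∨ r = p) : Group.IsSolvable G := by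
  have key : ∀ n : ℕ, n ≠ 0 → (∀ r : ℕ, r.Prime → r ∣ n → r = 2 ∨ r = p) → ∃ a b, n = 2 ^ a * p ^ b := by
    intro n
    induction n using Nat.recOnMul with
    | zero => intro h0; exact absurd rfl h0
    | one => exact fun _ _ => ⟨0, 0, by simp⟩
    | prime r hr =>
      intro _ hh
      rcases hh r hr dvd_rfl with rfl | rfl
      exacts [⟨1, 0, by simp⟩, ⟨0, 1, by simp⟩]
    | mul m k ihm ihk =>
      intro h0 hh
      obtain ⟨a, b, rfl⟩ := ihm (left_ne_zero_of_mul h0) fun r hr hd => hh r hr (hd.mul_right k)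
      obtain ⟨c, d, rfl⟩ := ihk (right_ne_zero_of_mul h0) fun r hr hd => hh r hr (hd.mul_left _)
      exact ⟨a + c, b + d, by ring⟩
  obtain ⟨a, b, hab⟩ := key (Nat.card (G ⧸ Z)) Nat.card_pos.ne' fun r hr hd => by
    have : Fact r.Prime := ⟨hr⟩
    obtain ⟨t, ht⟩ := exists_prime_orderOf_dvd_card' r hd
    obtain ⟨y, k, hy, -, ⟨i, hi⟩, -⟩ := exists_lift hr ht
    exact h y r i hr hy hi
  exact isSolvable_of_mod_center (CfsgLib.Char.burnside_pq 2 p Nat.prime_two hp a b _ hab)

/-- An insoluble group has a noncentral 2-element with central square. -/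
theorem exists_involution (hns : ¬ Group.IsSolvable G) :
    ∃ u : G, u ∉ Z ∧ u * u ∈ Z ∧ ∃ i, orderOf u = 2 ^ i := by
  have : Fact (Nat.Prime 2) := ⟨Nat.prime_two⟩
  have hev : 2 ∣ Nat.card (G ⧸ Z) := by
    rw [← even_iff_two_dvd, ← Nat.not_odd_iff_even]
    exact fun h => hns (isSolvable_of_mod_center (Cfsg.Agent.S0205.result h))
  obtain ⟨t, ht⟩ := exists_prime_orderOf_dvd_card' 2 hev
  obtain ⟨y, k, hy, hy2, hi, -⟩ := exists_lift Nat.prime_two ht
  exact ⟨y, hy, by rwa [← pow_two], hi⟩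

/-- A centraliser with larger 2-part than the centre contains such an element. -/
theorem exists_involution_mem {x : G} (h : Has G 2 n[x]) :
    ∃ u ∈ cent x, u ∉ Z ∧ u * u ∈ Z ∧ ∃ i, orderOf u = 2 ^ i := by
  classical
  obtain ⟨w, hw, hwz, i, hi⟩ := exists_mem_of_has Nat.prime_two h
  have hex : ∃ j, w ^ 2 ^ j ∈ Z := ⟨i, by rw [← hi, pow_orderOf_eq_one]; exact one_mem _⟩
  obtain ⟨j, hj⟩ : ∃ j, Nat.find hex = j + 1 := Nat.exists_eq_succ_of_ne_zero fun e => hwz (by
    simpa [e] using Nat.find_spec hex)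
  have h2 := Nat.find_spec hex
  rw [hj, pow_succ, pow_mul, pow_two] at h2
  obtain ⟨l, -, hl⟩ := (Nat.dvd_prime_pow Nat.prime_two).mp (hi ▸ orderOf_pow_dvd (x := w) (2 ^ j))
  exact ⟨w ^ 2 ^ j, (cent x).pow_mem hw _, Nat.find_min hex (by omega), h2, l, hl⟩

/-- A prime without noncentral elements is full in every centraliser. -/
theorem full_of_no_elements {p : ℕ} (hp : p.Prime) (x : G)
    (h : ∀ (y : G) (i : ℕ), orderOf y = p ^ i → y ∈ Z) :
    (Nat.card G).factorization p ≤ n[x].factorization p := by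
  have : Fact p.Prime := ⟨hp⟩
  obtain ⟨S⟩ := (inferInstance : Nonempty (Sylow p G))
  refine le_trans ?_ (factorization_center_le x p)
  refine le_factorization_of_pow_dvd hp Nat.card_pos.ne' ?_
  rw [← S.card_eq_multiplicity]
  refine Subgroup.card_dvd_of_le fun y hy => ?_
  obtain ⟨i, hi⟩ := S.isPGroup'.exists_orderOf_eq_pow ⟨y, hy⟩
  exact h y i (by rwa [Subgroup.orderOf_mk] at hi)

/-- A centraliser of full `p`-part receives a conjugate of every `p`-element. -/
theorem exists_conj_mem_of_full {p : ℕ} (hp : p.Prime) {x y : G}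
    (hfull : (Nat.card G).factorization p ≤ n[x].factorization p) {i : ℕ} (hy : orderOf y = p ^ i) :
    ∃ t : G, t * y * t⁻¹ ∈ cent x := by
  have : Fact p.Prime := ⟨hp⟩
  obtain ⟨P⟩ := (inferInstance : Nonempty (Sylow p (cent x)))
  have hcard : Nat.card ((P : Subgroup (cent x)).map (cent x).subtype) =
      p ^ (Nat.card G).factorization p := by
    rw [Subgroup.card_map_of_injective (cent x).subtype_injective, P.card_eq_multiplicity]
    congr 1
    exact le_antisymm (factorization_le_of_dvd Nat.card_pos.ne' (Subgroup.card_subgroup_dvd_card _) p) hfull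
  obtain ⟨S, hS⟩ := (IsPGroup.of_card (p := p) (n := i) (by rw [Nat.card_zpowers, hy]) :
    IsPGroup p (Subgroup.zpowers y)).exists_le_sylow
  obtain ⟨t, ht⟩ := MulAction.exists_smul_eq G S (Sylow.ofCard _ hcard)
  refine ⟨t, Subgroup.map_subtype_le (P : Subgroup (cent x)) ?_⟩
  have h1 : t * y * t⁻¹ ∈ ((t • S : Sylow p G) : Subgroup G) := by
    rw [Sylow.coe_subgroup_smul, Subgroup.mem_pointwise_smul_iff_inv_smul_mem]
    simpa [mul_assoc] using hS (Subgroup.mem_zpowers y)
  rw [ht] at h1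
  exact h1

/-- The two values: an element whose value differs from one has the other. -/
theorem Hyp.eq_of_ne {a b : ℕ} (h : Hyp G a b) {x y w : G} (hx : x ∉ Z) (hy : y ∉ Z) (hw : w ∉ Z)
    (h1 : n[x] ≠ n[w]) (h2 : n[y] ≠ n[w]) : n[x] = n[y] := by
  rcases h.card_cent x hx with e1 | e1 <;> rcases h.card_cent y hy with e2 | e2 <;>
    rcases h.card_cent w hw with e3 | e3 <;> simp_all

end CfsgLib.Perm.ThreeSizes
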