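import Cfsg.Agent.Lib.Perm.ThreeSizes.Tools
import Cfsg.Agent.Lib.InvChar.ConjRank.CentreFreeBasic
import Cfsg.Agent.Lib.StructC.SylowClassCover
import Cfsg.Agent.Lib.StructB.Misc
import Cfsg.Agent.Lib.Solvable.Nilpotent

/-!
# Actions on parts of centralisers modulo the centre
-/

set_option autoImplicit false
set_option linter.unusedSectionVars false

namespace CfsgLib.Perm.ThreeSizes.Thick

open Subgroup
open CfsgLib.InvChar.ConjRank (cent mem_cent self_mem_cent mem_cent_comm factorization_card_le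
  le_factorization_of_pow_dvd factorization_le_of_dvd)

universe u
variable {G : Type u} [Group G]

local notation "π" => QuotientGroup.mk' (center G)

/-- The elements commuting with `x` modulo the centre. -/
def cmod (x : G) : Subgroup G := (cent (π x)).comap π

theorem mem_cmod {d x : G} : d ∈ cmod x ↔ Commute (π d) (π x) := mem_cent

theorem mem_cmod_iff {d x : G} : d ∈ cmod x ↔ d * x * d⁻¹ * x⁻¹ ∈ center G := by
  rw [mem_cmod, ← QuotientGroup.eq_one_iff, ← QuotientGroup.mk'_apply, map_mul, map_mul, map_mul, map_inv,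
    map_inv, mul_inv_eq_one, mul_inv_eq_iff_eq_mul]
  exact Iff.rfl

theorem mem_cmod_of_commute {d x : G} (h : Commute d x) : d ∈ cmod x := mem_cmod.2 (h.map π)

theorem pi_eq_one {x : G} : π x = 1 ↔ x ∈ center G := QuotientGroup.eq_one_iff x

/-- `u` inverts `x` modulo the centre. -/
def InvAt (u x : G) : Prop := π u * π x * (π u)⁻¹ = (π x)⁻¹

theorem invAt_iff {u x : G} : InvAt u x ↔ u * x * u⁻¹ * x ∈ center G := by
  rw [← pi_eq_one, map_mul, map_mul, map_mul, map_inv]
  exact mul_eq_one_iff_eq_inv.symm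

theorem InvAt.pi_inv {u x : G} (h : InvAt u x) : (π u)⁻¹ * π x * π u = (π x)⁻¹ := by
  unfold InvAt at h
  calc (π u)⁻¹ * π x * π u = ((π u)⁻¹ * (π x)⁻¹ * π u)⁻¹ := by group
    _ = ((π u)⁻¹ * (π u * π x * (π u)⁻¹) * π u)⁻¹ := by rw [h]
    _ = (π x)⁻¹ := by group

theorem InvAt.eq_one_of_cmod {u x : G} (h : InvAt u x) (hc : u ∈ cmod x) : x * x ∈ center G := by
  unfold InvAt at h
  rw [(mem_cmod.1 hc).eq, mul_inv_cancel_right] at h
  rw [← pi_eq_one, map_mul, mul_eq_one_iff_eq_inv]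
  exact h

/-- An element inverting `x` and `v⁻¹ x v` has commutator with `v` commuting with `x`. -/
theorem cmod_comm {u v x : G} (h1 : InvAt u x) (h2 : InvAt u (v⁻¹ * x * v)) :
    v * u * v⁻¹ * u⁻¹ ∈ cmod x := by
  rw [mem_cmod, map_mul, map_mul, map_mul, map_inv, map_inv]
  have e1 := h1.pi_inv
  unfold InvAt at h2
  rw [map_mul, map_mul, map_inv] at h2
  show π v * π u * (π v)⁻¹ * (π u)⁻¹ * π x = π x * (π v * π u * (π v)⁻¹ * (π u)⁻¹)
  calc π v * π u * (π v)⁻¹ * (π u)⁻¹ * π x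
      = π v * π u * (π v)⁻¹ * ((π u)⁻¹ * π x * π u) * (π u)⁻¹ := by group
    _ = π v * (π u * ((π v)⁻¹ * π x * π v) * (π u)⁻¹)⁻¹ * π u * (π v)⁻¹ * (π u)⁻¹ := by
      rw [e1]; group
    _ = π x * (π v * π u * (π v)⁻¹ * (π u)⁻¹) := by rw [h2]; group

theorem cmod_comm_trivial {w v x : G} (h1 : w ∈ cmod x) (h2 : w ∈ cmod (v⁻¹ * x * v)) :
    v * w * v⁻¹ * w⁻¹ ∈ cmod x := by
  refine mul_mem (mem_cmod.2 ?_) (inv_mem h1)
  have e := (mem_cmod.1 h2).map (MulAut.conj (π v)).toMonoidHom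
  simp only [MulEquiv.coe_toMonoidHom, MulAut.conj_apply, map_mul, map_inv] at e
  rw [map_mul, map_mul, map_inv]
  simpa [mul_assoc] using e

/-- If `u * u` centralises `x` then `x` times its image under `u` is fixed. -/
theorem commute_mul_image {u x : G} (hc : Commute (u * u) x) (hx : Commute x (u * x * u⁻¹)) :
    Commute u (x * (u * x * u⁻¹)) := by
  show u * (x * (u * x * u⁻¹)) = x * (u * x * u⁻¹) * u
  calc u * (x * (u * x * u⁻¹)) = u * x * u⁻¹ * (u * u * x * (u * u)⁻¹) * u := by group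
    _ = u * x * u⁻¹ * x * u := by rw [hc.eq, mul_inv_cancel_right]
    _ = x * (u * x * u⁻¹) * u := by rw [hx.eq]

theorem invAt_of_mem {u x : G} (hx : Commute x (u * x * u⁻¹)) (h : x * (u * x * u⁻¹) ∈ center G) :
    InvAt u x :=
  invAt_iff.2 (hx.eq ▸ h)

/-- Coprime orders turn commuting modulo the centre into commuting. -/
theorem commute_of_cmod {d x : G} (h : d ∈ cmod x) (hco : (orderOf d).Coprime (orderOf x)) :
    Commute d x := by
  set ζ := d * x * d⁻¹ * x⁻¹ with hζ
  have hz : ζ ∈ center G := mem_cmod_iff.1 h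
  have hzc : ∀ g : G, g * ζ = ζ * g := mem_center_iff.1 hz
  have hpow : ∀ n : ℕ, d ^ n * x * (d ^ n)⁻¹ = ζ ^ n * x := by
    intro n
    induction n with
    | zero => simp
    | succ n ih =>
      calc d ^ (n + 1) * x * (d ^ (n + 1))⁻¹ = d * (d ^ n * x * (d ^ n)⁻¹) * d⁻¹ := by rw [pow_succ']; group
        _ = d * ζ ^ n * x * d⁻¹ := by rw [ih]; group
        _ = ζ ^ n * (d * x * d⁻¹) := by rw [((show Commute d ζ from hzc d).pow_right n).eq]; group
        _ = ζ ^ (n + 1) * x := by rw [pow_succ, hζ]; group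
  have hm : ζ ^ orderOf x = 1 := by
    have h1 : (d * x * d⁻¹) ^ orderOf x = 1 := by rw [conj_pow, pow_orderOf_eq_one, mul_one, mul_inv_cancel]
    rw [show d * x * d⁻¹ = ζ * x by rw [hζ]; group,
      ((show Commute x ζ from hzc x).symm).mul_pow, pow_orderOf_eq_one, mul_one] at h1
    exact h1
  have hn : ζ ^ orderOf d = 1 := by
    have h1 := hpow (orderOf d)
    rw [pow_orderOf_eq_one, one_mul, inv_one, mul_one] at h1
    exact mul_eq_right.1 h1.symm
  have h1 : ζ = 1 := orderOf_eq_one_iff.1 (Nat.eq_one_of_dvd_coprimes hco (orderOf_dvd_of_pow_eq_one hn)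
    (orderOf_dvd_of_pow_eq_one hm))
  show d * x = x * d
  calc d * x = ζ * x * d := by rw [hζ]; group
    _ = x * d := by rw [h1, one_mul]

theorem coprime_orderOf {x y : G} {p q : ℕ} (hp : p.Prime) (hq : q.Prime) (h : p ≠ q)
    (hx : ∃ i, orderOf x = p ^ i) (hy : ∃ i, orderOf y = q ^ i) : (orderOf x).Coprime (orderOf y) := by
  obtain ⟨i, hi⟩ := hx
  obtain ⟨j, hj⟩ := hy
  rw [hi, hj]
  exact ((Nat.coprime_primes hp hq).2 h).pow i j

theorem conj_mem_normalizer {T : Subgroup G} {v x : G} (hv : v ∈ normalizer (T : Set G)) (hx : x ∈ T) :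
    v * x * v⁻¹ ∈ T ∧ v⁻¹ * x * v ∈ T := by
  have h1 := (mem_normalizer_iff.1 (inv_mem hv) x).1 hx
  rw [inv_inv] at h1
  exact ⟨(mem_normalizer_iff.1 hv x).1 hx, h1⟩

variable [Finite G]

/-- The engine: a `t`-element and a coprime element with trivial fixed points on a `t`-group and commutator
centralising it cannot both normalise it. -/
theorem key {t : ℕ} [Fact t.Prime] {T : Subgroup G} (hT : IsPGroup t T) (hnc : ¬ T ≤ center G) {w v : G}
    (hw : w ∈ normalizer (T : Set G)) (hwt : ∃ i, orderOf w = t ^ i) (hv : v ∈ normalizer (T : Set G))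
    (hvt : (orderOf v).Coprime t) (hc : ∀ x ∈ T, Commute (v * w * v⁻¹ * w⁻¹) x)
    (fw : ∀ x ∈ T, Commute w x → x ∈ center G) (fv : ∀ x ∈ T, Commute v x → x ∈ center G) : False := by
  obtain ⟨i, hi⟩ := hwt
  have hW : IsPGroup t (zpowers w) := IsPGroup.of_card (n := i) (by rw [Nat.card_zpowers, hi])
  set L := zpowers w ⊔ T with hL
  have hLp : IsPGroup t L := hW.to_sup_of_normal_right' hT (zpowers_le.2 hw)
  set L' := L.map π with hL'
  have hTL : T.map π ≤ L' := map_mono le_sup_right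
  have hN : ((T.map π).subgroupOf L').Normal := by
    rw [normal_subgroupOf_iff_le_normalizer hTL, hL', ]
    exact (map_mono (sup_le (zpowers_le.2 hw) le_normalizer)).trans (le_normalizer_map _)
  have : Group.IsNilpotent L' := (hLp.map π).isNilpotent
  have hne : (T.map π).subgroupOf L' ≠ ⊥ := fun e => hnc fun x hx => pi_eq_one.1 <| by
    have := e.le (show (⟨π x, hTL (mem_map_of_mem π hx)⟩ : L') ∈ (T.map π).subgroupOf L' from
      mem_map_of_mem π hx)
    exact congrArg Subtype.val (mem_bot.1 this)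
  obtain ⟨⟨z, hz⟩, hzT, hz1⟩ : ∃ z : L', z ∈ (T.map π).subgroupOf L' ⊓ center L' ∧ z ≠ 1 := by
    obtain ⟨z, hz, hz1⟩ := (bot_or_exists_ne_one _).resolve_left
      (CfsgLib.Solvable.normal_inf_center_ne_bot _ hne)
    exact ⟨z, hz, hz1⟩
  obtain ⟨x, hx, hxz⟩ := mem_map.1 (mem_subgroupOf.1 hzT.1)
  have hxc : x ∉ center G := fun h => hz1 (Subtype.ext (hxz.symm.trans (pi_eq_one.2 h)))
  have hwx : w ∈ cmod x := mem_cmod.2 (by
    show π w * π x = π x * π w
    rw [hxz]
    exact congrArg Subtype.val (mem_center_iff.1 hzT.2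
      ⟨π w, mem_map_of_mem π (mem_sup_left (mem_zpowers w))⟩))
  -- the image of `x` under `v` has the same commutator with `w`
  set y := v * x * v⁻¹ with hy
  have hyT : y ∈ T := (conj_mem_normalizer hv hx).1
  set e := v * w * v⁻¹ * w⁻¹ with he
  set ζ := w * x * w⁻¹ * x⁻¹ with hζ
  have hzc : ∀ g : G, g * ζ = ζ * g := mem_center_iff.1 (mem_cmod_iff.1 hwx)
  have hey : Commute e y := hc y hyT
  have hwy : w * y * w⁻¹ = ζ * y :=
    calc w * y * w⁻¹ = e⁻¹ * (v * (w * x * w⁻¹) * v⁻¹) * e := by rw [hy, he]; group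
      _ = e⁻¹ * (v * ζ * x * v⁻¹) * e := by rw [hζ]; group
      _ = e⁻¹ * ζ * y * e := by rw [hzc v, hy]; group
      _ = ζ * (e⁻¹ * y * e) := by rw [hzc e⁻¹]; group
      _ = ζ * y := by rw [mul_assoc e⁻¹, ← hey.eq, inv_mul_cancel_left]
  have hfix : Commute w (y * x⁻¹) := by
    show w * (y * x⁻¹) = y * x⁻¹ * w
    calc w * (y * x⁻¹) = w * y * w⁻¹ * (w * x * w⁻¹)⁻¹ * w := by group
      _ = ζ * y * (ζ * x)⁻¹ * w := by rw [hwy, hζ]; group
      _ = ζ * y * x⁻¹ * ζ⁻¹ * w := by group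
      _ = ζ * (y * x⁻¹) * ζ⁻¹ * w := by group
      _ = y * x⁻¹ * w := by rw [← hzc (y * x⁻¹)]; group
  have hvx : v ∈ cmod x := mem_cmod_iff.2 (fw _ (mul_mem hyT (inv_mem hx)) hfix)
  obtain ⟨j, hj⟩ := hT.exists_orderOf_eq_pow ⟨x, hx⟩
  refine hxc (fv x hx (commute_of_cmod hvx ?_))
  rw [show orderOf x = t ^ j by rwa [orderOf_mk] at hj]
  exact hvt.pow_right j

/-- The `l`-part of an abelian subgroup. -/
def part (A : Subgroup G) (l : ℕ) : Subgroup G := closure {x | x ∈ A ∧ ∃ i, x ^ l ^ i = 1}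

theorem part_le (A : Subgroup G) (l : ℕ) : part A l ≤ A := (closure_le _).2 fun _ h => h.1

theorem mem_part {A : Subgroup G} (hA : ∀ u ∈ A, ∀ v ∈ A, Commute u v) {l : ℕ} {x : G} :
    x ∈ part A l ↔ x ∈ A ∧ ∃ i, x ^ l ^ i = 1 := by
  refine ⟨fun h => ?_, fun h => subset_closure h⟩
  induction h using closure_induction with
  | mem x hx => exact hx
  | one => exact ⟨one_mem _, 0, one_pow _⟩
  | mul x y _ _ hx hy =>
    obtain ⟨hxA, i, hi⟩ := hx
    obtain ⟨hyA, j, hj⟩ := hy
    refine ⟨mul_mem hxA hyA, i + j, ?_⟩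
    rw [(hA x hxA y hyA).mul_pow, pow_add, pow_mul, hi, one_pow, mul_comm (l ^ i), pow_mul, hj, one_pow,
      one_mul]
  | inv x _ hx =>
    obtain ⟨hxA, i, hi⟩ := hx
    exact ⟨inv_mem hxA, i, by rw [inv_pow, hi, inv_one]⟩

theorem order_pow_iff {l : ℕ} (hl : l.Prime) {x : G} : (∃ i, x ^ l ^ i = 1) ↔ ∃ i, orderOf x = l ^ i :=
  ⟨fun ⟨_, h⟩ => by
    obtain ⟨j, -, hj⟩ := (Nat.dvd_prime_pow hl).1 (orderOf_dvd_of_pow_eq_one h)
    exact ⟨j, hj⟩, fun ⟨i, h⟩ => ⟨i, by rw [← h, pow_orderOf_eq_one]⟩⟩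

theorem Pr.mem_part {A : Subgroup G} (hA : ∀ u ∈ A, ∀ v ∈ A, Commute u v) {l : ℕ} {x : G}
    (hx : Pr x l) (hxA : x ∈ A) : x ∈ part A l :=
  (Thick.mem_part hA).2 ⟨hxA, (order_pow_iff hx.1).2 hx.2.2⟩

theorem pr_of_part {A : Subgroup G} (hA : ∀ u ∈ A, ∀ v ∈ A, Commute u v) {l : ℕ} (hl : l.Prime) {x : G}
    (hx : x ∈ part A l) (hxc : x ∉ center G) : Pr x l :=
  ⟨hl, hxc, (order_pow_iff hl).1 ((mem_part hA).1 hx).2⟩

theorem part_isPGroup {A : Subgroup G} (hA : ∀ u ∈ A, ∀ v ∈ A, Commute u v) (l : ℕ) :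
    IsPGroup l (part A l) := fun ⟨_, hx⟩ => by
  obtain ⟨i, hi⟩ := ((mem_part hA).1 hx).2
  exact ⟨i, Subtype.ext (by simpa using hi)⟩

theorem normalizer_le_part {A : Subgroup G} (hA : ∀ u ∈ A, ∀ v ∈ A, Commute u v) (l : ℕ) :
    normalizer (A : Set G) ≤ normalizer (part A l : Set G) := fun g hg =>
  mem_normalizer_fintype fun x hx => by
    obtain ⟨hxA, i, hi⟩ := (mem_part hA).1 hx
    exact (mem_part hA).2 ⟨(mem_normalizer_iff.1 hg x).1 hxA, i, by rw [conj_pow, hi]; group⟩

theorem factorization_part {A : Subgroup G} (hA : ∀ u ∈ A, ∀ v ∈ A, Commute u v) (l : ℕ) [Fact l.Prime] :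
    (Nat.card (part A l)).factorization l = (Nat.card A).factorization l := by
  refine le_antisymm (factorization_card_le (part_le A l) l) ?_
  obtain ⟨P⟩ := (inferInstance : Nonempty (Sylow l A))
  refine le_trans ?_ (factorization_card_le
    (H := (P : Subgroup A).map A.subtype) (fun x hx => ?_) l)
  · rw [card_map_of_injective A.subtype_injective, P.card_eq_multiplicity,
      Nat.Prime.factorization_pow (Fact.out : l.Prime), Finsupp.single_eq_same]
  · obtain ⟨⟨y, hy⟩, hyP, rfl⟩ := mem_map.1 hx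
    obtain ⟨i, hi⟩ := P.isPGroup' ⟨⟨y, hy⟩, hyP⟩
    exact (mem_part hA).2 ⟨hy, i, congrArg (fun z : (P : Subgroup A) => ((z : A) : G)) hi⟩

/-- A subgroup with larger `p`-part than the centre has a noncentral `p`-element. -/
theorem exists_pr {K : Subgroup G} {p : ℕ} (hp : p.Prime)
    (h : (Nat.card (center G)).factorization p < (Nat.card K).factorization p) : ∃ z ∈ K, Pr z p := by
  have : Fact p.Prime := ⟨hp⟩
  obtain ⟨P⟩ := (inferInstance : Nonempty (Sylow p K))
  by_contra hcon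
  have hle : (P : Subgroup K).map K.subtype ≤ center G := by
    rintro _ ⟨u, hu, rfl⟩
    by_contra hc
    obtain ⟨i, hi⟩ := P.isPGroup'.exists_orderOf_eq_pow ⟨u, hu⟩
    exact hcon ⟨u, u.2, hp, hc, i, by rwa [orderOf_mk, ← orderOf_coe] at hi⟩
  have h1 := factorization_card_le hle p
  rw [card_map_of_injective K.subtype_injective, P.card_eq_multiplicity, hp.factorization_pow,
    Finsupp.single_eq_same] at h1
  omega

/-- A `p`-subgroup which is not a Sylow subgroup of `K` grows in its normaliser. -/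
theorem exists_normalizing {l : ℕ} [Fact l.Prime] {K T : Subgroup G} (hT : IsPGroup l T) (hle : T ≤ K)
    (h : (Nat.card T).factorization l < (Nat.card K).factorization l) :
    ∃ g ∈ K, g ∈ normalizer (T : Set G) ∧ g ∉ T ∧ ∃ i, orderOf g = l ^ i := by
  obtain ⟨n, hn⟩ := IsPGroup.iff_card.1 hT
  rw [hn, Nat.Prime.factorization_pow (Fact.out : l.Prime), Finsupp.single_eq_same] at h
  obtain ⟨K', hK', hTK'⟩ := Sylow.exists_subgroup_card_pow_succ (G := K) (p := l) (n := n)
    ((Nat.Prime.pow_dvd_iff_le_factorization Fact.out Nat.card_pos.ne').2 h)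
    (H := T.subgroupOf K) (by rw [Nat.card_congr (subgroupOfEquivOfLe hle).toEquiv, hn])
  have hp : IsPGroup l K' := IsPGroup.of_card hK'
  have : Group.IsNilpotent K' := hp.isNilpotent
  have hlt : (T.subgroupOf K).subgroupOf K' < ⊤ := lt_top_iff_ne_top.2 fun e => by
    have := card_le_of_le (subgroupOf_eq_top.1 e)
    rw [hK', Nat.card_congr (subgroupOfEquivOfLe hle).toEquiv, hn] at this
    exact absurd this (Nat.pow_lt_pow_right (Fact.out : l.Prime).one_lt (Nat.lt_succ_self n)).not_ge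
  obtain ⟨g, hg, hgT⟩ := SetLike.exists_of_lt (Group.normalizerCondition_of_isNilpotent _ hlt)
  refine ⟨((g : K) : G), (g : K).2, mem_normalizer_fintype fun x hx => ?_, hgT, ?_⟩
  · exact (mem_normalizer_iff.1 hg ⟨⟨x, hle hx⟩, hTK' hx⟩).1 hx
  · obtain ⟨i, hi⟩ := hp.exists_orderOf_eq_pow g
    exact ⟨i, by rw [← hi, orderOf_coe, orderOf_coe]⟩

/-- A power of an element outside `K` with square inside. -/
theorem exists_square {K : Subgroup G} {u : G} (hu : u ∉ K) (h : ∃ i, orderOf u = 2 ^ i) :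
    ∃ j : ℕ, u ^ 2 ^ j ∉ K ∧ u ^ 2 ^ j * u ^ 2 ^ j ∈ K := by
  classical
  have he : ∃ j, u ^ 2 ^ j ∈ K := by
    obtain ⟨i, hi⟩ := h
    exact ⟨i, by rw [← hi, pow_orderOf_eq_one]; exact one_mem _⟩
  cases hf : Nat.find he with
  | zero => exact absurd (by simpa [hf] using Nat.find_spec he) hu
  | succ j =>
    exact ⟨j, Nat.find_min he (by omega), by
      rw [← pow_add, ← two_mul, ← pow_succ', ← hf]; exact Nat.find_spec he⟩

variable {a b : ℕ} (H : Hyp G a b)
include H

theorem Hyp.b_pos : 0 < b := lt_of_le_of_lt (Nat.zero_le a) H.lt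

theorem Hyp.fac_le (p : ℕ) : a.factorization p ≤ b.factorization p :=
  factorization_le_of_dvd H.b_pos.ne' H.dvd p

theorem Hyp.fac_center {p : ℕ} (hp : p.Prime) (hd : p ∣ (center G).index) :
    (Nat.card (center G)).factorization p < a.factorization p := by
  refine le_factorization_of_pow_dvd hp H.pos.ne' (dvd_trans ?_ (H.thick p hp hd))
  rw [pow_succ']
  exact mul_dvd_mul_left p (Nat.ordProj_dvd _ _)

theorem Hyp.fac_le_card (p : ℕ) : a.factorization p ≤ (Nat.card G).factorization p := by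
  obtain ⟨x, -, hx⟩ := H.exA
  exact hx ▸ factorization_le_of_dvd Nat.card_pos.ne' (card_subgroup_dvd_card _) p

/-- No prime has full part in `a`: its Sylow subgroup would be central. -/
theorem Hyp.lt_full {p : ℕ} (hp : p.Prime) (hd : p ∣ (center G).index) :
    a.factorization p < (Nat.card G).factorization p := by
  refine lt_of_le_of_ne (H.fac_le_card p) fun hfull => ?_
  have : Fact p.Prime := ⟨hp⟩
  obtain ⟨P⟩ := (inferInstance : Nonempty (Sylow p G))
  have hall : ∀ g : G, ∃ c : G, c * g * c⁻¹ ∈ centralizer ((P : Subgroup G) : Set G) := fun g => by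
    by_cases hg : g ∈ center G
    · exact ⟨1, mem_centralizer_iff.2 fun u _ => by simpa using mem_center_iff.1 hg u⟩
    refine CfsgLib.StructC.SylowClassCover.exists_conj_mem_cent P fun hdvd => ?_
    have h1 : (Nat.card G).factorization p ≤ (Nat.card (cent g)).factorization p := by
      rcases H.card g hg with e | e <;> rw [e, ← hfull]
      exact H.fac_le p
    have h2 := (cent g).card_mul_index
    have h3 := hp.factorization_pos_of_dvd index_ne_zero_of_finite hdvd
    rw [← h2, Nat.factorization_mul Nat.card_pos.ne' index_ne_zero_of_finite, Finsupp.add_apply] at h1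
    change 0 < (cent g).index.factorization p at h3
    omega
  have hC := CfsgLib.StructB.eq_top_of_conj_cover _ hall
  have hle : (P : Subgroup G) ≤ center G := fun u hu => mem_center_iff.2 fun g =>
    ((mem_centralizer_iff.1 (hC ▸ mem_top g)) u hu).symm
  have h1 := factorization_card_le hle p
  rw [P.card_eq_multiplicity, hp.factorization_pow, Finsupp.single_eq_same] at h1
  have := H.fac_center hp hd
  omega

/-- Every subgroup of order divisible by `a` has noncentral elements of every prime. -/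
theorem Hyp.exists_pr {K : Subgroup G} {p : ℕ} (hp : p.Prime) (hd : p ∣ (center G).index)
    (hK : a.factorization p ≤ (Nat.card K).factorization p) : ∃ z ∈ K, Pr z p :=
  Thick.exists_pr hp ((H.fac_center hp hd).trans_le hK)

end CfsgLib.Perm.ThreeSizes.Thick
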