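import Cfsg.Agent.Lib.Perm.ThreeSizes.Basic

/-!
# Incomparable centraliser orders and thin primes: the shape of the centralisers
-/

set_option autoImplicit false
set_option linter.unusedSectionVars false

namespace CfsgLib.Perm.ThreeSizes

open CfsgLib.InvChar.ConjRank

universe u

variable {G : Type u} [Group G] [Finite G]

local notation "Z" => Subgroup.center G
local notation "n[" x "]" => Nat.card (cent x)

theorem isTI_of_forall {x : G} (h : ∀ w ∈ cent x, w ∉ Z → cent w = cent x) : IsTI x := by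
  refine ⟨fun u hu v hv => ?_, h⟩
  by_cases hvz : v ∈ Z
  · exact Subgroup.mem_center_iff.mp hvz u
  · exact mem_cent.mp (h v hv hvz ▸ hu : u ∈ cent v)

theorem mul_not_center {v w : G} (hc : Commute v w) (hco : (orderOf v).Coprime (orderOf w)) (hv : v ∉ Z) :
    v * w ∉ Z := fun e => hv (Subgroup.mem_center_iff.mpr fun k =>
  (mem_cent.mp (cent_mul_le_of_coprime hc hco (mem_cent.mpr (Subgroup.mem_center_iff.mp e k))).1).eq)

theorem coprime_orders {v w : G} {p q i j : ℕ} (hp : p.Prime) (hq : q.Prime) (hpq : p ≠ q)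
    (hv : orderOf v = p ^ i) (hw : orderOf w = q ^ j) : (orderOf v).Coprime (orderOf w) :=
  hv ▸ hw ▸ ((Nat.coprime_primes hp hq).mpr hpq).pow i j

/-- A centraliser whose noncentral primary elements belong to one prime is primary modulo the centre. -/
theorem isPP_of_forall {x : G} {p : ℕ} (hp : p.Prime)
    (h : ∀ w ∈ cent x, ∀ q i : ℕ, q.Prime → w ∉ Z → orderOf w = q ^ i → q = p) : IsPP x := by
  refine ⟨p, hp, fun u hu => ⟨(orderOf u).factorization p, ?_⟩⟩
  refine mem_of_parts Z _ fun k s i hs hi => by_contra fun hnz => ?_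
  obtain rfl := h _ ((cent x).pow_mem ((cent x).pow_mem hu _) k) s i hs hnz hi
  have h1 : orderOf (u ^ s ^ (orderOf u).factorization s) =
      orderOf u / s ^ (orderOf u).factorization s := by
    rw [orderOf_pow, Nat.gcd_eq_right (Nat.ordProj_dvd _ s)]
  have h2 : orderOf ((u ^ s ^ (orderOf u).factorization s) ^ k) = 1 :=
    Nat.eq_one_of_dvd_coprimes ((Nat.coprime_ordCompl hs (orderOf_pos u).ne').pow_left i)
      (hi ▸ dvd_rfl) (h1 ▸ orderOf_pow_dvd k)
  exact hnz (by rw [orderOf_eq_one_iff.mp h2]; exact one_mem _)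

/-- If comparable centralisers inside are equal, the centraliser is TI or primary modulo the centre. -/
theorem shape_of_rigid {x : G} (hx : x ∉ Z) (hkey : ∀ u ∈ cent x, ∀ v ∈ cent x, u ∉ Z → v ∉ Z →
    cent u ≤ cent v → cent u = cent v) : IsTI x ∨ IsPP x := by
  obtain ⟨k, p, i, hp, hi, hkz⟩ := exists_primary hx
  have hpow : ∀ (v : G) (l : ℕ), v ∈ cent x → v ^ l ∉ Z → cent v = cent (v ^ l) := fun v l hv hl =>
    hkey v hv _ ((cent x).pow_mem hv l) (fun e => hl (Subgroup.pow_mem Z e l)) hl (cent_le_pow v l)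
  have hxe : cent x = cent (x ^ k) := hpow x k (self_mem_cent x) hkz
  -- two commuting primary elements for different primes
  have hpair : ∀ v ∈ cent x, ∀ w ∈ cent x, ∀ r s i j : ℕ, r.Prime → s.Prime → r ≠ s → Commute v w →
      v ∉ Z → w ∉ Z → orderOf v = r ^ i → orderOf w = s ^ j → cent v = cent w := by
    intro v hv w hw r s i j hr hs hrs hc hvz hwz hiv hjw
    have hco := coprime_orders hr hs hrs hiv hjw
    have hmz := mul_not_center hc hco hvz
    have hle := cent_mul_le_of_coprime hc hco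
    rw [← hkey _ ((cent x).mul_mem hv hw) v hv hmz hvz (hle.trans inf_le_left),
      ← hkey _ ((cent x).mul_mem hv hw) w hw hmz hwz (hle.trans inf_le_right)]
  by_cases hex : ∀ w ∈ cent x, ∀ q i : ℕ, q.Prime → w ∉ Z → orderOf w = q ^ i → q = p
  · exact Or.inr (isPP_of_forall hp hex)
  push Not at hex
  obtain ⟨w, hw, q, j, hq, hwz, hj, hqp⟩ := hex
  have hxw : cent (x ^ k) = cent w := hpair _ ((cent x).pow_mem (self_mem_cent x) k) w hw p q i j hp hq
    hqp.symm (mem_cent.mp (hxe ▸ hw)).symm hkz hwz hi hj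
  refine Or.inl (isTI_of_forall fun v hv hvz => ?_)
  obtain ⟨l, s, m, hs, hm, hlz⟩ := exists_primary hvz
  have hvl : v ^ l ∈ cent x := (cent x).pow_mem hv l
  rw [hpow v l hv hlz, hxe]
  by_cases hsp : s = p
  · rw [hxw]
    exact hpair _ hvl w hw s q m j hs hq (hsp ▸ hqp.symm) (mem_cent.mp (hxw ▸ hxe ▸ hvl)) hlz hwz hm hj
  · exact hpair _ hvl _ ((cent x).pow_mem (self_mem_cent x) k) s p m i hs hp hsp
      (mem_cent.mp (hxe ▸ hvl)) hlz hkz hm hi

/-- Orders not dividing one another. -/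
theorem fhyp_of_incomparable {a b : ℕ} (h : Hyp G a b) (hab : ¬ a ∣ b) (hba : ¬ b ∣ a) : FHyp G a b := by
  refine ⟨h, fun x hx => shape_of_rigid hx fun u _ v _ hu hv hle => ?_⟩
  have hd := Subgroup.card_dvd_of_le hle
  refine Subgroup.eq_of_le_of_card_ge hle (le_of_eq ?_)
  rcases h.card_cent u hu with e | e <;> rcases h.card_cent v hv with e' | e'
  · rw [e, e']
  · exact absurd (e ▸ e' ▸ hd) hab
  · exact absurd (e ▸ e' ▸ hd) hba
  · rw [e, e']

/-- A prime whose part in the smaller order is that of the centre. -/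
theorem fhyp_of_thin {a b : ℕ} (h : Hyp G a b) (hlt : a < b) (hd : a ∣ b) {p : ℕ} (hp : p.Prime) {u : G}
    (huz : u ∉ Z) {i : ℕ} (hi : orderOf u = p ^ i) (hthin : ¬ Has G p a) : FHyp G a b := by
  have hbval : ∀ v w : G, v ∉ Z → w ∈ cent v → w ∉ Z → ∀ j, orderOf w = p ^ j → n[v] = b := fun v w hv hw hwz j hj =>
    (h.card_cent v hv).resolve_left fun e => hthin (e ▸ has_of_mem hp hw hwz hj)
  have hle_b : ∀ v w : G, w ∉ Z → n[v] = b → cent v ≤ cent w → cent v = cent w := fun v w hw hv hle =>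
    Subgroup.eq_of_le_of_card_ge hle (by rcases h.card_cent w hw with e | e <;> rw [e, hv]; exact hlt.le)
  have hTI : ∀ (v : G) (j : ℕ), v ∉ Z → orderOf v = p ^ j → IsTI v ∧ n[v] = b := by
    intro v j hvz hj
    have hvb := hbval v v hvz (self_mem_cent v) hvz j hj
    have hpair : ∀ (v : G) (j : ℕ), v ∉ Z → orderOf v = p ^ j → ∀ (w : G) (s m : ℕ), w ∈ cent v → s.Prime →
        s ≠ p → w ∉ Z → orderOf w = s ^ m → cent w = cent v := by
      intro v j hvz hj w s m hw hs hsp hwz hm
      have hc : Commute v w := (mem_cent.mp hw).symm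
      have hco := coprime_orders hp hs hsp.symm hj hm
      have hmz := mul_not_center hc hco hvz
      have hb' := hbval _ v hmz (mem_cent.mpr ((Commute.refl v).mul_right hc)) hvz j hj
      have hle := cent_mul_le_of_coprime hc hco
      rw [← hle_b _ w hwz hb' (hle.trans inf_le_right), ← hle_b _ v hvz hb' (hle.trans inf_le_left)]
    obtain ⟨x, hx, hxa⟩ := h.exists_fst
    obtain ⟨k, s, m, hs, hm, hkz⟩ := exists_primary hx
    have hsa : Has G s a := hxa ▸ has_of_mem hs ((cent x).pow_mem (self_mem_cent x) k) hkz hm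
    have hsp : s ≠ p := fun e => hthin (e ▸ hsa)
    have hsb : Has G s n[v] := by
      rw [hvb]
      exact lt_of_lt_of_le hsa (factorization_le_of_dvd (by rw [← hvb]; exact Nat.card_pos.ne') hd s)
    obtain ⟨w, hw, hwz, l, hl⟩ := exists_mem_of_has hs hsb
    have hwv := hpair v j hvz hj w s l hw hs hsp hwz hl
    refine ⟨isTI_of_forall fun y hy hyz => ?_, hvb⟩
    obtain ⟨k', t, m', ht, hm', hkz'⟩ := exists_primary hyz
    have hyk : y ^ k' ∈ cent v := (cent v).pow_mem hy k'
    have hyb := hbval y v hyz (mem_cent.mpr (mem_cent.mp hy).symm) hvz j hj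
    have e1 : cent y = cent (y ^ k') := hle_b y _ hkz' hyb (cent_le_pow y k')
    rw [e1]
    by_cases htp : t = p
    · subst htp
      rw [← hpair _ m' hkz' hm' w s l ?_ hs hsp hwz hl]
      · exact hwv
      · exact mem_cent.mpr (mem_cent.mp (hwv.symm ▸ hyk : y ^ k' ∈ cent w)).symm
    · exact hpair v j hvz hj _ t m' hyk ht htp hkz' hm'
  have hbTI : ∀ y : G, y ∉ Z → n[y] = b → IsTI y := by
    intro y hy hyb
    obtain ⟨hTu, hub⟩ := hTI u i huz hi
    have hpb : Has G p n[y] := hyb.symm ▸ hub ▸ has_of_mem hp (self_mem_cent u) huz hi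
    obtain ⟨v, hv, hvz, j, hj⟩ := exists_mem_of_has hp hpb
    exact (hTI v j hvz hj).1.self_of_mem (mem_cent.mpr (mem_cent.mp hv).symm) hy
  refine ⟨h, fun x hx => ?_⟩
  rcases h.card_cent x hx with hxa | hxb
  · have hall : ∀ w ∈ cent x, w ∉ Z → n[w] = a := fun w hw hwz => (h.card_cent w hwz).resolve_right fun e => by
      have e' := (hbTI w hwz e).2 x (mem_cent.mpr (mem_cent.mp hw).symm) hx
      exact h.ne (by rw [← hxa, e', e])
    refine shape_of_rigid hx fun v hv w hw hvz hwz hle => Subgroup.eq_of_le_of_card_ge hle ?_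
    rw [hall v hv hvz, hall w hw hwz]
  · exact Or.inl (hbTI x hx hxb)

end CfsgLib.Perm.ThreeSizes
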