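import Cfsg.Agent.Lib.Perm.ThreeSizes.FCase
import Cfsg.Agent.Lib.Perm.ThreeSizes.Reductions

/-!
# Reduction of the three class sizes theorem to the divisible case with thick primes
-/

set_option autoImplicit false

namespace CfsgLib.Perm.ThreeSizes

open CfsgLib.InvChar.ConjRank

universe u

variable {G : Type u} [Group G] [Finite G]

/-- Two centraliser orders outside the centre force solubility, given the thick divisible case. -/
theorem false_of_two_orders {a b : ℕ} (h : Hyp G a b)
    (thick : a < b → a ∣ b → (∀ p : ℕ, p.Prime →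
      (∃ x : G, x ∉ Subgroup.center G ∧ ∃ i, orderOf x = p ^ i) → Has G p a) → False) (hlt : a < b) :
    False := by
  have hb0 : 0 < b := Nat.zero_lt_of_lt hlt
  by_cases hd : a ∣ b
  · refine thick hlt hd fun p hp ⟨x, hx, i, hi⟩ => by_contra fun hthin =>
      (fhyp_of_thin h hlt hd hp hx hi hthin).false
  · refine (fhyp_of_incomparable h hd fun hba => ?_).false
    obtain ⟨x, -, hxa⟩ := h.exists_fst
    exact absurd (Nat.le_of_dvd (hxa ▸ Nat.card_pos) hba) hlt.not_ge

/-- Class sizes as centraliser orders. -/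
theorem hyp_of_index {n₁ n₂ : ℕ} (h12 : n₂ < n₁) (h2 : 1 < n₂)
    (h : ∀ x : G, (Subgroup.centralizer ({x} : Set G)).index = 1 ∨
      (Subgroup.centralizer ({x} : Set G)).index = n₂ ∨ (Subgroup.centralizer ({x} : Set G)).index = n₁)
    (h₁ : ∃ x : G, (Subgroup.centralizer ({x} : Set G)).index = n₁)
    (h₂ : ∃ x : G, (Subgroup.centralizer ({x} : Set G)).index = n₂) (hns : ¬ Group.IsSolvable G) :
    ∃ a b : ℕ, a < b ∧ Hyp G a b := by
  obtain ⟨x₁, hx₁⟩ := h₁
  obtain ⟨x₂, hx₂⟩ := h₂
  have hmul : ∀ x : G, Nat.card (cent x) * (Subgroup.centralizer ({x} : Set G)).index = Nat.card G :=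
    fun x => Subgroup.card_mul_index _
  have hcen : ∀ x : G, x ∈ Subgroup.center G → (Subgroup.centralizer ({x} : Set G)).index = 1 := by
    intro x hx
    rw [Subgroup.index_eq_one, eq_top_iff]
    exact fun g _ => Subgroup.mem_centralizer_singleton_iff.mpr (Subgroup.mem_center_iff.mp hx g)
  have hlt : Nat.card (cent x₁) < Nat.card (cent x₂) := by
    have e1 := hmul x₁
    rw [hx₁, ← hmul x₂, hx₂] at e1
    by_contra hge
    rw [not_lt] at hge
    have : 0 < Nat.card (cent x₂) := Nat.card_pos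
    nlinarith
  refine ⟨_, _, hlt, hns, hlt.ne, fun x hx => ?_, ⟨x₁, fun hc => ?_, rfl⟩, ⟨x₂, fun hc => ?_, rfl⟩⟩
  · have e := hmul x
    rcases h x with e1 | e1 | e1
    · refine absurd ?_ hx
      rw [Subgroup.mem_center_iff]
      intro g
      exact Subgroup.mem_centralizer_singleton_iff.mp
        (Subgroup.index_eq_one.mp e1 ▸ Subgroup.mem_top g)
    · rw [e1, ← hmul x₂, hx₂] at e
      exact Or.inr (Nat.eq_of_mul_eq_mul_right (by omega) e)
    · rw [e1, ← hmul x₁, hx₁] at e
      exact Or.inl (Nat.eq_of_mul_eq_mul_right (by omega) e)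
  · have := hcen x₁ hc; omega
  · have := hcen x₂ hc; omega

end CfsgLib.Perm.ThreeSizes
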