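import Cfsg.Agent.Lib.InvChar.ConjRank.CentreFreeBasic

/-!
# Groups with two centraliser orders of noncentral elements: definitions
-/

set_option autoImplicit false

namespace CfsgLib.Perm.ThreeSizes

open CfsgLib.InvChar.ConjRank

universe u

variable {G : Type u} [Group G]

local notation "Z" => Subgroup.center G
local notation "n[" x "]" => Nat.card (cent x)

/-- The centraliser is abelian and is the centraliser of each of its noncentral elements. -/
def IsTI (x : G) : Prop :=
  (∀ u ∈ cent x, ∀ v ∈ cent x, Commute u v) ∧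
    ∀ w ∈ cent x, w ∉ Subgroup.center G → cent w = cent x

/-- The centraliser is a group of prime power order modulo the centre. -/
def IsPP (x : G) : Prop :=
  ∃ p : ℕ, p.Prime ∧ ∀ u ∈ cent x, ∃ i : ℕ, u ^ p ^ i ∈ Subgroup.center G

/-- `n` has larger `p`-part than the centre. -/
def Has (G : Type u) [Group G] (p n : ℕ) : Prop :=
  (Nat.card (Subgroup.center G)).factorization p < n.factorization p

/-- An insoluble group whose noncentral centralisers have exactly the two orders `a` and `b`. -/
structure Hyp (G : Type u) [Group G] (a b : ℕ) : Prop where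
  not_solvable : ¬ Group.IsSolvable G
  ne : a ≠ b
  card_cent : ∀ x : G, x ∉ Subgroup.center G → Nat.card (cent x) = a ∨ Nat.card (cent x) = b
  exists_fst : ∃ x : G, x ∉ Subgroup.center G ∧ Nat.card (cent x) = a
  exists_snd : ∃ x : G, x ∉ Subgroup.center G ∧ Nat.card (cent x) = b

/-- Every noncentral centraliser is abelian with trivial intersections, or primary mod centre. -/
structure FHyp (G : Type u) [Group G] (a b : ℕ) : Prop extends Hyp G a b where
  shape : ∀ x : G, x ∉ Subgroup.center G → IsTI x ∨ IsPP x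

theorem Hyp.symm {a b : ℕ} (h : Hyp G a b) : Hyp G b a :=
  ⟨h.not_solvable, h.ne.symm, fun x hx => (h.card_cent x hx).symm, h.exists_snd, h.exists_fst⟩

theorem FHyp.symm {a b : ℕ} (h : FHyp G a b) : FHyp G b a := ⟨h.toHyp.symm, h.shape⟩

theorem center_le_cent (x : G) : Z ≤ cent x := fun _ hz =>
  mem_cent.mpr (Subgroup.mem_center_iff.mp hz x).symm

theorem conj_mem_center {z : G} (hz : z ∈ Z) (t : G) : t * z * t⁻¹ = z := by
  rw [Subgroup.mem_center_iff.mp hz t, mul_inv_cancel_right]

theorem center_conj_iff {x : G} (t : G) : t * x * t⁻¹ ∈ Z ↔ x ∈ Z := by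
  refine ⟨fun h => ?_, fun h => by rwa [conj_mem_center h t]⟩
  have h2 : t⁻¹ * (t * x * t⁻¹) * t⁻¹⁻¹ = t * x * t⁻¹ := conj_mem_center h t⁻¹
  have h3 : x = t * x * t⁻¹ := by rw [← h2]; group
  exact h3.symm ▸ h

theorem conj_mem_cent {t x u : G} (h : u ∈ cent x) : t * u * t⁻¹ ∈ cent (t * x * t⁻¹) := by
  rw [mem_cent_conj]
  simpa [mul_assoc] using h

theorem cent_mul_center {x z : G} (hz : z ∈ Z) : cent (x * z) = cent x := by
  ext u
  have hu : Commute u z := Subgroup.mem_center_iff.mp hz u
  rw [mem_cent, mem_cent]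
  exact ⟨fun h => by simpa using h.mul_right hu.inv_right, fun h => h.mul_right hu⟩

theorem cent_inv (x : G) : cent x⁻¹ = cent x := by
  ext u
  rw [mem_cent, mem_cent]
  exact Commute.inv_right_iff

theorem IsTI.conj {x : G} (h : IsTI x) (t : G) : IsTI (t * x * t⁻¹) := by
  constructor
  · intro u hu v hv
    rw [mem_cent_conj] at hu hv
    have h1 := ((h.1 _ hu _ hv).map (MulAut.conj t).toMonoidHom)
    simpa [MulAut.conj_apply, mul_assoc] using h1
  · intro w hw hwz
    rw [mem_cent_conj] at hw
    have h1 := h.2 _ hw fun e => hwz (by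
      have := (center_conj_iff t).mpr e
      simpa [mul_assoc] using this)
    ext u
    constructor
    · intro hu
      rw [mem_cent_conj, ← h1]
      simpa [mul_assoc] using conj_mem_cent (t := t⁻¹) hu
    · intro hu
      rw [mem_cent_conj, ← h1] at hu
      simpa [mul_assoc] using conj_mem_cent (t := t) hu

theorem IsTI.self_of_mem {x w : G} (h : IsTI x) (hw : w ∈ cent x) (hwz : w ∉ Z) : IsTI w := by
  have e := h.2 w hw hwz
  exact ⟨fun u hu v hv => h.1 u (e ▸ hu) v (e ▸ hv), fun v hv hvz => (h.2 v (e ▸ hv) hvz).trans e.symm⟩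

/-- An element whose commutators are central has centraliser containing the derived subgroup. -/
theorem isSolvable_of_central_comm {w : G} (hab : ∀ u ∈ cent w, ∀ v ∈ cent w, Commute u v)
    (hc : ∀ g : G, g * w * g⁻¹ * w⁻¹ ∈ Z) : Group.IsSolvable G := by
  let φ : G →* Subgroup.center G :=
    { toFun := fun g => ⟨g * w * g⁻¹ * w⁻¹, hc g⟩
      map_one' := Subtype.ext (by simp)
      map_mul' := fun g k => Subtype.ext (by
        show g * k * w * (g * k)⁻¹ * w⁻¹ = g * w * g⁻¹ * w⁻¹ * (k * w * k⁻¹ * w⁻¹)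
        have hk := hc k
        calc g * k * w * (g * k)⁻¹ * w⁻¹
            = g * (k * w * k⁻¹ * w⁻¹) * g⁻¹ * (g * w * g⁻¹ * w⁻¹) := by group
          _ = (k * w * k⁻¹ * w⁻¹) * (g * w * g⁻¹ * w⁻¹) := by rw [conj_mem_center hk]
          _ = g * w * g⁻¹ * w⁻¹ * (k * w * k⁻¹ * w⁻¹) := (Subgroup.mem_center_iff.mp hk _).symm) }
  have hker : φ.ker ≤ cent w := fun g hg => by
    have h1 : g * w * g⁻¹ * w⁻¹ = 1 := congrArg Subtype.val hg
    refine mem_cent.mpr ?_
    show g * w = w * g
    calc g * w = g * w * g⁻¹ * w⁻¹ * w * g := by group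
      _ = w * g := by rw [h1, one_mul]
  have : Group.IsSolvable φ.ker :=
    Group.isSolvable_of_comm fun u v => Subtype.ext (hab u (hker u.2) v (hker v.2)).eq
  have : Group.IsSolvable (Subgroup.center G) :=
    Group.isSolvable_of_comm fun u v => Subtype.ext (Subgroup.mem_center_iff.mp v.2 u)
  exact Group.isSolvable_of_ker_le_range φ.ker.subtype φ (by rw [Subgroup.range_subtype])

variable [Finite G]

/-- A noncentral element has a noncentral power of prime power order. -/
theorem exists_primary {x : G} (hx : x ∉ Z) :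
    ∃ k p i : ℕ, p.Prime ∧ orderOf (x ^ k) = p ^ i ∧ x ^ k ∉ Z := by
  by_contra hcon
  push Not at hcon
  exact hx (mem_of_parts Z x fun k s i hs hk => hcon k s i hs hk)

theorem factorization_center_le (x : G) (p : ℕ) :
    (Nat.card Z).factorization p ≤ n[x].factorization p :=
  factorization_card_le (center_le_cent x) p

theorem has_of_mem {p : ℕ} (hp : p.Prime) {x u : G} (hu : u ∈ cent x) (huz : u ∉ Z) {i : ℕ}
    (ho : orderOf u = p ^ i) : Has G p n[x] := by
  by_contra hcon
  rw [Has, not_lt] at hcon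
  refine huz (mem_of_central_of_full (L := Z ⊔ Subgroup.zpowers u) le_sup_left hp
    (Subgroup.mem_sup_right (Subgroup.mem_zpowers u)) ho
    (sup_le (center_le_cent u) (Subgroup.zpowers_le.mpr (self_mem_cent u))) ?_)
  exact (factorization_card_le (sup_le (center_le_cent x) (Subgroup.zpowers_le.mpr hu)) p).trans hcon

theorem exists_mem_of_has {p : ℕ} (hp : p.Prime) {x : G} (h : Has G p n[x]) :
    ∃ u ∈ cent x, u ∉ Z ∧ ∃ i, orderOf u = p ^ i := by
  have : Fact p.Prime := ⟨hp⟩
  obtain ⟨P⟩ := (inferInstance : Nonempty (Sylow p (cent x)))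
  by_contra hcon
  push Not at hcon
  have hle : (P : Subgroup (cent x)).map (cent x).subtype ≤ Z := by
    rintro _ ⟨u, hu, rfl⟩
    by_contra huz
    obtain ⟨i, hi⟩ := P.isPGroup'.exists_orderOf_eq_pow ⟨u, hu⟩
    exact hcon u u.2 huz i (by rwa [Subgroup.orderOf_mk, ← Subgroup.orderOf_coe] at hi)
  have h1 : n[x].factorization p ≤ (Nat.card Z).factorization p := by
    refine le_factorization_of_pow_dvd hp Nat.card_pos.ne' ?_
    rw [← P.card_eq_multiplicity, ← Subgroup.card_map_of_injective (cent x).subtype_injective]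
    exact Subgroup.card_dvd_of_le hle
  exact absurd h h1.not_gt

/-- A centraliser which is primary mod centre involves one prime only. -/
theorem IsPP.unique {x : G} (h : IsPP x) {p q : ℕ} (hp : p.Prime) (hq : q.Prime)
    (hxp : Has G p n[x]) (hxq : Has G q n[x]) : p = q := by
  obtain ⟨r, hr, hP⟩ := h
  suffices key : ∀ s : ℕ, s.Prime → Has G s n[x] → s = r by rw [key p hp hxp, key q hq hxq]
  intro s hs hh
  obtain ⟨u, hu, huz, i, hi⟩ := exists_mem_of_has hs hh
  by_contra hne
  obtain ⟨j, hj⟩ := hP u hu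
  exact huz (mem_of_pow_coprime Z (((Nat.coprime_primes hs hr).mpr hne).pow i j)
    (by rw [← hi, pow_orderOf_eq_one]; exact one_mem _) hj)

theorem FHyp.isTI {a b : ℕ} (h : FHyp G a b) {x : G} (hx : x ∉ Z) {p q : ℕ} (hp : p.Prime) (hq : q.Prime)
    (hpq : p ≠ q) (hxp : Has G p n[x]) (hxq : Has G q n[x]) : IsTI x :=
  (h.shape x hx).resolve_right fun hP => hpq (hP.unique hp hq hxp hxq)

end CfsgLib.Perm.ThreeSizes
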