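import Cfsg.Agent.Lib.Perm.ThreeSizes.Central
import Cfsg.Agent.Lib.InvChar.ConjRank.PSLValues
import Cfsg.Agent.Lib.Perm.CountingComplement
import Cfsg.Agent.S2202
import Cfsg.Agent.S0219

/-!
# A centraliser with a full Sylow 2-subgroup; no centraliser mixing 2 and odd primes
-/

set_option autoImplicit false
set_option linter.unusedSectionVars false

namespace CfsgLib.Perm.ThreeSizes

open CfsgLib.InvChar.ConjRank

universe u

variable {G : Type u} [Group G] [Finite G]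

local notation "Z" => Subgroup.center G
local notation "n[" x "]" => Nat.card (cent x)

/-- A TI centraliser with two primes and full 2-part has no inverting element. -/
theorem no_inverter {x g : G} (hx : IsTI x) (hfull : (Nat.card G).factorization 2 ≤ n[x].factorization 2)
    (hn : Norm g x) (hg2 : g * g ∈ cent x) : g ∈ cent x := by
  have : Fact (Nat.Prime 2) := ⟨Nat.prime_two⟩
  obtain ⟨P⟩ := (inferInstance : Nonempty (Sylow 2 (cent x)))
  have hPn : (P : Subgroup (cent x)).Normal :=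
    ⟨fun u hu v => by
      have : v * u * v⁻¹ = u := by
        rw [show v * u = u * v from Subtype.ext (hx.1 _ v.2 _ u.2).eq, mul_inv_cancel_right]
      rwa [this]⟩
  obtain ⟨Q, hQ⟩ : ∃ Q, Q = (P : Subgroup (cent x)).map (cent x).subtype := ⟨_, rfl⟩
  have hcard : Nat.card Q = 2 ^ (Nat.card G).factorization 2 := by
    rw [hQ, Subgroup.card_map_of_injective (cent x).subtype_injective, P.card_eq_multiplicity]
    congr 1
    exact le_antisymm (factorization_le_of_dvd Nat.card_pos.ne' (Subgroup.card_subgroup_dvd_card _) 2) hfull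
  obtain ⟨S, hS⟩ : ∃ S : Sylow 2 G, (S : Subgroup G) = Q := ⟨Sylow.ofCard Q hcard, rfl⟩
  obtain ⟨m, k, hm, hk⟩ := CfsgLib.StructB.exists_odd_pow_two_power g
  have hmem : g ^ m ∈ (S : Subgroup G) := by
    refine CfsgLib.Perm.CountingComplement.mem_sylow_of_normalizer S hk ?_
    refine Subgroup.mem_normalizer_fintype fun v hv => ?_
    replace hv : v ∈ (S : Subgroup G) := hv
    show g ^ m * v * (g ^ m)⁻¹ ∈ (S : Subgroup G)
    rw [hS, hQ] at hv ⊢
    obtain ⟨v, hv, rfl⟩ := hv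
    obtain ⟨i, hi⟩ := P.isPGroup'.exists_orderOf_eq_pow ⟨v, hv⟩
    rw [Subgroup.orderOf_mk] at hi
    have hw := hn.pow m v v.2
    refine ⟨⟨_, hw⟩, ?_, rfl⟩
    refine CfsgLib.Perm.CountingComplement.mem_sylow_of_normalizer P (k := i) ?_
      ((Subgroup.normalizer_eq_top (H := (P : Subgroup (cent x)))).ge (Subgroup.mem_top _))
    refine Subtype.ext ?_
    show (g ^ m * (v : G) * (g ^ m)⁻¹) ^ 2 ^ i = 1
    rw [conj_pow, ← Subgroup.coe_pow, ← hi, pow_orderOf_eq_one, Subgroup.coe_one, mul_one, mul_inv_cancel]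
  obtain ⟨j, rfl⟩ := hm
  have h1 : g ^ (2 * j + 1) ∈ cent x := Subgroup.map_subtype_le _ (hQ ▸ hS ▸ hmem)
  rw [pow_succ, pow_mul, pow_two] at h1
  exact ((cent x).mul_mem_cancel_left ((cent x).pow_mem hg2 j)).mp h1

/-- The centraliser of a lift of an involution is invariant under the centraliser of the involution. -/
theorem norm_sq_of_fix {u k : G} (hu : IsTI u) (huz : u ∉ Z) (hu2 : u * u ∈ Z)
    (hk : k * u * k⁻¹ * u⁻¹ ∈ Z) : Norm k u ∧ k * k ∈ cent u := by
  obtain ⟨ζ, hζ⟩ : ∃ ζ, ζ = k * u * k⁻¹ * u⁻¹ := ⟨_, rfl⟩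
  rw [← hζ] at hk
  have e : k * u * k⁻¹ = ζ * u := by rw [hζ]; group
  refine ⟨norm_of_conj_mem hu (self_mem_cent u) huz (by
    rw [e]; exact (cent u).mul_mem (center_le_cent u hk) (self_mem_cent u)), ?_⟩
  have hζu : Commute ζ u := (Subgroup.mem_center_iff.mp hk u).symm
  have h2 : ζ * ζ = 1 := by
    have h3 : k * (u * u) * k⁻¹ = ζ * ζ * (u * u) := by
      calc k * (u * u) * k⁻¹ = (k * u * k⁻¹) * (k * u * k⁻¹) := by group
        _ = ζ * (u * ζ) * u := by rw [e]; group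
        _ = ζ * ζ * (u * u) := by rw [← hζu.eq]; group
    rw [conj_mem_center hu2 k] at h3
    exact mul_right_cancel ((one_mul (u * u)).trans h3).symm
  refine mem_cent.mpr ?_
  show k * k * u = u * (k * k)
  calc k * k * u = k * (k * u * k⁻¹) * k⁻¹ * (k * k) := by group
    _ = (k * ζ * k⁻¹) * (k * u * k⁻¹) * (k * k) := by
      rw [show k * (k * u * k⁻¹) * k⁻¹ = k * (ζ * u) * k⁻¹ by rw [e]]; group
    _ = ζ * ζ * u * (k * k) := by rw [conj_mem_center hk k, e]; simp only [mul_assoc]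
    _ = u * (k * k) := by rw [h2, one_mul]

/-- No centraliser with 2 and an odd prime has a full Sylow 2-subgroup. -/
theorem lt_of_mixed (hns : ¬ Group.IsSolvable G) {x : G} (hx : IsTI x) {p : ℕ} (hp : p.Prime) (hp2 : p ≠ 2)
    (hxp : Has G p n[x]) : n[x].factorization 2 < (Nat.card G).factorization 2 := by
  by_contra hfull
  rw [not_lt] at hfull
  have : Fact (Nat.Prime 2) := ⟨Nat.prime_two⟩
  -- every lift of an involution has such a centraliser
  have hu : ∀ u : G, u ∉ Z → ∀ i, orderOf u = 2 ^ i → IsTI u ∧ n[u] = n[x] := by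
    intro u huz i hi
    obtain ⟨t, ht⟩ := exists_conj_mem_of_full Nat.prime_two hfull hi
    have htz : t * u * t⁻¹ ∉ Z := fun e => huz ((center_conj_iff t).mp e)
    have h1 := (hx.self_of_mem ht htz).conj t⁻¹
    have e : t⁻¹ * (t * u * t⁻¹) * t⁻¹⁻¹ = u := by group
    rw [e] at h1
    exact ⟨h1, by rw [← card_cent_conj t u, hx.2 _ ht htz]⟩
  have hev : Even (Nat.card (G ⧸ Z)) := by
    rw [← Nat.not_odd_iff_even]
    exact fun h => hns (isSolvable_of_mod_center (Cfsg.Agent.S0205.result h))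
  have hfix : ∀ u : G, u ∉ Z → u * u ∈ Z → ∀ i, orderOf u = 2 ^ i →
      ∀ k : G ⧸ Z, Commute k (QuotientGroup.mk u) → ∃ w ∈ cent u, (QuotientGroup.mk w : G ⧸ Z) = k := by
    intro u huz hu2 i hi k hk
    obtain ⟨k, rfl⟩ := QuotientGroup.mk_surjective k
    obtain ⟨hTI, hcard⟩ := hu u huz i hi
    obtain ⟨hn, hkk⟩ := norm_sq_of_fix hTI huz hu2 (k := k) (by
      rw [← QuotientGroup.eq_one_iff]
      simp [hk.eq])
    exact ⟨k, no_inverter hTI (hcard.symm ▸ hfull) hn hkk, rfl⟩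
  have hct : ∀ t : G ⧸ Z, orderOf t = 2 → IsMulCommutative (Subgroup.centralizer ({t} : Set (G ⧸ Z))) := by
    intro t ht
    obtain ⟨u, k, huz, hu2, ⟨i, hi⟩, hut⟩ := exists_lift Nat.prime_two ht
    have hk : t ^ k = t := by
      rcases Nat.mod_two_eq_zero_or_one k with h0 | h1
      · exfalso
        refine huz ((QuotientGroup.eq_one_iff u).mp ?_)
        rw [hut, ← pow_mod_orderOf, ht, h0, pow_zero]
      · rw [← pow_mod_orderOf, ht, h1, pow_one]
    rw [hk] at hut
    rw [pow_two] at hu2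
    refine ⟨⟨fun a b => Subtype.ext ?_⟩⟩
    obtain ⟨a', ha', ha⟩ := hfix u huz hu2 i hi a (by rw [hut]; exact Subgroup.mem_centralizer_singleton_iff.mp a.2)
    obtain ⟨b', hb', hb⟩ := hfix u huz hu2 i hi b (by rw [hut]; exact Subgroup.mem_centralizer_singleton_iff.mp b.2)
    show (a : G ⧸ Z) * b = b * a
    rw [← ha, ← hb, ← QuotientGroup.mk_mul, ((hu u huz i hi).1.1 _ ha' _ hb').eq, QuotientGroup.mk_mul]
  rcases Cfsg.Agent.S2202.result hev hct with hcyc | hnor | ⟨F, hF, hFF, A, hA, hAF, h2, hAo, ⟨e⟩⟩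
  · refine hns (isSolvable_of_mod_center ?_)
    have hmf : (Nat.card (G ⧸ Z)).minFac = 2 := (Nat.minFac_eq_two_iff _).mpr (even_iff_two_dvd.mp hev)
    obtain ⟨T⟩ := (inferInstance : Nonempty (Sylow 2 (G ⧸ Z)))
    have hK := IsCyclic.isComplement' hmf (hcyc T)
    set K := (MonoidHom.transferSylow T ((hcyc T).normalizer_le_centralizer hmf)).ker
    have hodd : Odd (Nat.card K) := by
      rw [← hK.index_eq_card]
      exact Nat.not_even_iff_odd.mp fun h => T.not_dvd_index (even_iff_two_dvd.mp h)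
    have := T.isPGroup'.isNilpotent
    refine isSolvable_of_quotient K (Cfsg.Agent.S0205.result hodd) ?_
    exact Group.isSolvable_of_surjective (G := (T : Subgroup (G ⧸ Z)))
      (f := hK.symm.QuotientMulEquiv.symm.toMonoidHom) hK.symm.QuotientMulEquiv.symm.surjective
  · refine hns (isSolvable_of_mod_center ?_)
    obtain ⟨T⟩ := (inferInstance : Nonempty (Sylow 2 (G ⧸ Z)))
    have := hnor T
    have := T.isPGroup'.isNilpotent
    refine isSolvable_of_quotient (T : Subgroup (G ⧸ Z)) inferInstance (Cfsg.Agent.S0205.result ?_)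
    rw [← Subgroup.index_eq_card]
    exact Nat.not_even_iff_odd.mp fun h => T.not_dvd_index (even_iff_two_dvd.mp h)
  -- an odd element is central modulo the centre
  have h20 : (2 : F) = 0 := CharTwo.two_eq_zero
  have hx2 : Has G 2 n[x] := by
    refine lt_of_lt_of_le ?_ hfull
    obtain ⟨u, huz, -, i, hi⟩ := exists_involution hns
    exact lt_of_lt_of_le (has_of_mem Nat.prime_two (self_mem_cent u) huz hi)
      (factorization_le_of_dvd Nat.card_pos.ne' (Subgroup.card_subgroup_dvd_card _) 2)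
  obtain ⟨u, huW, huz, hu2, i, hi⟩ := exists_involution_mem hx2
  obtain ⟨w, hwW, hwz, j, hj⟩ := exists_mem_of_has hp hxp
  obtain ⟨τ, hτ⟩ : ∃ τ, τ = e (QuotientGroup.mk u) := ⟨_, rfl⟩
  obtain ⟨σ, hσ⟩ : ∃ σ, σ = e (QuotientGroup.mk w) := ⟨_, rfl⟩
  have hcomm : Commute σ τ := by
    rw [hσ, hτ]
    show e _ * e _ = e _ * e _
    rw [← map_mul, ← map_mul, ← QuotientGroup.mk_mul, (hx.1 _ hwW _ huW).eq, QuotientGroup.mk_mul]
  have hτ2 : τ * τ = 1 := by
    rw [hτ, ← map_mul, ← QuotientGroup.mk_mul, (QuotientGroup.eq_one_iff (u * u)).mpr hu2, map_one]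
  have hτ1 : τ.1 ≠ 1 := fun h1 => by
    have h3 : τ.2 * τ.2 = 1 := congrArg Prod.snd hτ2
    have h4 : τ.2 = 1 := by
      obtain ⟨l, hl⟩ := hAo
      have h5 : τ.2 ^ (2 * l + 1) = 1 := hl ▸ pow_card_eq_one'
      rwa [pow_succ, pow_mul, pow_two, h3, one_pow, one_mul] at h5
    refine huz ((QuotientGroup.eq_one_iff u).mp (e.injective ?_))
    rw [← hτ, map_one]
    exact Prod.ext h1 h4
  have htr : τ.1.1 0 0 + τ.1.1 1 1 = 0 := by
    have h3 : τ.1 * τ.1 = 1 := congrArg Prod.fst hτ2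
    have h4 : τ.1.1 * τ.1.1 = 1 := congrArg Subtype.val h3
    have hdet : τ.1.1.det = 1 := τ.1.2
    rw [Matrix.det_fin_two] at hdet
    have e4 := fun i j => congrFun (congrFun h4 i) j
    simp only [Matrix.mul_apply, Fin.sum_univ_two] at e4
    have e00 : τ.1.1 0 0 * (τ.1.1 0 0 + τ.1.1 1 1) = 0 := by
      have := e4 0 0; simp at this; linear_combination this + hdet + h20
    have e01 : τ.1.1 0 1 * (τ.1.1 0 0 + τ.1.1 1 1) = 0 := by
      have := e4 0 1; simp at this; linear_combination this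
    have e10 : τ.1.1 1 0 * (τ.1.1 0 0 + τ.1.1 1 1) = 0 := by
      have := e4 1 0; simp at this; linear_combination this
    by_contra hne
    have h00 := (mul_eq_zero.mp e00).resolve_right hne
    have h01 := (mul_eq_zero.mp e01).resolve_right hne
    rw [h00, h01] at hdet
    simp at hdet
  have hσ1 : σ.1 = 1 := by
    have hmem : σ.1 ∈ cent τ.1 := mem_cent.mpr (congrArg Prod.fst hcomm.eq)
    have hc : Nat.card (cent τ.1) = Fintype.card F := card_cent_unipotent h20 hτ1 htr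
    obtain ⟨f, -, hf⟩ := FiniteField.card F 2
    have h5 : σ.1 ^ 2 ^ (f : ℕ) = 1 := by
      have h6 := congrArg Subtype.val (pow_card_eq_one' (x := (⟨σ.1, hmem⟩ : cent τ.1)))
      rw [hc, hf] at h6
      exact h6
    have h7 : σ.1 ^ p ^ j = 1 := by
      rw [hσ, ← Prod.pow_fst, ← map_pow, ← QuotientGroup.mk_pow, ← hj, pow_orderOf_eq_one]
      simp
    simpa using mem_of_pow_coprime (⊥ : Subgroup (Matrix.SpecialLinearGroup (Fin 2) F)) (u := σ.1)
      (((Nat.coprime_primes Nat.prime_two hp).mpr hp2.symm).pow (f : ℕ) j) (by rw [h5]; exact one_mem _)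
      (by rw [h7]; exact one_mem _)
  refine hns (isSolvable_of_central_comm (w := w) ?_ fun g => ?_)
  · rw [hx.2 w hwW hwz]; exact hx.1
  rw [← QuotientGroup.eq_one_iff]
  refine e.injective ?_
  simp only [QuotientGroup.mk_mul, QuotientGroup.mk_inv, map_mul, map_inv, map_one, ← hσ]
  exact Prod.ext (by simp [hσ1]) (by simp [mul_comm])

/-- Some centraliser has both 2 and an odd prime. -/
theorem exists_mixed {a b : ℕ} (h : FHyp G a b) :
    ∃ (x : G) (p : ℕ), x ∉ Z ∧ p.Prime ∧ p ≠ 2 ∧ Has G 2 n[x] ∧ Has G p n[x] := by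
  by_contra hcon
  push Not at hcon
  obtain ⟨u, huz, -, i, hi⟩ := exists_involution h.not_solvable
  have hu2 : Has G 2 n[u] := has_of_mem Nat.prime_two (self_mem_cent u) huz hi
  have hne : ∀ (x : G) (r i : ℕ), r.Prime → r ≠ 2 → x ∉ Z → orderOf x = r ^ i → n[x] ≠ n[u] :=
    fun x r i hr hr2 hx ho e =>
      hcon u r huz hr hr2 hu2 (e ▸ has_of_mem hr (self_mem_cent x) hx ho)
  by_cases hone : ∀ (x y : G) (r s i j : ℕ), r.Prime → r ≠ 2 → x ∉ Z → orderOf x = r ^ i →
      s.Prime → s ≠ 2 → y ∉ Z → orderOf y = s ^ j → r = s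
  · by_cases hex : ∃ (y : G) (p j : ℕ), p.Prime ∧ p ≠ 2 ∧ y ∉ Z ∧ orderOf y = p ^ j
    · obtain ⟨y, p, j, hp, hp2, hy, hj⟩ := hex
      exact h.not_solvable (isSolvable_of_primes hp fun x r i hr hx ho =>
        or_iff_not_imp_left.mpr fun h2 => hone x y r p i j hr h2 hx ho hp hp2 hy hj)
    · push Not at hex
      exact h.not_solvable (isSolvable_of_primes Nat.prime_two fun x r i hr hx ho =>
        Or.inl (by_contra fun h2 => hex x r i hr h2 hx ho))
  push Not at hone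
  obtain ⟨x1, y1, r, s, i1, j1, hr, hr2, hx1, ho1, hs, hs2, hy1, ho1', hrs⟩ := hone
  have hodd : ∀ (x : G) (q i : ℕ), q.Prime → q ≠ 2 → x ∉ Z → orderOf x = q ^ i →
      IsTI x ∧ n[x] = n[x1] := by
    intro x q i hq hq2 hx ho
    have e := h.toHyp.eq_of_ne hx hx1 huz (hne x q i hq hq2 hx ho) (hne x1 r i1 hr hr2 hx1 ho1)
    have e' := h.toHyp.eq_of_ne hy1 hx1 huz (hne y1 s j1 hs hs2 hy1 ho1') (hne x1 r i1 hr hr2 hx1 ho1)
    exact ⟨h.isTI hx hr hs hrs (e ▸ has_of_mem hr (self_mem_cent x1) hx1 ho1)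
      (by rw [e, ← e']; exact has_of_mem hs (self_mem_cent y1) hy1 ho1'), e⟩
  -- an inverted odd element
  obtain ⟨q, t, y, hq, hq2, ht, ⟨k, hk⟩, hinv⟩ :=
    CfsgLib.StructB.exists_inverted_odd_prime fun hs => h.not_solvable (isSolvable_of_mod_center hs)
  obtain ⟨x, l, hxz, hxq, ⟨j, hj⟩, hxt⟩ := exists_lift hq ht
  obtain ⟨g, rfl⟩ := QuotientGroup.mk_surjective y
  obtain ⟨hTI, hcard⟩ := hodd x q j hq hq2 hxz hj
  obtain ⟨ζ, hζ⟩ : ∃ ζ, ζ = g * x * g⁻¹ * x := ⟨_, rfl⟩
  have hζz : ζ ∈ Z := by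
    rw [hζ, ← QuotientGroup.eq_one_iff, QuotientGroup.mk_mul, QuotientGroup.mk_mul, QuotientGroup.mk_mul,
      QuotientGroup.mk_inv, hxt, ← conj_pow, hinv, inv_pow, inv_mul_cancel]
  have e1 : g * x * g⁻¹ = ζ * x⁻¹ := by rw [hζ]; group
  have hgx : g ∉ cent x := fun hg => hxz (by
    have hcom : Commute g x := mem_cent.mp hg
    rw [hcom.eq, mul_inv_cancel_right] at e1
    have h2 : x ^ 2 ∈ Z := by
      rw [pow_two, show x * x = ζ by rw [hζ, hcom.eq, mul_inv_cancel_right]]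
      exact hζz
    exact mem_of_pow_coprime Z (((Nat.coprime_primes Nat.prime_two hq).mpr hq2.symm)) h2 hxq)
  have hn : Norm g x := norm_of_conj_mem hTI (self_mem_cent x) hxz (by
    rw [e1]; exact (cent x).mul_mem (center_le_cent x hζz) ((cent x).inv_mem (self_mem_cent x)))
  have hgg : g * g ∈ cent x := by
    refine mem_cent.mpr ?_
    show g * g * x = x * (g * g)
    calc g * g * x = g * (g * x * g⁻¹) * g⁻¹ * (g * g) := by group
      _ = (g * ζ * g⁻¹) * (g * x * g⁻¹)⁻¹ * (g * g) := by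
        rw [show g * (g * x * g⁻¹) * g⁻¹ = g * (ζ * x⁻¹) * g⁻¹ by rw [e1]]; group
      _ = x * (g * g) := by
        rw [conj_mem_center hζz g, e1, mul_inv_rev, inv_inv,
          ← mul_assoc ζ x, (Subgroup.mem_center_iff.mp hζz x).symm, mul_inv_cancel_right]
  have hhas : ∀ (p : ℕ) (z : G) (i : ℕ), p.Prime → p ≠ 2 → z ∉ Z → orderOf z = p ^ i → Has G p n[x] :=
    fun p z i hp hp2 hz hzo => by
      rw [hcard, ← (hodd z p i hp hp2 hz hzo).2]; exact has_of_mem hp (self_mem_cent z) hz hzo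
  refine h.not_solvable (isSolvable_of_full hTI.1 fun p hp hp2 => ?_)
  by_cases hex : ∀ (z : G) (i : ℕ), orderOf z = p ^ i → z ∈ Z
  · exact full_of_no_elements hp x hex
  push Not at hex
  obtain ⟨z, i', hz, hzz⟩ := hex
  obtain ⟨p', hp', hpp', hxp'⟩ : ∃ p', p'.Prime ∧ p ≠ p' ∧ Has G p' n[x] := by
    rcases eq_or_ne p r with rfl | hne'
    · exact ⟨s, hs, hrs, hhas s y1 j1 hs hs2 hy1 ho1'⟩
    · exact ⟨r, hr, hne', hhas r x1 i1 hr hr2 hx1 ho1⟩
  exact full_of_inverted hTI hgx hn hgg hp hp2 hp' hpp' (hhas p z i' hp hp2 hzz hz) hxp'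

end CfsgLib.Perm.ThreeSizes
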