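import Cfsg.Agent.Lib.Perm.ThreeSizes.Cases
import Cfsg.Agent.Lib.InvChar.BSWPartition
import Cfsg.Agent.Lib.Invol.HigmanTwo
import Cfsg.Agent.S3282

/-!
# The case where every noncentral centraliser is TI or primary modulo the centre
-/

set_option autoImplicit false
set_option linter.unusedSectionVars false

namespace CfsgLib.Perm.ThreeSizes

open CfsgLib.InvChar.ConjRank

universe u

variable {G : Type u} [Group G] [Finite G]

local notation "Z" => Subgroup.center G
local notation "n[" x "]" => Nat.card (cent x)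
local notation "π" => QuotientGroup.mk' (Subgroup.center G)

/-- The image of a centraliser modulo the centre. -/
def bar (x : G) : Subgroup (G ⧸ Subgroup.center G) := (cent x).map (QuotientGroup.mk' (Subgroup.center G))

theorem mem_bar {x v : G} : π v ∈ bar x ↔ v ∈ cent x := by
  refine ⟨?_, fun h => ⟨v, h, rfl⟩⟩
  rintro ⟨w, hw, e⟩
  rw [QuotientGroup.mk'_eq_mk'] at e
  obtain ⟨z, hz, rfl⟩ := e
  exact (cent x).mul_mem hw (center_le_cent x hz)

theorem card_bar (x : G) : n[x] = Nat.card Z * Nat.card (bar x) := by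
  rw [← SetLike.coe_sort_coe (cent x), ← SetLike.coe_sort_coe (bar x),
    ← QuotientGroup.card_preimage_mk Z (bar x : Set (G ⧸ Z))]
  refine Nat.card_congr (Equiv.setCongr ?_)
  ext v
  exact mem_bar.symm

theorem dvd_card_bar_of_has {r : ℕ} {x : G} (h : Has G r n[x]) : r ∣ Nat.card (bar x) := by
  refine Nat.dvd_of_factorization_pos fun e => ?_
  rw [Has, card_bar, Nat.factorization_mul Nat.card_pos.ne' Nat.card_pos.ne', Finsupp.add_apply, e,
    add_zero] at h
  exact lt_irrefl _ h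

theorem bar_le_centralizer (x : G) : bar x ≤ Subgroup.centralizer ({π x} : Set (G ⧸ Z)) := by
  rintro _ ⟨v, hv, rfl⟩
  rw [Subgroup.mem_centralizer_singleton_iff, ← map_mul, ← map_mul]
  exact congrArg _ (mem_cent.mp hv).eq

theorem inv_of_inverts {g w : G} (h : g * w * g⁻¹ * w ∈ Z) : π g * π w * (π g)⁻¹ = (π w)⁻¹ := by
  refine eq_inv_of_mul_eq_one_left ?_
  rw [← map_inv, ← map_mul, ← map_mul, ← map_mul]
  exact (QuotientGroup.eq_one_iff _).mpr h

theorem mul_self_eq_one {u : G} (h : u * u ∈ Z) : π u * π u = 1 := by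
  rw [← map_mul]
  exact (QuotientGroup.eq_one_iff _).mpr h

/-- Two inverting elements have their product inside. -/
theorem mul_mem_of_inverts {x k g : G} (hx : IsTI x) {p q : ℕ} (hp : p.Prime) (hq : q.Prime) (hpq : p ≠ q)
    (hxp : Has G p n[x]) (hxq : Has G q n[x]) (hk : ∀ w ∈ cent x, k * w * k⁻¹ * w ∈ Z)
    (hg : ∀ w ∈ cent x, g * w * g⁻¹ * w ∈ Z) : k * g ∈ cent x := by
  refine mem_of_trivial_mod hx hp hq hpq hxp hxq fun w hw => ?_
  rw [← QuotientGroup.eq_one_iff]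
  show π (k * g * w * (k * g)⁻¹ * w⁻¹) = 1
  calc π (k * g * w * (k * g)⁻¹ * w⁻¹)
      = π k * (π g * π w * (π g)⁻¹) * (π k)⁻¹ * (π w)⁻¹ := by
        simp only [map_mul, map_inv, mul_inv_rev, mul_assoc]
    _ = (π k * π w * (π k)⁻¹)⁻¹ * (π w)⁻¹ := by rw [inv_of_inverts (hg w hw), conj_inv]
    _ = 1 := by rw [inv_of_inverts (hk w hw), inv_inv, mul_inv_cancel]

/-- An involution modulo the centre has a 2-element lift. -/
theorem exists_lift_involution {t : G ⧸ Z} (ht : orderOf t = 2) :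
    ∃ u : G, u ∉ Z ∧ u * u ∈ Z ∧ (∃ i, orderOf u = 2 ^ i) ∧ π u = t := by
  obtain ⟨u, k, hu, hu2, hi, hut⟩ := exists_lift Nat.prime_two ht
  refine ⟨u, hu, by rwa [← pow_two], hi, ?_⟩
  show (QuotientGroup.mk u : G ⧸ Z) = t
  rcases Nat.mod_two_eq_zero_or_one k with h0 | h1
  · exfalso
    refine hu ((QuotientGroup.eq_one_iff u).mp ?_)
    rw [hut, ← pow_mod_orderOf, ht, h0, pow_zero]
  · rw [hut, ← pow_mod_orderOf, ht, h1, pow_one]

/-- Data of a centraliser value with 2 and an odd prime. -/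
structure Mix (G : Type u) [Group G] (a : ℕ) (x g : G) : Prop where
  notMem : x ∉ Subgroup.center G
  card_eq : Nat.card (cent x) = a
  ti : ∀ v : G, v ∉ Subgroup.center G → Nat.card (cent v) = a → IsTI v
  has_two : Has G 2 a
  exists_odd : ∃ p : ℕ, p.Prime ∧ p ≠ 2 ∧ Has G p a
  out : g ∉ cent x
  norm : Norm g x
  sq : g * g ∈ Subgroup.center G
  two : ∃ i : ℕ, orderOf g = 2 ^ i
  full : ∀ p : ℕ, p.Prime → p ≠ 2 → Has G p a → (Nat.card G).factorization p ≤ a.factorization p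
  conj : ∀ v : G, v ∉ Subgroup.center G → Nat.card (cent v) = a → ∃ t : G, t * v * t⁻¹ ∈ cent x

theorem FHyp.mix {a b : ℕ} (h : FHyp G a b) {x : G} (hx : x ∉ Z) (hxa : n[x] = a) {p : ℕ} (hp : p.Prime)
    (hp2 : p ≠ 2) (ha2 : Has G 2 a) (hap : Has G p a) : ∃ g, Mix G a x g := by
  have hti : ∀ v : G, v ∉ Z → n[v] = a → IsTI v := fun v hv e =>
    h.isTI hv Nat.prime_two hp hp2.symm (e.symm ▸ ha2) (e.symm ▸ hap)
  have hTI := hti x hx hxa
  subst hxa
  obtain ⟨g1, hg1, hn1, hgg1⟩ := exists_inverter hTI ha2 (lt_of_mixed h.not_solvable hTI hp hp2 hap)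
  have hz1 := (inverts hTI hg1 hn1 hgg1).1
  have hfull : ∀ r : ℕ, r.Prime → r ≠ 2 → Has G r n[x] → (Nat.card G).factorization r ≤ n[x].factorization r :=
    fun r hr hr2 hxr => full_of_inverted hTI hg1 hn1 hgg1 hr hr2 Nat.prime_two hr2 hxr ha2
  obtain ⟨m, k, hm, hk⟩ := CfsgLib.StructB.exists_odd_pow_two_power g1
  obtain ⟨j, rfl⟩ := hm
  obtain ⟨l, -, hl⟩ := (Nat.dvd_prime_pow Nat.prime_two).mp (orderOf_dvd_of_pow_eq_one hk)
  refine ⟨g1 ^ (2 * j + 1), hx, rfl, hti, ha2, ⟨p, hp, hp2, hap⟩, fun hc => hg1 ?_, hn1.pow _, ?_,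
    ⟨l, hl⟩, hfull, fun v hv hva => ?_⟩
  · rw [pow_succ, pow_mul, pow_two] at hc
    exact ((cent x).mul_mem_cancel_left ((cent x).pow_mem hgg1 j)).mp hc
  · rw [← pow_add, show 2 * j + 1 + (2 * j + 1) = 2 * (2 * j + 1) by ring, pow_mul, pow_two]
    exact Subgroup.pow_mem _ hz1 _
  · obtain ⟨u, hu, huz, i, hi⟩ := exists_mem_of_has hp (x := v) (hva.symm ▸ hap)
    obtain ⟨t, ht⟩ := exists_conj_mem_of_full hp (hfull p hp hp2 hap) hi
    refine ⟨t, ?_⟩
    rw [← hTI.2 _ ht fun e => huz ((center_conj_iff t).mp e)]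
    refine conj_mem_cent ?_
    rw [(hti v hv hva).2 u hu huz]
    exact self_mem_cent v

/-- The odd primes of the two values differ. -/
theorem Mix.disjoint {a b : ℕ} (h : Hyp G a b) {x g : G} (m : Mix G a x g) {q : ℕ} (hq : q.Prime) (hq2 : q ≠ 2)
    (hqa : Has G q a) (hqb : Has G q b) : False := by
  obtain ⟨y, hy, hyb⟩ := h.exists_snd
  obtain ⟨u, hu, huz, i, hi⟩ := exists_mem_of_has hq (x := y) (hyb.symm ▸ hqb)
  obtain ⟨t, ht⟩ := exists_conj_mem_of_full hq (x := x) (m.card_eq.symm ▸ m.full q hq hq2 hqa) hi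
  have hua : n[u] = a := by
    rw [← card_cent_conj t u, (m.ti x m.notMem m.card_eq).2 _ ht fun e => huz ((center_conj_iff t).mp e)]
    exact m.card_eq
  have hyu : y ∈ cent u := mem_cent.mpr (mem_cent.mp hu).symm
  exact h.ne (by rw [← hyb, (m.ti u huz hua).2 y hyu hy, hua])

/-- The conjugates of an inverted centraliser cover less than half of the quotient. -/
theorem count_le {x g : G} (hx : IsTI x) (hg : g ∉ cent x) (hn : Norm g x) :
    2 * Nat.card {t : G ⧸ Z // t ≠ 1 ∧ ∃ s, s * t * s⁻¹ ∈ bar x} + 2 ≤ Nat.card (G ⧸ Z) := by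
  obtain ⟨N, hN⟩ : ∃ N, N = Subgroup.normalizer (bar x : Set (G ⧸ Z)) := ⟨_, rfl⟩
  have hnorm : ∀ k : G, Norm k x → π k ∈ N := by
    intro k hk
    rw [hN]
    refine Subgroup.mem_normalizer_fintype ?_
    rintro _ ⟨v, hv, rfl⟩
    rw [← map_inv, ← map_mul, ← map_mul]
    exact mem_bar.mpr (hk v hv)
  have hcount := CfsgLib.InvChar.BSW.card_TI_union (bar x) N
    (fun k hk w hw => (Subgroup.mem_normalizer_iff.mp (hN ▸ hk) w).mp hw) (by
      intro k w hw hw1 hkw
      obtain ⟨k, rfl⟩ := QuotientGroup.mk'_surjective Z k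
      obtain ⟨v, hv, rfl⟩ := hw
      rw [← map_inv, ← map_mul, ← map_mul, mem_bar] at hkw
      exact hnorm k (norm_of_conj_mem hx hv (fun e => hw1 ((QuotientGroup.eq_one_iff v).mpr e)) hkw))
  have hlt : bar x < N := by
    refine lt_of_le_of_ne (hN ▸ Subgroup.le_normalizer) fun e => hg ?_
    have := hnorm g hn
    rwa [← e, mem_bar] at this
  have h2 := CfsgLib.Invol.two_mul_card_le hlt
  have h3 := N.card_mul_index
  have h4 : 1 ≤ N.index := Nat.pos_of_ne_zero Subgroup.index_ne_zero_of_finite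
  obtain ⟨c, hc⟩ : ∃ c, Nat.card (bar x) = c + 1 := Nat.exists_eq_add_of_le' Nat.card_pos
  rw [hcount, hc, Nat.add_sub_cancel]
  rw [hc] at h2
  nlinarith [Nat.mul_le_mul_left N.index h2, h3, h4]

theorem false_of_two_mix {a b : ℕ} (h : Hyp G a b) {x y g k : G} (m : Mix G a x g) (m' : Mix G b y k) :
    False := by
  have h1 := count_le (m.ti x m.notMem m.card_eq) m.out m.norm
  have h2 := count_le (m'.ti y m'.notMem m'.card_eq) m'.out m'.norm
  have hsub : ({1} : Set (G ⧸ Z))ᶜ ⊆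
      {t | t ≠ 1 ∧ ∃ s, s * t * s⁻¹ ∈ bar x} ∪ {t | t ≠ 1 ∧ ∃ s, s * t * s⁻¹ ∈ bar y} := by
    intro t ht
    obtain ⟨v, rfl⟩ := QuotientGroup.mk'_surjective Z t
    have hv : v ∉ Z := fun e => ht ((QuotientGroup.eq_one_iff v).mpr e)
    rcases h.card_cent v hv with e | e
    · obtain ⟨s, hs⟩ := m.conj v hv e
      refine Or.inl ⟨ht, π s, ?_⟩
      rw [← map_inv, ← map_mul, ← map_mul]
      exact mem_bar.mpr hs
    · obtain ⟨s, hs⟩ := m'.conj v hv e
      refine Or.inr ⟨ht, π s, ?_⟩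
      rw [← map_inv, ← map_mul, ← map_mul]
      exact mem_bar.mpr hs
  have h3 := (Set.ncard_le_ncard hsub (Set.toFinite _)).trans (Set.ncard_union_le _ _)
  have h4 := Set.ncard_add_ncard_compl ({1} : Set (G ⧸ Z))
  rw [Set.ncard_singleton] at h4
  rw [← Nat.card_coe_set_eq, ← Nat.card_coe_set_eq, ← Nat.card_coe_set_eq] at h3
  rw [← Nat.card_coe_set_eq] at h4
  simp only [Set.coe_ofPred] at h3
  omega

theorem card_sup_two {H : Type u} [Group H] [Finite H] {K : Subgroup H} {s : H} (hs : s * s = 1) (hsK : s ∉ K)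
    (hn : ∀ v ∈ K, s * v * s⁻¹ ∈ K) : Nat.card ↥(K ⊔ Subgroup.zpowers s) = 2 * Nat.card K :=
  le_antisymm (CfsgLib.Invol.card_sup_zpowers_le K (hs ▸ K.one_mem) hn)
    (CfsgLib.Invol.two_mul_card_le (left_lt_sup.2 fun h => hsK (h (Subgroup.mem_zpowers s))))

/-- If 2-elements all take one mixed value, Brauer-Suzuki-Wall gives a contradiction. -/
theorem false_of_mix_odd {a b : ℕ} (h : Hyp G a b) {x g : G} (m : Mix G a x g) (hb2 : ¬ Has G 2 b) :
    False := by
  obtain ⟨p, hp, hp2, hap⟩ := m.exists_odd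
  have hW := m.ti x m.notMem m.card_eq
  have htwo : ∀ (v : G) (i : ℕ), v ∉ Z → orderOf v = 2 ^ i → n[v] = a := fun v i hv ho =>
    (h.card_cent v hv).resolve_right fun e => hb2 (e ▸ has_of_mem Nat.prime_two (self_mem_cent v) hv ho)
  have hgz : g ∉ Z := fun e => m.out (center_le_cent x e)
  obtain ⟨i, hi⟩ := m.two
  have hga : n[g] = a := htwo g i hgz hi
  have hA := m.ti g hgz hga
  have hginv := (inverts hW m.out m.norm (center_le_cent x m.sq)).2
  -- a unique involution in the image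
  have huniq : ∀ u ∈ cent x, ∀ u' ∈ cent x, u ∉ Z → u * u ∈ Z → u' ∉ Z → u' * u' ∈ Z → π u = π u' := by
    have hnA : ∀ u ∈ cent x, u ∉ Z → u * u ∈ Z → u ∉ cent g ∧ ∀ w ∈ cent g, u * w * u⁻¹ * w ∈ Z := by
      intro u hu huz hu2
      have hug : u ∉ cent g := fun hc => m.out (hW.2 u hu huz ▸ mem_cent.mpr (mem_cent.mp hc).symm)
      refine ⟨hug, (inverts hA hug (norm_of_conj_mem hA (self_mem_cent g) hgz ?_) (center_le_cent g hu2)).2⟩
      obtain ⟨ζ, hζ⟩ : ∃ ζ, ζ = g * u * g⁻¹ * u := ⟨_, rfl⟩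
      have hζz : ζ ∈ Z := hζ ▸ hginv u hu
      have e : u * g * u⁻¹ = u * u * ζ⁻¹ * g := by rw [hζ]; group
      rw [e]
      exact (cent g).mul_mem (center_le_cent g (Subgroup.mul_mem Z hu2 (Subgroup.inv_mem Z hζz))) (self_mem_cent g)
    intro u hu u' hu' huz hu2 huz' hu2'
    have h1 : u * u' ∈ cent g := mul_mem_of_inverts hA Nat.prime_two hp hp2.symm (hga.symm ▸ m.has_two)
      (hga.symm ▸ hap) (hnA u hu huz hu2).2 (hnA u' hu' huz' hu2').2
    have h2 : u * u' ∈ Z := by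
      by_contra hc
      refine m.out ?_
      rw [← hW.2 _ ((cent x).mul_mem hu hu') hc, hA.2 _ h1 hc]
      exact self_mem_cent g
    calc π u = π u * (π u' * π u') := by rw [mul_self_eq_one hu2', mul_one]
      _ = π (u * u') * π u' := by rw [map_mul, mul_assoc]
      _ = π u' := by
        rw [show π (u * u') = 1 from (QuotientGroup.eq_one_iff _).mpr h2, one_mul]
  obtain ⟨u, hu, huz, hu2, iu, hiu⟩ := exists_involution_mem (x := x) (m.card_eq.symm ▸ m.has_two)
  obtain ⟨t, ht⟩ : ∃ t, t = π u := ⟨_, rfl⟩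
  have htK : t ∈ bar x := ht ▸ mem_bar.mpr hu
  have ht2 : orderOf t = 2 := orderOf_eq_prime (by rw [pow_two, ht, mul_self_eq_one hu2])
    fun e => huz ((QuotientGroup.eq_one_iff u).mp (ht.symm.trans e))
  have hKt : bar x ≤ Subgroup.centralizer ({t} : Set (G ⧸ Z)) := by
    rw [show bar x = bar u by rw [bar, bar, hW.2 u hu huz], ht]; exact bar_le_centralizer u
  -- moving a noncentral element inside fixes the involution
  have hfix : ∀ (k w : G), w ∈ cent x → w ∉ Z → k * w * k⁻¹ ∈ cent x →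
      π k ∈ Subgroup.centralizer ({t} : Set (G ⧸ Z)) := by
    intro k w hw hwz hkw
    rw [Subgroup.mem_centralizer_singleton_iff, ht]
    have e : π (k * u * k⁻¹) = π u := huniq _ (norm_of_conj_mem hW hw hwz hkw u hu) u hu
      (fun hc => huz ((center_conj_iff k).mp hc))
      (by rw [show k * u * k⁻¹ * (k * u * k⁻¹) = k * (u * u) * k⁻¹ by group, conj_mem_center hu2 k]; exact hu2)
      huz hu2
    rw [map_mul, map_mul, map_inv] at e
    exact mul_inv_eq_iff_eq_mul.mp e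
  have hs : orderOf (π g) = 2 := orderOf_eq_prime (by rw [pow_two, mul_self_eq_one m.sq])
    fun e => hgz ((QuotientGroup.eq_one_iff g).mp e)
  have hsK : π g ∉ bar x := fun e => m.out (mem_bar.mp e)
  have hinv : ∀ v ∈ bar x, π g * v * (π g)⁻¹ = v⁻¹ := by
    rintro _ ⟨v, hv, rfl⟩
    exact inv_of_inverts (hginv v hv)
  have hsH : π g ∈ Subgroup.centralizer ({t} : Set (G ⧸ Z)) := hfix g u hu huz (m.norm u hu)
  have hH : bar x ⊔ Subgroup.zpowers (π g) = Subgroup.centralizer ({t} : Set (G ⧸ Z)) := by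
    refine le_antisymm (sup_le hKt (Subgroup.zpowers_le.mpr hsH)) fun k hk => ?_
    obtain ⟨k, rfl⟩ := QuotientGroup.mk'_surjective Z k
    rw [Subgroup.mem_centralizer_singleton_iff] at hk
    have hkz : k * u * k⁻¹ * u⁻¹ ∈ Z := by
      rw [← QuotientGroup.eq_one_iff]
      show π (k * u * k⁻¹ * u⁻¹) = 1
      simp only [map_mul, map_inv, ← ht, hk, mul_inv_cancel_right, mul_inv_cancel]
    obtain ⟨hn, hkk⟩ := norm_sq_of_fix (m.ti u huz (htwo u iu huz hiu)) huz hu2 hkz
    have e := hW.2 u hu huz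
    by_cases hkx : k ∈ cent x
    · exact Subgroup.mem_sup_left (mem_bar.mpr hkx)
    have hkinv := (inverts hW hkx (fun v hv => e ▸ hn v (e.symm ▸ hv)) (e ▸ hkk)).2
    have h1 := mul_mem_of_inverts hW Nat.prime_two hp hp2.symm (m.card_eq.symm ▸ m.has_two)
      (m.card_eq.symm ▸ hap) hkinv hginv
    rw [show π k = π (k * g) * (π g)⁻¹ by rw [map_mul, mul_inv_cancel_right]]
    exact Subgroup.mul_mem_sup (mem_bar.mpr h1) (Subgroup.inv_mem _ (Subgroup.mem_zpowers _))
  have hCK : bar x ⊓ Subgroup.centralizer ({π g} : Set (G ⧸ Z)) = Subgroup.zpowers t := by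
    refine le_antisymm ?_ (Subgroup.zpowers_le.mpr ⟨htK, ?_⟩)
    · intro v hv
      obtain ⟨⟨v, hvW, rfl⟩, hvc⟩ := hv
      replace hvc := Subgroup.mem_centralizer_singleton_iff.mp hvc
      by_cases hvz : v ∈ Z
      · rw [show π v = 1 from (QuotientGroup.eq_one_iff v).mpr hvz]; exact one_mem _
      have e := inv_of_inverts (hginv v hvW)
      rw [← hvc, mul_inv_cancel_right] at e
      rw [huniq v hvW u hu hvz ?_ huz hu2, ← ht]
      · exact Subgroup.mem_zpowers t
      · rw [← QuotientGroup.eq_one_iff]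
        show π (v * v) = 1
        rw [map_mul]
        exact mul_eq_one_iff_eq_inv.mpr e
    · refine Subgroup.mem_centralizer_singleton_iff.mpr ?_
      exact (Subgroup.mem_centralizer_singleton_iff.mp hsH).symm
  have hTI : ∀ k : G ⧸ Z, k ∉ Subgroup.centralizer ({t} : Set (G ⧸ Z)) →
      bar x ⊓ (bar x).map (MulAut.conj k).toMonoidHom = ⊥ := by
    intro k hk
    obtain ⟨k, rfl⟩ := QuotientGroup.mk'_surjective Z k
    rw [eq_bot_iff]
    rintro _ ⟨hv, _, ⟨w, hw, rfl⟩, rfl⟩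
    change π k * π w * (π k)⁻¹ ∈ bar x at hv
    rw [← map_inv, ← map_mul, ← map_mul, mem_bar] at hv
    by_contra hne
    refine hk (hfix k w hw (fun hwz => hne ?_) hv)
    rw [Subgroup.mem_bot]
    show π k * π w * (π k)⁻¹ = 1
    rw [show π w = 1 from (QuotientGroup.eq_one_iff w).mpr hwz, mul_one, mul_inv_cancel]
  have hconj : ∀ v w : G ⧸ Z, orderOf v = 2 → orderOf w = 2 → IsConj v w := by
    suffices key : ∀ v : G ⧸ Z, orderOf v = 2 → IsConj v t from fun v w hv hw => (key v hv).trans (key w hw).symm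
    intro v hv
    obtain ⟨w, hwz, hw2, ⟨j, hj⟩, rfl⟩ := exists_lift_involution hv
    obtain ⟨s, hs⟩ := m.conj w hwz (htwo w j hwz hj)
    refine isConj_iff.mpr ⟨π s, ?_⟩
    rw [← map_inv, ← map_mul, ← map_mul, ht]
    exact huniq _ hs u hu (fun hc => hwz ((center_conj_iff s).mp hc))
      (by rw [show s * w * s⁻¹ * (s * w * s⁻¹) = s * (w * w) * s⁻¹ by group, conj_mem_center hw2 s]; exact hw2)
      huz hu2
  have hKab : IsMulCommutative (bar x) := ⟨⟨fun v w => by
    obtain ⟨_, v, hv, rfl⟩ := v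
    obtain ⟨_, w, hw, rfl⟩ := w
    exact Subtype.ext (show π v * π w = π w * π v by rw [← map_mul, (hW.1 v hv w hw).eq, map_mul])⟩⟩
  obtain ⟨Q, D, hcard, hQc, -, hDq, -, -, hX⟩ :=
    Cfsg.Agent.S3282.result t ht2 (bar x) hKab hKt htK (π g) hs hsH hsK hH hCK hinv hTI hconj
  obtain ⟨d, hd⟩ : ∃ d, d = Nat.card D := ⟨_, rfl⟩
  rw [← hd] at hDq
  rw [← hDq] at hcard
  have hd0 : 1 ≤ d := hd ▸ Nat.card_pos
  have hord : Nat.card (G ⧸ Z) = 2 * (2 * d + 1) * (d + 1) * d := by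
    rw [Nat.add_sub_cancel] at hcard
    linarith
  -- primes of the value b divide q
  have hwq : ∀ v : G, π v ∈ Q → π v ≠ 1 → Nat.card (bar v) ∣ 2 * d + 1 := fun v hv hv1 => by
    rw [hDq]
    exact Subgroup.card_dvd_of_le (hQc _ hv hv1 ▸ bar_le_centralizer v)
  have hbq : ∀ r : ℕ, r.Prime → Has G r b → r ∣ 2 * d + 1 := by
    intro r hr hrb
    have hne : Nat.card Q ≠ 1 := by omega
    have : Fact (Nat.card Q).minFac.Prime := ⟨Nat.minFac_prime hne⟩
    obtain ⟨v, hv⟩ := exists_prime_orderOf_dvd_card' (Nat.card Q).minFac (Nat.minFac_dvd _)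
    obtain ⟨y, k, hy, -, -, hyv⟩ := exists_lift (Nat.minFac_prime hne) (t := (v : G ⧸ Z))
      (by rw [Subgroup.orderOf_coe]; exact hv)
    have hyQ : π y ∈ Q := by
      show (QuotientGroup.mk y : G ⧸ Z) ∈ Q
      rw [hyv]; exact Q.pow_mem v.2 k
    have hy1 : π y ≠ 1 := fun e => hy ((QuotientGroup.eq_one_iff y).mp e)
    rcases h.card_cent y hy with e | e
    · have h2 := (dvd_card_bar_of_has (x := y) (r := 2) (e.symm ▸ m.has_two)).trans (hwq y hyQ hy1)
      omega
    · exact (dvd_card_bar_of_has (x := y) (e.symm ▸ hrb)).trans (hwq y hyQ hy1)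
  rcases eq_or_lt_of_le hd0 with hd1 | hd1
  · rw [← hd1] at hord
    exact h.not_solvable (isSolvable_of_mod_center
      (CfsgLib.Char.burnside_pq 2 3 Nat.prime_two Nat.prime_three 2 1 _ (by rw [hord]; norm_num)))
  -- the orders of D and of the image agree
  have hwd : Nat.card (bar x) = d := by
    have hne : d ≠ 1 := by omega
    have : Fact d.minFac.Prime := ⟨Nat.minFac_prime hne⟩
    obtain ⟨v, hv⟩ := exists_prime_orderOf_dvd_card' (G := D) d.minFac (hd ▸ Nat.minFac_dvd _)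
    obtain ⟨y, k, hy, -, ⟨j, hj⟩, hyv⟩ := exists_lift (Nat.minFac_prime hne) (t := (v : G ⧸ Z))
      (by rw [Subgroup.orderOf_coe]; exact hv)
    have hyD : π y ∈ D := by
      show (QuotientGroup.mk y : G ⧸ Z) ∈ D
      rw [hyv]; exact D.pow_mem v.2 k
    have hya : n[y] = a := (h.card_cent y hy).resolve_right fun e => by
      have h1 := hbq _ (Nat.minFac_prime hne) (e ▸ has_of_mem (Nat.minFac_prime hne) (self_mem_cent y) hy hj)
      have h2 := Nat.dvd_sub h1 ((Nat.minFac_dvd d).mul_left 2)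
      rw [Nat.add_sub_cancel_left] at h2
      exact (Nat.minFac_prime hne).not_dvd_one h2
    obtain ⟨s, hs'⟩ := m.conj y hy hya
    obtain ⟨z, hz⟩ : ∃ z, z = s * y * s⁻¹ := ⟨_, rfl⟩
    rw [← hz] at hs'
    have hzz : z ∉ Z := fun e => hy ((center_conj_iff s).mp (hz ▸ e))
    have hN : Subgroup.normalizer (Subgroup.zpowers (π z) : Set (G ⧸ Z)) =
        Subgroup.centralizer ({t} : Set (G ⧸ Z)) := by
      refine le_antisymm (fun k hk => ?_) ?_
      · obtain ⟨k, rfl⟩ := QuotientGroup.mk'_surjective Z k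
        refine hfix k z hs' hzz (mem_bar.mp ?_)
        rw [map_mul, map_mul, map_inv]
        exact Subgroup.zpowers_le.mpr (mem_bar.mpr hs')
          ((Subgroup.mem_normalizer_iff.mp hk _).mp (Subgroup.mem_zpowers _))
      · rw [← hH, sup_le_iff, Subgroup.zpowers_le]
        constructor
        · intro w hw
          refine Subgroup.mem_normalizer_fintype ?_
          rintro _ ⟨l, rfl⟩
          have hc : Commute w (π z ^ l) := congrArg Subtype.val
            (hKab.is_comm.comm ⟨w, hw⟩ ⟨π z ^ l, Subgroup.zpow_mem _ (mem_bar.mpr hs') l⟩)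
          show w * π z ^ l * w⁻¹ ∈ Subgroup.zpowers (π z)
          rw [hc.eq, mul_inv_cancel_right]
          exact Subgroup.zpow_mem _ (Subgroup.mem_zpowers _) l
        · refine Subgroup.mem_normalizer_fintype ?_
          rintro _ ⟨l, rfl⟩
          show π g * π z ^ l * (π g)⁻¹ ∈ Subgroup.zpowers (π z)
          rw [← conj_zpow, hinv _ (mem_bar.mpr hs'), inv_zpow]
          exact Subgroup.inv_mem _ (Subgroup.zpow_mem _ (Subgroup.mem_zpowers _) l)
    obtain ⟨hND, w, hw, hwD, hwinv, hNw⟩ := hX (Subgroup.zpowers (π y)) (Subgroup.zpowers_le.mpr hyD)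
      (fun e => hy ((QuotientGroup.eq_one_iff y).mp (Subgroup.zpowers_eq_bot.mp e)))
    have hmap := congrArg (fun N => Nat.card (Subgroup.map (MulAut.conj (π s)).toMonoidHom N)) (hND.trans hNw)
    simp only [Subgroup.map_equiv_normalizer_eq, MonoidHom.map_zpowers] at hmap
    rw [Subgroup.card_map_of_injective (MulAut.conj (π s)).injective] at hmap
    have e1 : (MulAut.conj (π s)).toMonoidHom (π y) = π z := by
      rw [hz, map_mul π, map_mul π, map_inv π]; rfl
    rw [e1, hN, ← hH, card_sup_two (mul_self_eq_one m.sq) hsK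
        (fun v hv => hinv v hv ▸ Subgroup.inv_mem _ hv),
      card_sup_two (by rw [← pow_two, ← hw, pow_orderOf_eq_one]) hwD
        (fun v hv => hwinv v hv ▸ Subgroup.inv_mem _ hv)] at hmap
    omega
  -- a prime dividing d + 1 has no possible value
  obtain ⟨r, hr, hrd⟩ : ∃ r, r.Prime ∧ r ∣ d + 1 :=
    ⟨_, Nat.minFac_prime (by omega), Nat.minFac_dvd (d + 1)⟩
  have : Fact r.Prime := ⟨hr⟩
  obtain ⟨v, hv⟩ := exists_prime_orderOf_dvd_card' (G := G ⧸ Z) r
    (hord ▸ (hrd.mul_left _).mul_right d)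
  obtain ⟨y, k, hy, -, ⟨j, hj⟩, -⟩ := exists_lift hr hv
  have hyr := has_of_mem hr (self_mem_cent y) hy hj
  refine hr.not_dvd_one ?_
  rcases h.card_cent y hy with e | e
  · rw [e, ← m.card_eq] at hyr
    have h1 := dvd_card_bar_of_has hyr
    rw [hwd] at h1
    simpa using Nat.dvd_sub hrd h1
  · have h1 := hbq r hr (e ▸ hyr)
    have h2 := Nat.dvd_sub (hrd.mul_left 2) h1
    rwa [show 2 * (d + 1) - (2 * d + 1) = 1 by omega] at h2

theorem false_of_mix {a b : ℕ} (h : FHyp G a b) {x g : G} (m : Mix G a x g) : False := by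
  by_cases hb : ∃ q : ℕ, q.Prime ∧ q ≠ 2 ∧ Has G q b
  · obtain ⟨q, hq, hq2, hbq⟩ := hb
    by_cases hb2 : Has G 2 b
    · obtain ⟨y, hy, hyb⟩ := h.exists_snd
      obtain ⟨k, m'⟩ := h.symm.mix hy hyb hq hq2 hb2 hbq
      exact false_of_two_mix h.toHyp m m'
    · exact false_of_mix_odd h.toHyp m hb2
  · refine h.not_solvable (isSolvable_of_full (m.ti x m.notMem m.card_eq).1 fun p hp hp2 => ?_)
    by_cases hex : ∀ (y : G) (i : ℕ), orderOf y = p ^ i → y ∈ Z
    · exact full_of_no_elements hp x hex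
    push Not at hex
    obtain ⟨y, i, hi, hy⟩ := hex
    have hyp := has_of_mem hp (self_mem_cent y) hy hi
    rcases h.card_cent y hy with e | e
    · rw [m.card_eq]; exact m.full p hp hp2 (e ▸ hyp)
    · exact absurd ⟨p, hp, hp2, e ▸ hyp⟩ hb

/-- No insoluble group has all noncentral centralisers TI or primary modulo the centre, of two orders. -/
theorem FHyp.false {a b : ℕ} (h : FHyp G a b) : False := by
  obtain ⟨x, p, hx, hp, hp2, hx2, hxp⟩ := exists_mixed h
  rcases h.card_cent x hx with e | e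
  · obtain ⟨g, m⟩ := h.mix hx e hp hp2 (e ▸ hx2) (e ▸ hxp)
    exact false_of_mix h m
  · obtain ⟨g, m⟩ := h.symm.mix hx e hp hp2 (e ▸ hx2) (e ▸ hxp)
    exact false_of_mix h.symm m

end CfsgLib.Perm.ThreeSizes
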