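import Cfsg.Agent.Lib.Perm.ThreeSizes.Basic
import Cfsg.Agent.Lib.Solvable.KegelWielandt
import Cfsg.Agent.Lib.Transfer.Frobenius

/-!
# An inverted abelian centraliser contains full Sylow subgroups for its odd primes
-/

set_option autoImplicit false

namespace CfsgLib.Perm.ThreeSizes

open CfsgLib.InvChar.ConjRank

universe u

variable {G : Type u} [Group G]

local notation "Z" => Subgroup.center G
local notation "n[" x "]" => Nat.card (cent x)

/-- Conjugation by `g` maps the centraliser of `x` into itself. -/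
def Norm (g x : G) : Prop := ∀ u ∈ cent x, g * u * g⁻¹ ∈ cent x

theorem norm_of_conj_mem {g x w : G} (hx : IsTI x) (hw : w ∈ cent x) (hwz : w ∉ Z)
    (h : g * w * g⁻¹ ∈ cent x) : Norm g x := fun u hu => by
  have h1 := conj_mem_cent (t := g) (by rwa [hx.2 w hw hwz] : u ∈ cent w)
  rwa [hx.2 _ h fun e => hwz ((center_conj_iff g).mp e)] at h1

theorem Norm.mul {g k x : G} (hg : Norm g x) (hk : Norm k x) : Norm (g * k) x := fun u hu => by
  have := hg _ (hk u hu)
  rwa [show g * k * u * (g * k)⁻¹ = g * (k * u * k⁻¹) * g⁻¹ by group]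

theorem Norm.pow {g x : G} (hg : Norm g x) : ∀ n : ℕ, Norm (g ^ n) x
  | 0 => fun u hu => by simpa using hu
  | n + 1 => by rw [pow_succ]; exact (hg.pow n).mul hg

theorem fixed_central {g x e : G} (hx : IsTI x) (hg : g ∉ cent x) (he : e ∈ cent x) (hc : Commute g e) :
    e ∈ Z := by
  by_contra hez
  exact hg (hx.2 e he hez ▸ mem_cent.mpr hc)

/-- An outside element with square inside inverts modulo the centre. -/
theorem inverts {g x : G} (hx : IsTI x) (hg : g ∉ cent x) (hn : Norm g x) (hg2 : g * g ∈ cent x) :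
    g * g ∈ Z ∧ ∀ w ∈ cent x, g * w * g⁻¹ * w ∈ Z := by
  refine ⟨fixed_central hx hg hg2 ((Commute.refl g).mul_right (Commute.refl g)), fun w hw => ?_⟩
  refine fixed_central hx hg ((cent x).mul_mem (hn w hw) hw) ?_
  have h1 : g * g * w = w * (g * g) := (hx.1 _ hg2 _ hw).eq
  have h2 : g * (g * w * g⁻¹) * g⁻¹ = w := by
    calc g * (g * w * g⁻¹) * g⁻¹ = g * g * w * (g * g)⁻¹ := by group
      _ = w := by rw [h1, mul_inv_cancel_right]
  show g * (g * w * g⁻¹ * w) = g * w * g⁻¹ * w * g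
  calc g * (g * w * g⁻¹ * w) = g * (g * w * g⁻¹) * g⁻¹ * (g * w * g⁻¹) * g := by group
    _ = w * (g * w * g⁻¹) * g := by rw [h2]
    _ = g * w * g⁻¹ * w * g := by rw [(hx.1 _ hw _ (hn w hw)).eq]

variable [Finite G]

/-- Acting trivially modulo the centre on a centraliser with two primes means lying in it. -/
theorem mem_of_trivial_mod {x k : G} (hx : IsTI x) {p q : ℕ} (hp : p.Prime) (hq : q.Prime) (hpq : p ≠ q)
    (hxp : Has G p n[x]) (hxq : Has G q n[x]) (hk : ∀ w ∈ cent x, k * w * k⁻¹ * w⁻¹ ∈ Z) : k ∈ cent x := by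
  have hpow : ∀ n : ℕ, ∀ w ∈ cent x, k ^ n * w * (k ^ n)⁻¹ = (k * w * k⁻¹ * w⁻¹) ^ n * w := by
    intro n w hw
    induction n with
    | zero => simp
    | succ n ih =>
      rw [pow_succ' k, show k * k ^ n * w * (k * k ^ n)⁻¹ = k * (k ^ n * w * (k ^ n)⁻¹) * k⁻¹ by group, ih]
      calc k * ((k * w * k⁻¹ * w⁻¹) ^ n * w) * k⁻¹
          = k * (k * w * k⁻¹ * w⁻¹) ^ n * k⁻¹ * (k * w * k⁻¹ * w⁻¹) * w := by group
        _ = (k * w * k⁻¹ * w⁻¹) ^ (n + 1) * w := by
          rw [conj_mem_center (Subgroup.pow_mem Z (hk w hw) n), ← pow_succ]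
  refine mem_of_parts (cent x) k fun n s i hs hi => ?_
  obtain ⟨r, hr, hrs, hxr⟩ : ∃ r, r.Prime ∧ r ≠ s ∧ Has G r n[x] := by
    rcases eq_or_ne p s with rfl | hne
    exacts [⟨q, hq, hpq.symm, hxq⟩, ⟨p, hp, hne, hxp⟩]
  obtain ⟨w, hw, hwz, j, hj⟩ := exists_mem_of_has hr hxr
  obtain ⟨ζ, hζ⟩ : ∃ ζ, ζ = (k * w * k⁻¹ * w⁻¹) ^ n := ⟨_, rfl⟩
  have hζz : ζ ∈ Z := hζ ▸ Subgroup.pow_mem Z (hk w hw) n
  have e1 : k ^ n * w * (k ^ n)⁻¹ = ζ * w := by rw [hpow n w hw, hζ]
  have hζr : ζ ^ r ^ j = 1 := by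
    have h2 := congrArg (· ^ r ^ j) e1
    simp only [conj_pow, (show Commute ζ w from (Subgroup.mem_center_iff.mp hζz w).symm).mul_pow,
      ← hj, pow_orderOf_eq_one, mul_one, mul_inv_cancel] at h2
    rw [← hj]; exact h2.symm
  have hζs : ζ ^ s ^ i = 1 := by
    have h2 := hpow (n * s ^ i) w hw
    rw [pow_mul, pow_mul, ← hi, pow_orderOf_eq_one, hi, ← hζ] at h2
    simpa using h2.symm
  have hζ1 : ζ = 1 := by
    have h := mem_of_pow_coprime (⊥ : Subgroup G) (u := ζ) (((Nat.coprime_primes hr hs).mpr hrs).pow j i)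
      (by rw [hζr]; exact one_mem _) (by rw [hζs]; exact one_mem _)
    simpa using h
  rw [hζ1, one_mul] at e1
  refine hx.2 w hw hwz ▸ mem_cent.mpr ?_
  show k ^ n * w = w * k ^ n
  calc k ^ n * w = k ^ n * w * (k ^ n)⁻¹ * k ^ n := by group
    _ = w * k ^ n := by rw [e1]

/-- A prime whose part in the centraliser is not full gives a normalising element outside. -/
theorem exists_mover {x : G} {p : ℕ} [Fact p.Prime] (hxp : Has G p n[x])
    (hlt : n[x].factorization p < (Nat.card G).factorization p) :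
    ∃ (S : Sylow p G) (P : Subgroup G) (h u : G), P ≤ S ∧ P ≤ cent x ∧ h ∈ (S : Subgroup G) ∧ h ∉ cent x ∧
      (∀ v ∈ P, h * v * h⁻¹ ∈ P) ∧ (∀ v ∈ P, h⁻¹ * v * h ∈ P) ∧ u ∈ P ∧ u ∉ Z := by
  have hp : p.Prime := Fact.out
  obtain ⟨P⟩ := (inferInstance : Nonempty (Sylow p (cent x)))
  obtain ⟨S, hS⟩ := (P.isPGroup'.map (cent x).subtype).exists_le_sylow
  have hcard : Nat.card ↥((P : Subgroup (cent x)).map (cent x).subtype) = p ^ n[x].factorization p := by
    rw [Subgroup.card_map_of_injective (cent x).subtype_injective, P.card_eq_multiplicity]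
  have hne : (P : Subgroup (cent x)).map (cent x).subtype < S := by
    refine lt_of_le_of_ne hS fun heq => ?_
    have h1 : Nat.card ↥((P : Subgroup (cent x)).map (cent x).subtype) = Nat.card ↥(S : Subgroup G) := by
      rw [heq]
    rw [hcard, S.card_eq_multiplicity] at h1
    have := Nat.pow_right_injective hp.two_le h1
    omega
  obtain ⟨h, hhS, hhN, hhP⟩ := CfsgLib.Transfer.exists_mem_normalizer_not_mem S.isPGroup' hne
  obtain ⟨u, hu, huz⟩ : ∃ u ∈ (P : Subgroup (cent x)).map (cent x).subtype, u ∉ Z := by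
    by_contra hcon
    push Not at hcon
    refine absurd hxp (not_lt.mpr ?_)
    exact le_factorization_of_pow_dvd hp Nat.card_pos.ne' (hcard ▸ Subgroup.card_dvd_of_le hcon)
  refine ⟨S, _, h, u, hS, Subgroup.map_subtype_le _, hhS, fun hh => hhP ?_,
    fun v hv => (Subgroup.mem_normalizer_iff.mp hhN v).mp hv,
    fun v hv => ?_, hu, huz⟩
  · have h1 : (S : Subgroup G).comap (cent x).subtype = P :=
      P.is_maximal' (S.isPGroup'.comap_of_injective _ (cent x).subtype_injective) fun v hv => hS ⟨v, hv, rfl⟩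
    exact ⟨⟨h, hh⟩, h1 ▸ hhS, rfl⟩
  · have := (Subgroup.mem_normalizer_iff.mp ((Subgroup.normalizer _).inv_mem hhN) v).mp hv
    rwa [inv_inv] at this

/-- The odd primes of an inverted centraliser with two primes are full in it. -/
theorem full_of_inverted {g x : G} (hx : IsTI x) (hg : g ∉ cent x) (hn : Norm g x) (hg2 : g * g ∈ cent x)
    {p q : ℕ} (hp : p.Prime) (hp2 : p ≠ 2) (hq : q.Prime) (hpq : p ≠ q) (hxp : Has G p n[x])
    (hxq : Has G q n[x]) : (Nat.card G).factorization p ≤ n[x].factorization p := by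
  by_contra hlt
  rw [not_le] at hlt
  have : Fact p.Prime := ⟨hp⟩
  obtain ⟨hgg, hinv⟩ := inverts hx hg hn hg2
  obtain ⟨S, P, h, u, hPS, hPW, hhS, hh, hP1, hP2, hu, huz⟩ := exists_mover hxp hlt
  have hnh' : Norm h⁻¹ x := norm_of_conj_mem hx (hPW hu) huz (by rw [inv_inv]; exact hPW (hP2 u hu))
  -- an element fixed modulo the centre
  obtain ⟨b, hb, hbz, hbc⟩ : ∃ b ∈ P, b ∉ Z ∧ h * b * h⁻¹ * b⁻¹ ∈ Z := by
    have := S.isPGroup'.isNilpotent
    obtain ⟨n, hnil⟩ := Subgroup.nilpotent_iff_lowerCentralSeries.mp ‹Group.IsNilpotent (S : Subgroup G)›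
    obtain ⟨f, hf⟩ : ∃ f : G → G, f = fun v => h * v * h⁻¹ * v⁻¹ := ⟨_, rfl⟩
    have key : ∀ i : ℕ, f^[i] u ∈ P ∧ ∃ hm : f^[i] u ∈ (S : Subgroup G),
        (⟨_, hm⟩ : (S : Subgroup G)) ∈ (⊤ : Subgroup (S : Subgroup G)).lowerCentralSeries i := by
      intro i
      induction i with
      | zero => exact ⟨hu, hPS hu, by simp⟩
      | succ i ih =>
        obtain ⟨h1, h2, h3⟩ := ih
        rw [Function.iterate_succ_apply']
        generalize f^[i] u = w at h1 h2 h3 ⊢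
        subst hf
        refine ⟨P.mul_mem (hP1 _ h1) (P.inv_mem h1), hPS (P.mul_mem (hP1 _ h1) (P.inv_mem h1)), ?_⟩
        rw [Subgroup.lowerCentralSeries_succ, Subgroup.commutator_comm]
        exact Subgroup.commutator_mem_commutator (g₁ := (⟨h, hhS⟩ : (S : Subgroup G))) (Subgroup.mem_top _) h3
    classical
    have hex : ∃ i, f^[i] u ∈ Z := ⟨n, by
      obtain ⟨-, hm, h3⟩ := key n
      rw [hnil, Subgroup.mem_bot] at h3
      rw [show f^[n] u = 1 from congrArg Subtype.val h3]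
      exact one_mem _⟩
    obtain ⟨j, hj⟩ : ∃ j, Nat.find hex = j + 1 := Nat.exists_eq_succ_of_ne_zero fun e => huz (by
      simpa [e] using Nat.find_spec hex)
    refine ⟨f^[j] u, (key j).1, Nat.find_min hex (by omega), ?_⟩
    have := Nat.find_spec hex
    rw [hj, Function.iterate_succ_apply', hf] at this
    rwa [hf]
  obtain ⟨ζ, hζ⟩ : ∃ ζ, ζ = h * b * h⁻¹ * b⁻¹ := ⟨_, rfl⟩
  rw [← hζ] at hbc
  have hζ1 : ζ ≠ 1 := fun e => hh (hx.2 b (hPW hb) hbz ▸ mem_cent.mpr (by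
    show h * b = b * h
    calc h * b = ζ * b * h := by rw [hζ]; group
      _ = b * h := by rw [e, one_mul]))
  -- the commutator lies inside
  obtain ⟨c, hc⟩ : ∃ c, c = g * h * g⁻¹ * h⁻¹ := ⟨_, rfl⟩
  have hcW : c ∈ cent x := by
    refine mem_of_trivial_mod hx hp hq hpq hxp hxq fun w hw => ?_
    obtain ⟨v, hv⟩ : ∃ v, v = h⁻¹ * w * h := ⟨_, rfl⟩
    have hvW : v ∈ cent x := by have := hnh' w hw; rwa [inv_inv, ← hv] at this
    obtain ⟨z1, hz1⟩ : ∃ z, z = g * v * g⁻¹ * v := ⟨_, rfl⟩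
    obtain ⟨z2, hz2⟩ : ∃ z, z = g * w * g⁻¹ * w := ⟨_, rfl⟩
    have hz1m : z1 ∈ Z := hz1 ▸ hinv v hvW
    have hz2m : z2 ∈ Z := hz2 ▸ hinv w hw
    have e1 : g⁻¹ * v * g = z1 * v⁻¹ := by
      calc g⁻¹ * v * g = g⁻¹ * g⁻¹ * (g * v * g⁻¹) * (g * g) := by group
        _ = g * v * g⁻¹ := by
          rw [mul_assoc, Subgroup.mem_center_iff.mp hgg]; group
        _ = z1 * v⁻¹ := by rw [hz1]; group
    have e2 : c * w * c⁻¹ = z1 * (g * w * g⁻¹)⁻¹ := by
      calc c * w * c⁻¹ = g * (h * (g⁻¹ * (h⁻¹ * w * h) * g) * h⁻¹) * g⁻¹ := by rw [hc]; group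
        _ = g * (h * z1 * h⁻¹) * g⁻¹ * (g * (h * v⁻¹ * h⁻¹) * g⁻¹) := by rw [← hv, e1]; group
        _ = z1 * (g * w * g⁻¹)⁻¹ := by rw [conj_mem_center hz1m, conj_mem_center hz1m, hv]; group
    rw [e2, show z1 * (g * w * g⁻¹)⁻¹ * w⁻¹ = z1 * (w * (g * w * g⁻¹))⁻¹ by group,
      (hx.1 _ hw _ (hn w hw)).eq, ← hz2]
    exact Subgroup.mul_mem Z hz1m (Subgroup.inv_mem Z hz2m)
  -- the conjugate equation
  obtain ⟨z, hz⟩ : ∃ z, z = g * b * g⁻¹ * b := ⟨_, rfl⟩
  have hzm : z ∈ Z := hz ▸ hinv b (hPW hb)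
  have hcb : Commute c b := hx.1 _ hcW _ (hPW hb)
  have e3 : g * (h * b * h⁻¹) * g⁻¹ = z * ζ⁻¹ * b⁻¹ := by
    have hζc : Commute ζ c := (Subgroup.mem_center_iff.mp hbc c).symm
    calc g * (h * b * h⁻¹) * g⁻¹
        = (g * h * g⁻¹ * h⁻¹) * (h * (g * b * g⁻¹ * b * b⁻¹) * h⁻¹) * (g * h * g⁻¹ * h⁻¹)⁻¹ := by group
      _ = c * (h * z * h⁻¹ * (h * b * h⁻¹)⁻¹) * c⁻¹ := by rw [← hc, ← hz]; group
      _ = c * z * c⁻¹ * (c * b⁻¹ * c⁻¹) * (c * ζ⁻¹ * c⁻¹) := by
        rw [conj_mem_center hzm, show h * b * h⁻¹ = ζ * b by rw [hζ]; group]; group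
      _ = z * b⁻¹ * ζ⁻¹ := by
        rw [conj_mem_center hzm, hcb.inv_right.eq, mul_inv_cancel_right,
          conj_mem_center (Subgroup.inv_mem Z hbc)]
      _ = z * ζ⁻¹ * b⁻¹ := by
        rw [mul_assoc, mul_assoc, Subgroup.mem_center_iff.mp (Subgroup.inv_mem Z hbc) b⁻¹]
  have e4 : g * (h * b * h⁻¹) * g⁻¹ = z * ζ * b⁻¹ := by
    calc g * (h * b * h⁻¹) * g⁻¹ = g * ζ * g⁻¹ * (g * b * g⁻¹ * b) * b⁻¹ := by rw [hζ]; group
      _ = z * ζ * b⁻¹ := by rw [conj_mem_center hbc, ← hz, Subgroup.mem_center_iff.mp hzm ζ]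
  have h2 : ζ ^ 2 = 1 := by
    have := mul_left_cancel (mul_right_cancel (e3.symm.trans e4))
    rw [pow_two]
    exact inv_eq_iff_mul_eq_one.mp this
  obtain ⟨i, hi⟩ := S.isPGroup' ⟨ζ, hζ ▸ hPS (P.mul_mem (hP1 b hb) (P.inv_mem hb))⟩
  refine hζ1 ?_
  have h5 := mem_of_pow_coprime (⊥ : Subgroup G) (u := ζ) (i := 2) (j := p ^ i)
    (((Nat.coprime_primes Nat.prime_two hp).mpr hp2.symm).pow_right i) (by rw [h2]; exact one_mem _)
    (by rw [show ζ ^ p ^ i = 1 from congrArg Subtype.val hi]; exact one_mem _)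
  simpa using h5

/-- A non-full 2-part gives an inverting element. -/
theorem exists_inverter {x : G} (hx : IsTI x) (hx2 : Has G 2 n[x])
    (hlt : n[x].factorization 2 < (Nat.card G).factorization 2) :
    ∃ g : G, g ∉ cent x ∧ Norm g x ∧ g * g ∈ cent x := by
  have : Fact (Nat.Prime 2) := ⟨Nat.prime_two⟩
  obtain ⟨S, P, h, u, hPS, hPW, hhS, hh, hP1, -, hu, huz⟩ := exists_mover hx2 hlt
  have hnh : Norm h x := norm_of_conj_mem hx (hPW hu) huz (hPW (hP1 u hu))
  obtain ⟨i, hi⟩ := S.isPGroup' ⟨h, hhS⟩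
  classical
  have hex : ∃ j, h ^ 2 ^ j ∈ cent x := ⟨i, by
    rw [show h ^ 2 ^ i = 1 from congrArg Subtype.val hi]; exact one_mem _⟩
  obtain ⟨j, hj⟩ : ∃ j, Nat.find hex = j + 1 := Nat.exists_eq_succ_of_ne_zero fun e => hh (by
    simpa [e] using Nat.find_spec hex)
  refine ⟨h ^ 2 ^ j, Nat.find_min hex (by omega), hnh.pow _, ?_⟩
  have := Nat.find_spec hex
  rwa [hj, pow_succ, pow_mul, pow_two] at this

/-- An abelian centraliser with full odd Sylow subgroups makes the group soluble. -/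
theorem isSolvable_of_full {x : G} (hab : ∀ u ∈ cent x, ∀ v ∈ cent x, Commute u v)
    (hfull : ∀ p : ℕ, p.Prime → p ≠ 2 → (Nat.card G).factorization p ≤ n[x].factorization p) :
    Group.IsSolvable G := by
  have : Fact (Nat.Prime 2) := ⟨Nat.prime_two⟩
  obtain ⟨S⟩ := (inferInstance : Nonempty (Sylow 2 G))
  have := S.isPGroup'.isNilpotent
  refine CfsgLib.Solvable.isSolvable_of_mul_nilpotent (cent x) (S : Subgroup G) ?_ this fun g => ?_
  · exact @CommGroup.isNilpotent _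
      { (inferInstance : Group (cent x)) with mul_comm := fun u v => Subtype.ext (hab u u.2 v v.2).eq }
  have horb : MulAction.orbit (cent x) (QuotientGroup.mk (1 : G) : G ⧸ (S : Subgroup G)) = Set.univ := by
    refine Set.eq_of_subset_of_ncard_le (Set.subset_univ _) ?_ (Set.toFinite _)
    rw [Set.ncard_univ, ← Nat.card_coe_set_eq, Nat.card_coe_set_eq, ← MulAction.index_stabilizer,
      ← Subgroup.index_eq_card]
    refine Nat.le_of_dvd (Nat.pos_of_ne_zero Subgroup.index_ne_zero_of_finite) ?_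
    obtain ⟨K, hK⟩ : ∃ K, K = MulAction.stabilizer (cent x) (QuotientGroup.mk (1 : G) : G ⧸ (S : Subgroup G)) :=
      ⟨_, rfl⟩
    rw [← hK]
    have hKp : IsPGroup 2 K := fun k => by
      have hk : k.1 ∈ MulAction.stabilizer (cent x) (QuotientGroup.mk (1 : G) : G ⧸ (S : Subgroup G)) := hK ▸ k.2
      rw [MulAction.mem_stabilizer_iff] at hk
      have hk' : (QuotientGroup.mk ((k.1 : G) * 1) : G ⧸ (S : Subgroup G)) = QuotientGroup.mk 1 := hk
      rw [QuotientGroup.eq, mul_one, mul_one, inv_mem_iff] at hk'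
      obtain ⟨i, hi⟩ := S.isPGroup' ⟨_, hk'⟩
      exact ⟨i, Subtype.ext (Subtype.ext (by simpa using congrArg Subtype.val hi))⟩
    obtain ⟨e, he⟩ := IsPGroup.iff_card.mp hKp
    have hmul := K.card_mul_index
    rw [he] at hmul
    rw [← Nat.factorization_le_iff_dvd Subgroup.index_ne_zero_of_finite Subgroup.index_ne_zero_of_finite]
    intro r
    by_cases hr : r.Prime
    swap
    · rw [Nat.factorization_eq_zero_of_not_prime _ hr]; exact Nat.zero_le _
    rcases eq_or_ne r 2 with rfl | hr2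
    · rw [Nat.factorization_eq_zero_of_not_dvd S.not_dvd_index]; exact Nat.zero_le _
    calc (S : Subgroup G).index.factorization r ≤ (Nat.card G).factorization r :=
          factorization_le_of_dvd Nat.card_pos.ne' (S : Subgroup G).index_dvd_card r
      _ ≤ n[x].factorization r := hfull r hr hr2
      _ = K.index.factorization r := by
          rw [← hmul, Nat.factorization_mul (pow_ne_zero _ two_ne_zero) Subgroup.index_ne_zero_of_finite,
            Finsupp.add_apply, Nat.factorization_pow, Finsupp.smul_apply,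
            Nat.factorization_eq_zero_of_not_dvd (fun hd => hr2 ((Nat.prime_dvd_prime_iff_eq hr
              Nat.prime_two).mp hd)), smul_zero, zero_add]
  obtain ⟨w, hw⟩ : (QuotientGroup.mk g : G ⧸ (S : Subgroup G)) ∈
      MulAction.orbit (cent x) (QuotientGroup.mk (1 : G) : G ⧸ (S : Subgroup G)) := horb ▸ Set.mem_univ _
  have hw' : (QuotientGroup.mk ((w : G) * 1) : G ⧸ (S : Subgroup G)) = QuotientGroup.mk g := hw
  rw [mul_one, QuotientGroup.eq] at hw'
  exact ⟨w, w.2, _, hw', by group⟩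

end CfsgLib.Perm.ThreeSizes
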