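import Cfsg.Agent.Lib.Perm.ThreeSizes.Tools

/-!
# Centralisers of pairs: nilpotency and commutativity
-/

set_option autoImplicit false
set_option linter.unusedSectionVars false
set_option linter.unusedVariables false

namespace CfsgLib.Perm.ThreeSizes.Thick

open Subgroup
open CfsgLib.InvChar.ConjRank (cent mem_cent self_mem_cent mem_cent_comm cent_le_pow)

universe u
variable {G : Type u} [Group G] [Finite G] {a b : ℕ} (H : Hyp G a b)
include H

/-- A large centraliser with two central primes is abelian, or `b / a` is a power of a prime `r` and its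
elements of order prime to `r` are central. -/
theorem Hyp.oneSize {β γ : G} {p q : ℕ} (hβ : Pr β p) (hγ : Pr γ q) (hpq : p ≠ q)
    (he : cent β = cent γ) (hB : Nat.card (cent β) = b) :
    (∀ u ∈ cent β, ∀ v ∈ cent β, Commute u v) ∨
      ∃ r i : ℕ, r.Prime ∧ b / a = r ^ i ∧
        ∀ u ∈ cent β, (orderOf u).Coprime r → cent β ≤ cent u := by
  classical
  set D := cent β with hD
  by_cases hall : ∀ u ∈ D, D ≤ cent u
  · exact Or.inl fun u hu v hv => (mem_cent.1 (hall u hu hv)).symm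
  right
  push Not at hall
  obtain ⟨w, hwD, hw⟩ := hall
  have hcent : ∀ u : D, centralizer ({u} : Set D) = (cent (u : G)).subgroupOf D := fun u => by
    ext v
    rw [mem_centralizer_singleton_iff, mem_subgroupOf, mem_cent]
    exact Subtype.ext_iff
  have hind : ∀ u : D, Nat.card (D ⊓ cent (u : G) : Subgroup G) = a →
      (centralizer ({u} : Set D)).index = b / a := fun u hu => by
    have h1 := ((cent (u : G)).subgroupOf D).card_mul_index
    rw [← inf_subgroupOf_left, Nat.card_congr (subgroupOfEquivOfLe inf_le_left).toEquiv, hu, hB] at h1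
    rw [hcent, ← inf_subgroupOf_left, ← h1, Nat.mul_div_cancel_left _ H.pos]
  have hn : 1 < b / a := by
    obtain ⟨c, hc⟩ := H.dvd
    rw [hc, Nat.mul_div_cancel_left _ H.pos]
    rcases Nat.lt_or_ge 1 c with h | h
    · exact h
    · interval_cases c <;> simp at hc <;> have := H.lt <;> have := H.pos <;> omega
  have hsz : ∀ u : D, (centralizer ({u} : Set D)).index = 1 ∨ (centralizer ({u} : Set D)).index = b / a :=
    fun u => by
      rcases H.inf_card hβ hγ hpq he hB u.2 with h | h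
      · refine Or.inl ?_
        rw [hcent, subgroupOf_eq_top.2 h, index_top]
      · exact Or.inr (hind u h)
  obtain ⟨r, hr, i, hi, hP⟩ := Cfsg.Agent.S4134.result (G := D) (b / a) hn hsz
    ⟨⟨w, hwD⟩, hind _ ((H.inf_card hβ hγ hpq he hB hwD).resolve_left hw)⟩
  refine ⟨r, i, hr.out, hi, fun u hu huco d hd => ?_⟩
  obtain ⟨P⟩ := (inferInstance : Nonempty (Sylow r D))
  obtain ⟨hPn, ⟨N, hNn, hNP, hNab, hcomm⟩, -⟩ := hP P
  have huN : (⟨u, hu⟩ : D) ∈ N := by
    have h1 : orderOf ((⟨u, hu⟩ : D) : D ⧸ N) ∣ orderOf u :=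
      (orderOf_map_dvd (QuotientGroup.mk' N) ⟨u, hu⟩).trans (orderOf_mk u hu).dvd
    have h2 : orderOf ((⟨u, hu⟩ : D) : D ⧸ N) ∣ Nat.card (P : Subgroup D) := by
      rw [← hNP.symm.index_eq_card, index_eq_card]; exact orderOf_dvd_natCard _
    obtain ⟨j, hj⟩ := IsPGroup.iff_card.1 P.2
    rw [hj] at h2
    exact (QuotientGroup.eq_one_iff _).1 (orderOf_eq_one_iff.1
      (Nat.eq_one_of_dvd_coprimes (huco.pow_right j) h1 h2))
  have hle : (⊤ : Subgroup D) ≤ centralizer ({⟨u, hu⟩} : Set D) := by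
    rw [← hNP.sup_eq_top]
    exact sup_le (fun v hv => mem_centralizer_singleton_iff.2 (hNab.is_comm.comm ⟨v, hv⟩ ⟨_, huN⟩ |>
      congrArg Subtype.val)) fun v hv => mem_centralizer_singleton_iff.2 (hcomm _ huN v hv).symm
  exact mem_cent.2 (congrArg Subtype.val (mem_centralizer_singleton_iff.1 (hle (mem_top (⟨d, hd⟩ : D)))))

/-- In a large centraliser with two central primes, elements of coprime prime power orders commute. -/
theorem Hyp.oneSize_commute {β γ : G} {p q : ℕ} (hβ : Pr β p) (hγ : Pr γ q) (hpq : p ≠ q)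
    (he : cent β = cent γ) (hB : Nat.card (cent β) = b) {u v : G} (hu : u ∈ cent β) (hv : v ∈ cent β)
    (hco : (orderOf u).Coprime (orderOf v)) (hpu : ∃ l i, l.Prime ∧ orderOf u = l ^ i) : Commute u v := by
  rcases H.oneSize hβ hγ hpq he hB with h | ⟨r, -, hr, -, h⟩
  · exact h u hu v hv
  obtain ⟨l, i, hl, hi⟩ := hpu
  by_cases hlr : l = r
  · rcases Nat.eq_zero_or_pos i with rfl | hi0
    · rw [pow_zero, orderOf_eq_one_iff] at hi
      exact hi ▸ Commute.one_left v
    refine (mem_cent.1 (h v hv ?_ hu))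
    rw [hi, hlr] at hco
    exact ((Nat.coprime_pow_left_iff hi0 _ _).1 hco).symm
  · refine (mem_cent.1 (h u hu ?_ hv)).symm
    rw [hi]
    exact ((Nat.coprime_primes hl hr).2 hlr).pow_left i

/-- The centraliser of a pair is nilpotent: elements of coprime prime power orders commute. -/
theorem Hyp.commute_of_pair {β γ u v : G} {p q l m : ℕ} (hβ : Pr β p) (hγ : Pr γ q) (hpq : p ≠ q)
    (hc : Commute β γ) (hu : u ∈ cent (β * γ)) (hv : v ∈ cent (β * γ)) (hl : l.Prime) (hm : m.Prime)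
    (hul : ∃ i, orderOf u = l ^ i) (hvm : ∃ j, orderOf v = m ^ j) (hlm : l ≠ m) : Commute u v := by
  have hcop : (orderOf u).Coprime (orderOf v) := by
    obtain ⟨i, hi⟩ := hul
    obtain ⟨j, hj⟩ := hvm
    rw [hi, hj]; exact ((Nat.coprime_primes hl hm).2 hlm).pow i j
  rcases H.dichotomy hβ hγ hpq hc with hA | ⟨he, heq, hB⟩
  swap
  · exact H.oneSize_commute hβ hγ hpq he hB (heq ▸ hu) (heq ▸ hv) hcop
      (hul.elim fun i hi => ⟨l, i, hl, hi⟩)
  have hxn := hβ.mul_not_central hγ hpq hc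
  have eord := hc.orderOf_mul_eq_mul_orderOf_of_coprime (hβ.coprime hγ hpq)
  have hcen : ∀ {z : G} {s : ℕ}, z ∈ cent (β * γ) → s.Prime → (∃ i, orderOf z = s ^ i) → s ≠ p → s ≠ q →
      cent (β * γ) ≤ cent z := by
    rintro z s hz hs ⟨i, hi⟩ hsp hsq
    refine H.central_of_A hxn hA hz ?_
    rw [eord, hi]
    obtain ⟨j, hj⟩ := hβ.2.2
    obtain ⟨k, hk⟩ := hγ.2.2
    rw [hj, hk]
    exact Nat.Coprime.mul_left (((Nat.coprime_primes hβ.1 hs).2 hsp.symm).pow j i)
      (((Nat.coprime_primes hγ.1 hs).2 hsq.symm).pow k i)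
  by_cases hl' : l ≠ p ∧ l ≠ q
  · exact (mem_cent.1 (hcen hu hl hul hl'.1 hl'.2 hv)).symm
  by_cases hm' : m ≠ p ∧ m ≠ q
  · exact mem_cent.1 (hcen hv hm hvm hm'.1 hm'.2 hu)
  obtain ⟨s, e, he', hes, hsp, hsq⟩ := H.exists_part_ne hxn hβ.1 hγ.1
  have hce : cent (β * γ) ≤ cent e := hcen he' hes.1 hes.2.2 hsp hsq
  have hbe : Commute β e := mem_cent.1 (hce (mem_cent.2 ((Commute.refl β).mul_right hc)))
  have eE := cent_mul_eq hbe (hβ.coprime hes hsp.symm)
  have hle : cent (β * γ) ≤ cent (β * e) := by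
    rw [eE]; exact le_inf ((cent_mul_eq hc (hβ.coprime hγ hpq)).le.trans inf_le_left) hce
  rcases H.dichotomy hβ hes hsp.symm hbe with hA' | ⟨he2, -, hB2⟩
  · have heq := H.eq_A hxn hA' hle
    have hord := hbe.orderOf_mul_eq_mul_orderOf_of_coprime (hβ.coprime hes hsp.symm)
    have hlast : ∀ z ∈ cent (β * γ), (∃ i, orderOf z = q ^ i) → cent (β * γ) ≤ cent z := fun z hz ⟨i, hi⟩ => by
      refine heq ▸ H.central_of_A (hβ.mul_not_central hes hsp.symm hbe) hA' (heq ▸ hz) ?_
      rw [hord, hi]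
      obtain ⟨j, hj⟩ := hβ.2.2
      obtain ⟨k, hk⟩ := hes.2.2
      rw [hj, hk]
      exact Nat.Coprime.mul_left (((Nat.coprime_primes hβ.1 hγ.1).2 hpq).pow j i)
        (((Nat.coprime_primes hes.1 hγ.1).2 hsq).pow k i)
    by_cases hlq : l = q
    · exact (mem_cent.1 (hlast u hu (hlq ▸ hul) hv)).symm
    · have hmq : m = q := by omega
      exact mem_cent.1 (hlast v hv (hmq ▸ hvm) hu)
  · have hsub : cent (β * γ) ≤ cent β := (cent_mul_eq hc (hβ.coprime hγ hpq)).le.trans inf_le_left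
    exact H.oneSize_commute hβ hes hsp.symm he2 hB2 (hsub hu) (hsub hv) hcop
      (hul.elim fun i hi => ⟨l, i, hl, hi⟩)

/-- If `b / a` is not a prime power, two commuting noncentral elements of different primes have a small
centraliser or a common abelian one. -/
theorem Hyp.dichotomy' (hk : ∀ r i : ℕ, r.Prime → b / a ≠ r ^ i) {β γ : G} {p q : ℕ} (hβ : Pr β p)
    (hγ : Pr γ q) (hpq : p ≠ q) (hc : Commute β γ) :
    Nat.card (cent (β * γ)) = a ∨ (cent β = cent γ ∧ cent (β * γ) = cent β ∧ Nat.card (cent β) = b ∧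
      ∀ u ∈ cent β, ∀ v ∈ cent β, Commute u v) := by
  refine (H.dichotomy hβ hγ hpq hc).imp id fun h => ⟨h.1, h.2.1, h.2.2, ?_⟩
  exact (H.oneSize hβ hγ hpq h.1 h.2.2).resolve_right fun ⟨r, i, hr, hi, _⟩ => hk r i hr hi

/-- A small centraliser is not contained in an abelian large one. -/
theorem Hyp.not_le_abelian {g β : G} (hA : Nat.card (cent g) = a) (hB : Nat.card (cent β) = b)
    (h : cent g ≤ cent β) : ¬ ∀ u ∈ cent β, ∀ v ∈ cent β, Commute u v := fun hab => by
  have hle : cent β ≤ cent g := fun u hu => mem_cent.2 (hab u hu g (h (self_mem_cent g)))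
  have := H.lt
  have := Subgroup.card_le_of_le hle
  omega

/-- If `b / a` is not a prime power, small centralisers are abelian. -/
theorem Hyp.comm_of_A (hk : ∀ r i : ℕ, r.Prime → b / a ≠ r ^ i) {g : G} (hg : g ∉ center G)
    (hA : Nat.card (cent g) = a) : ∀ u ∈ cent g, ∀ v ∈ cent g, Commute u v := by
  -- a pair with the same centraliser
  obtain ⟨β, γ, p, q, hβ, hγ, hpq, hc, he⟩ : ∃ (β γ : G) (p q : ℕ), Pr β p ∧ Pr γ q ∧ p ≠ q ∧
      Commute β γ ∧ cent (β * γ) = cent g := by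
    obtain ⟨k, p, hp⟩ := exists_primary hg
    have : Fact p.Prime := ⟨hp.1⟩
    obtain ⟨g', u, n, hg', hg'z, huz, hco, hu⟩ := CfsgLib.Perm.CountingComplement.exists_parts p g
    have hup : Pr u p := by
      obtain ⟨i, -, hi⟩ := (Nat.dvd_prime_pow hp.1).1 (orderOf_dvd_of_pow_eq_one hu)
      exact ⟨hp.1, not_central_of_le (cent_zpowers (pow_mem_part hg' hg'z huz hco hu k hp.2.2)) hp.2.1, i, hi⟩
    have hle : cent g ≤ cent u := cent_zpowers huz
    rcases H.card _ hup.2.1 with hk' | hk'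
    · have heq := H.eq_A hg hk' hle
      obtain ⟨q, z, hz, hzq, hqp, -⟩ := H.exists_part_ne hup.2.1 hp.1 hp.1
      have hc : Commute u z := (mem_cent.1 hz).symm
      refine ⟨u, z, p, q, hup, hzq, hqp.symm, hc, ?_⟩
      rw [cent_mul_eq hc (hup.coprime hzq hqp.symm),
        inf_eq_left.2 (H.central_of_A hup.2.1 hk' hz (hup.coprime hzq hqp.symm)), heq]
    · -- the part of `g` prime to `p` is not central
      have hgn : g' ∉ center G := fun hzc => by
        have e : cent g = cent u := by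
          refine le_antisymm hle fun w hw => mem_cent.2 ?_
          rw [hg']
          exact (show Commute w g' from mem_center_iff.1 hzc w).mul_right (mem_cent.1 hw)
        have := H.lt
        rw [e, hk'] at hA
        omega
      obtain ⟨j, q, hq⟩ := exists_primary hgn
      have hqp : p ≠ q := by
        rintro rfl
        obtain ⟨i, hi⟩ := hq.2.2
        exact hq.2.1 ((orderOf_eq_one_iff.1 (Nat.eq_one_of_dvd_coprimes (hco.pow_right i)
          (orderOf_pow_dvd j) hi.dvd)) ▸ one_mem _)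
      have hgj : cent g ≤ cent (g' ^ j) := cent_zpowers (pow_mem hg'z j)
      have hc : Commute u (g' ^ j) := mem_cent.1 (hgj (mem_cent_comm.1 (hle (self_mem_cent g))))
      refine ⟨u, g' ^ j, p, q, hup, hq, hqp, hc, ?_⟩
      have hsub : cent g ≤ cent (u * g' ^ j) := by
        rw [cent_mul_eq hc (hup.coprime hq hqp)]; exact le_inf hle hgj
      rcases H.dichotomy' hk hup hq hqp hc with h | ⟨-, h2, h3, h4⟩
      · exact (H.eq_A hg h hsub).symm
      · exact absurd h4 (H.not_le_abelian hA h3 (hsub.trans h2.le))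
  have hxn := hβ.mul_not_central hγ hpq hc
  refine comm_of_primary fun u hu v hv hu' hv' => mem_cent.1 ?_ |>.symm
  rw [← he] at hu hv
  obtain ⟨l, i, hl, hi⟩ := hu'
  -- every primary element is central
  revert hv
  suffices h : cent (β * γ) ≤ cent u from fun hv => h hv
  by_cases hl' : l ≠ p ∧ l ≠ q
  · refine H.central_of_A hxn (he ▸ hA) hu ?_
    rw [hc.orderOf_mul_eq_mul_orderOf_of_coprime (hβ.coprime hγ hpq), hi]
    obtain ⟨j, hj⟩ := hβ.2.2
    obtain ⟨k, hk⟩ := hγ.2.2
    rw [hj, hk]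
    exact Nat.Coprime.mul_left (((Nat.coprime_primes hβ.1 hl).2 hl'.1.symm).pow j i)
      (((Nat.coprime_primes hγ.1 hl).2 hl'.2.symm).pow k i)
  obtain ⟨s, e, he', hes, hsp, hsq⟩ := H.exists_part_ne hxn hβ.1 hγ.1
  have hce : cent (β * γ) ≤ cent e := H.central_of_A hxn (he ▸ hA) he' (by
    rw [hc.orderOf_mul_eq_mul_orderOf_of_coprime (hβ.coprime hγ hpq)]
    exact (hβ.coprime hes hsp.symm).mul_left (hγ.coprime hes hsq.symm))
  -- replace the partner of the same prime by `e`
  obtain ⟨δ, r, hδ, hrl, hrs, hle⟩ : ∃ (δ : G) (r : ℕ), Pr δ r ∧ r ≠ l ∧ r ≠ s ∧ cent (β * γ) ≤ cent δ := by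
    have e0 := cent_mul_eq hc (hβ.coprime hγ hpq)
    by_cases hlp : p = l
    · exact ⟨γ, q, hγ, fun e => hpq (hlp.trans e.symm), hsq.symm, e0.le.trans inf_le_right⟩
    · exact ⟨β, p, hβ, hlp, hsp.symm, e0.le.trans inf_le_left⟩
  have hls : s ≠ l := by omega
  have hde : Commute δ e := mem_cent.1 (hce (mem_cent_comm.1 (hle (self_mem_cent _))))
  have hle2 : cent (β * γ) ≤ cent (δ * e) := by
    rw [cent_mul_eq hde (hδ.coprime hes hrs)]; exact le_inf hle hce
  rcases H.dichotomy' hk hδ hes hrs hde with hA' | ⟨-, h2, h3, h4⟩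
  · have heq := H.eq_A hxn hA' hle2
    refine heq ▸ H.central_of_A (hδ.mul_not_central hes hrs hde) hA' (heq ▸ hu) ?_
    rw [hde.orderOf_mul_eq_mul_orderOf_of_coprime (hδ.coprime hes hrs), hi]
    obtain ⟨j, hj⟩ := hδ.2.2
    obtain ⟨k, hk⟩ := hes.2.2
    rw [hj, hk]
    exact Nat.Coprime.mul_left (((Nat.coprime_primes hδ.1 hl).2 hrl).pow j i)
      (((Nat.coprime_primes hes.1 hl).2 hls).pow k i)
  · exact absurd h4 (H.not_le_abelian (he ▸ hA) h3 (hle2.trans h2.le))

end CfsgLib.Perm.ThreeSizes.Thick
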