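import Cfsg.Agent.Lib.Perm.ThreeSizes.Nil
import Cfsg.Agent.Lib.Perm.ThreeSizes.Acts
import Cfsg.Agent.Lib.Perm.ThreeSizes.TwoClosed

/-!
# The ratio of the two centraliser orders is a prime power
-/

set_option autoImplicit false
set_option linter.unusedSectionVars false

namespace CfsgLib.Perm.ThreeSizes.Thick

open Subgroup
open CfsgLib.InvChar.ConjRank (cent mem_cent self_mem_cent mem_cent_comm factorization_le_of_dvd
  factorization_card_le)

universe u
variable {G : Type u} [Group G] [Finite G] {a b : ℕ} (H : Hyp G a b)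
include H

theorem Hyp.ratio_mul : b / a * a = b := Nat.div_mul_cancel H.dvd

theorem Hyp.exists_odd_ratio (hk : ∀ r i : ℕ, r.Prime → b / a ≠ r ^ i) :
    ∃ s : ℕ, s.Prime ∧ s ≠ 2 ∧ s ∣ b / a ∧ a.factorization s < b.factorization s := by
  have h0 : b / a ≠ 0 := fun e => by
    have := H.ratio_mul
    rw [e, zero_mul] at this
    exact H.b_pos.ne' this.symm
  obtain ⟨s, hs, hs2, hsd⟩ : ∃ s : ℕ, s.Prime ∧ s ≠ 2 ∧ s ∣ b / a := by
    by_contra hcon
    push Not at hcon
    exact hk 2 _ Nat.prime_two (Nat.eq_prime_pow_of_unique_prime_dvd h0 fun {d} hd hdd => by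
      by_contra h
      exact hcon d hd h hdd)
  refine ⟨s, hs, hs2, hsd, ?_⟩
  rw [← H.ratio_mul, Nat.factorization_mul h0 H.pos.ne', Finsupp.add_apply]
  have := hs.factorization_pos_of_dvd h0 hsd
  omega

theorem Hyp.dvd_index {x : G} (hB : Nat.card (cent x) = b) {s : ℕ}
    (h : a.factorization s < b.factorization s) : s ∣ (center G).index := by
  obtain ⟨g, -, hg⟩ := H.exA
  have h1 := factorization_card_le (cent_inf_center g) s
  rw [hg] at h1
  have h2 : b.factorization s ≤ (Nat.card G).factorization s :=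
    hB ▸ factorization_le_of_dvd Nat.card_pos.ne' (card_subgroup_dvd_card _) s
  rw [← (center G).card_mul_index, Nat.factorization_mul Nat.card_pos.ne' index_ne_zero_of_finite,
    Finsupp.add_apply] at h2
  exact Nat.dvd_of_factorization_pos (by omega)

variable (hk : ∀ r i : ℕ, r.Prime → b / a ≠ r ^ i) {g : G} (hg : g ∉ center G)
  (hA : Nat.card (cent g) = a)
include hk hg hA

theorem Hyp.le_cent {x : G} (hx : x ∈ cent g) : cent g ≤ cent x := fun y hy =>
  mem_cent.2 (H.comm_of_A hk hg hA y hy x hx)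

/-- Commuting with noncentral elements of two primes of a small centraliser means lying in it. -/
theorem Hyp.two_fixed {β γ v : G} {p q : ℕ} (hβ : Pr β p) (hγ : Pr γ q) (hpq : p ≠ q) (hβA : β ∈ cent g)
    (hγA : γ ∈ cent g) (h1 : Commute v β) (h2 : Commute v γ) : v ∈ cent g := by
  have hc : Commute β γ := H.comm_of_A hk hg hA β hβA γ hγA
  have hle : cent g ≤ cent (β * γ) := by
    rw [cent_mul_eq hc (hβ.coprime hγ hpq)]
    exact le_inf (H.le_cent hk hg hA hβA) (H.le_cent hk hg hA hγA)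
  rcases H.dichotomy' hk hβ hγ hpq hc with h | ⟨-, -, h3, h4⟩
  · rw [H.eq_A hg h hle]
    exact mem_cent.2 (h1.mul_right h2)
  · exact absurd h4 (H.not_le_abelian hA h3 (H.le_cent hk hg hA hβA))

/-- Acting trivially modulo the centre on three primes of a small centraliser means lying in it. -/
theorem Hyp.mem_of_three {x y z d : G} {p q l : ℕ} (hx : Pr x p) (hy : Pr y q) (hz : Pr z l) (hpq : p ≠ q)
    (hpl : p ≠ l) (hql : q ≠ l) (hxA : x ∈ cent g) (hyA : y ∈ cent g) (hzA : z ∈ cent g)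
    (h1 : d ∈ cmod x) (h2 : d ∈ cmod y) (h3 : d ∈ cmod z) : d ∈ cent g := by
  refine CfsgLib.StructC.ClassCoprime.mem_of_primary fun k s hs h => ?_
  have hc : ∀ {w : G} {r : ℕ}, Pr w r → d ∈ cmod w → r ≠ s → Commute (d ^ k) w := fun hw hd hne =>
    commute_of_cmod (pow_mem hd k) (coprime_orderOf hs hw.1 hne.symm h hw.2.2)
  by_cases hps : p = s
  · exact H.two_fixed hk hg hA hy hz hql hyA hzA (hc hy h2 fun e => hpq (hps.trans e.symm))
      (hc hz h3 fun e => hpl (hps.trans e.symm))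
  by_cases hqs : q = s
  · exact H.two_fixed hk hg hA hx hz hpl hxA hzA (hc hx h1 hps) (hc hz h3 fun e => hql (hqs.trans e.symm))
  · exact H.two_fixed hk hg hA hx hy hpq hxA hyA (hc hx h1 hps) (hc hy h2 hqs)

/-- An element of the normaliser outside a small centraliser. -/
theorem Hyp.exists_outer {K : Subgroup G} {l : ℕ} (hl : l.Prime) (hK : cent g ≤ K)
    (hcen : ∀ y ∈ K, (∀ x ∈ part (cent g) l, Commute y x) → y ∈ cent g)
    (hlt : a.factorization l < (Nat.card K).factorization l) :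
    ∃ v ∈ K, v ∈ normalizer (cent g : Set G) ∧ v ∉ cent g ∧ ∃ i, orderOf v = l ^ i := by
  have : Fact l.Prime := ⟨hl⟩
  have hab := H.comm_of_A hk hg hA
  obtain ⟨v, hvK, hvN, hvT, hvo⟩ := exists_normalizing (part_isPGroup hab l) ((part_le _ _).trans hK)
    (by rwa [factorization_part hab, hA])
  refine ⟨v, hvK, mem_normalizer_fintype fun x hx => hcen _ ?_ fun t ht => ?_,
    fun hv => hvT ((mem_part hab).2 ⟨hv, (order_pow_iff hl).2 hvo⟩), hvo⟩
  · exact mul_mem (mul_mem hvK (hK hx)) (inv_mem hvK)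
  · have h1 : Commute x (v⁻¹ * t * v) := hab x hx _ (part_le _ _ (conj_mem_normalizer hvN ht).2)
    have h2 := h1.map (MulAut.conj v).toMonoidHom
    simpa [mul_assoc] using h2

/-- An element squaring into a small centraliser inverts a part or fixes an element of it. -/
theorem Hyp.inv_or_fixed {u : G} (hu : u ∈ normalizer (cent g : Set G)) (hu2 : u * u ∈ cent g) {l : ℕ}
    (hl : l.Prime) :
    (∀ x ∈ part (cent g) l, InvAt u x) ∨ ∃ x ∈ cent g, Pr x l ∧ Commute u x := by
  have hab := H.comm_of_A hk hg hA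
  refine or_iff_not_imp_right.2 fun hno x hx => ?_
  have hx' : u * x * u⁻¹ ∈ part (cent g) l := (conj_mem_normalizer (normalizer_le_part hab l hu) hx).1
  have hc := hab x (part_le _ _ hx) _ (part_le _ _ hx')
  by_contra hcon
  have hn : x * (u * x * u⁻¹) ∉ center G := fun h => hcon (invAt_of_mem hc h)
  exact hno ⟨_, part_le _ _ (mul_mem hx hx'), pr_of_part hab hl (mul_mem hx hx') hn,
    commute_mul_image (hab _ hu2 x (part_le _ _ hx)) hc⟩

/-- Every noncentral 2-element of a small centraliser has that centraliser. -/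
theorem Hyp.cent_two {e : G} (he : Pr e 2) (heA : e ∈ cent g) : cent e = cent g := by
  have hle := H.le_cent hk hg hA heA
  rcases H.card e he.2.1 with h | hB
  · exact (H.eq_A hg h hle).symm
  exfalso
  have hnab := H.not_le_abelian hA hB hle
  obtain ⟨s₀, hs₀, hs₀2, hs₀d, hs₀lt⟩ := H.exists_odd_ratio hk
  have hs₀i := H.dvd_index hB hs₀lt
  by_cases hreal : ∃ (r : ℕ) (w y : G), r.Prime ∧ r ≠ 2 ∧ w ∈ cent e ∧ y ∈ cent e ∧ orderOf w = r ∧
      (∃ k, orderOf y = 2 ^ k) ∧ y * w * y⁻¹ = w⁻¹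
  · obtain ⟨r, w, σ, hr, hr2, hwD, hσD, hwo, hσo, hinv⟩ := hreal
    have hne : w⁻¹ ≠ w := fun e => by
      have h2 : orderOf w ∣ 2 := orderOf_dvd_of_pow_eq_one (by
        rw [pow_two]; nth_rw 1 [← e]; exact inv_mul_cancel w)
      rw [hwo] at h2
      exact hr2 ((Nat.prime_dvd_prime_iff_eq hr Nat.prime_two).1 h2)
    have hw : Pr w r := ⟨hr, fun h => hne (by
      rw [← hinv, mem_center_iff.1 h σ, mul_inv_cancel_right]), 1, by rw [hwo, pow_one]⟩
    have hc : Commute e w := (mem_cent.1 hwD).symm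
    have hA' : Nat.card (cent (e * w)) = a :=
      (H.dichotomy' hk he hw hr2.symm hc).resolve_right fun h => hnab h.2.2.2
    have hg' := he.mul_not_central hw hr2.symm hc
    have hab' := H.comm_of_A hk hg' hA'
    have heq := cent_mul_eq hc (he.coprime hw hr2.symm)
    have heA' : e ∈ cent (e * w) := by rw [heq]; exact ⟨self_mem_cent e, mem_cent.2 hc⟩
    have hwA' : w ∈ cent (e * w) := by rw [heq]; exact ⟨hwD, self_mem_cent w⟩
    have hσe : Commute σ e := mem_cent.1 hσD
    have hσN : σ ∈ normalizer (cent (e * w) : Set G) := mem_normalizer_fintype fun x hx => by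
      rw [SetLike.mem_coe, heq] at hx ⊢
      refine ⟨(cent e).mul_mem ((cent e).mul_mem hσD hx.1) ((cent e).inv_mem hσD), mem_cent.2 ?_⟩
      have h1 := (mem_cent.1 hx.2).map (MulAut.conj σ).toMonoidHom
      simp only [MulEquiv.coe_toMonoidHom, MulAut.conj_apply, hinv] at h1
      exact inv_inv w ▸ h1.inv_right
    have hσA : σ ∉ cent (e * w) := fun h => hne (by
      rw [← hinv, (hab' σ h w hwA').eq, mul_inv_cancel_right])
    have hσ2 : σ * σ ∈ cent (e * w) := by
      rw [heq]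
      refine ⟨mul_mem hσD hσD, mem_cent.2 ?_⟩
      show σ * σ * w = w * (σ * σ)
      calc σ * σ * w = σ * (σ * w * σ⁻¹) * σ⁻¹ * (σ * σ) := by group
        _ = w * (σ * σ) := by
          rw [hinv, show σ * w⁻¹ * σ⁻¹ = (σ * w * σ⁻¹)⁻¹ by group, hinv, inv_inv]
    have hI : ∀ l : ℕ, l.Prime → l ≠ 2 → ∀ x ∈ part (cent (e * w)) l, InvAt σ x := fun l hl hl2 =>
      (H.inv_or_fixed hk hg' hA' hσN hσ2 hl).resolve_right fun ⟨x, hxA, hx, hσx⟩ =>
        hσA (H.two_fixed hk hg' hA' he hx hl2.symm heA' hxA hσe hσx)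
    obtain ⟨z₀, hz₀A, hz₀⟩ := H.exists_part hg' hs₀ hs₀i
    obtain ⟨v, hvD, hvN, hvA, hvo⟩ := H.exists_outer hk hg' hA' (K := cent e) hs₀
      (heq.le.trans inf_le_left) (fun y hy hcy => H.two_fixed hk hg' hA' he hz₀ hs₀2.symm heA' hz₀A
        (mem_cent.1 hy) (hcy z₀ (hz₀.mem_part hab' hz₀A))) (hB.symm ▸ hs₀lt)
    have hd : v * σ * v⁻¹ * σ⁻¹ ∈ cent (e * w) := by
      obtain ⟨l, hl, hli, hl2, -⟩ := H.exists_third Nat.prime_two Nat.prime_two
      obtain ⟨q, hq, hqi, hq2, hql⟩ := H.exists_third Nat.prime_two hl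
      obtain ⟨zl, hzlA, hzl⟩ := H.exists_part hg' hl hli
      obtain ⟨zq, hzqA, hzq⟩ := H.exists_part hg' hq hqi
      have hcm : ∀ {l : ℕ}, l.Prime → l ≠ 2 → ∀ x ∈ part (cent (e * w)) l,
          v * σ * v⁻¹ * σ⁻¹ ∈ cmod x := fun hl hl2 x hx =>
        cmod_comm (hI _ hl hl2 x hx) (hI _ hl hl2 _
          (conj_mem_normalizer (normalizer_le_part hab' _ hvN) hx).2)
      exact H.mem_of_three hk hg' hA' he hzl hzq hl2.symm hq2.symm hql.symm heA' hzlA hzqA
        (mem_cmod_of_commute (mem_cent.1 (mul_mem (mul_mem (mul_mem hvD hσD) (inv_mem hvD)) (inv_mem hσD))))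
        (hcm hl hl2 zl (hzl.mem_part hab' hzlA)) (hcm hq hq2 zq (hzq.mem_part hab' hzqA))
    have : Fact s₀.Prime := ⟨hs₀⟩
    refine key (part_isPGroup hab' s₀) (fun h => hz₀.2.1 (h (hz₀.mem_part hab' hz₀A)))
      (normalizer_le_part hab' _ hvN) hvo (normalizer_le_part hab' _ hσN) ?_ ?_ ?_ ?_
    · obtain ⟨i, hi⟩ := hσo
      rw [hi]
      exact ((Nat.coprime_primes Nat.prime_two hs₀).2 hs₀2.symm).pow_left i
    · intro x hx
      rw [show σ * v * σ⁻¹ * v⁻¹ = (v * σ * v⁻¹ * σ⁻¹)⁻¹ by group]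
      exact (hab' _ hd x (part_le _ _ hx)).inv_left
    · intro x hx hcx
      by_contra hxc
      exact hvA (H.two_fixed hk hg' hA' he (pr_of_part hab' hs₀ hx hxc) hs₀2.symm heA' (part_le _ _ hx)
        (mem_cent.1 hvD) hcx)
    · intro x hx hcx
      by_contra hxc
      exact hσA (H.two_fixed hk hg' hA' he (pr_of_part hab' hs₀ hx hxc) hs₀2.symm heA' (part_le _ _ hx)
        hσe hcx)
  -- no inverted element: a normal Sylow 2-subgroup
  push Not at hreal
  have : Fact (Nat.Prime 2) := ⟨Nat.prime_two⟩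
  obtain ⟨P⟩ := (inferInstance : Nonempty (Sylow 2 (cent e)))
  have hPn : (P : Subgroup (cent e)).Normal := sylow_two_normal (fun r w y hr hr2 hwo ⟨k, hk'⟩ h =>
    hreal r w y hr hr2 w.2 y.2 (by rw [orderOf_coe, hwo]) ⟨k, by rw [orderOf_coe, hk']⟩
      (congrArg Subtype.val h)) P
  obtain ⟨H₁, hC⟩ := exists_right_complement'_of_coprime (N := (P : Subgroup (cent e))) P.card_coprime_index
  have hodd : ¬ 2 ∣ Nat.card H₁ := hC.symm.index_eq_card ▸ P.not_dvd_index
  have hb : Nat.card (P : Subgroup (cent e)) * Nat.card H₁ = b := hC.card_mul_card.trans hB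
  obtain ⟨j, hj⟩ := IsPGroup.iff_card.1 P.isPGroup'
  -- centralisers in the complement
  have hcard : ∀ w : H₁, ((w : cent e) : G) ∉ center G →
      ∃ i : ℕ, 2 ^ i * Nat.card (centralizer ({w} : Set H₁)) = a ∧ i ≤ j := by
    intro w hw
    set x : G := ((w : cent e) : G) with hx
    have hco : (orderOf e).Coprime (orderOf x) := by
      obtain ⟨i, hi⟩ := he.2.2
      rw [hi, hx, orderOf_coe, orderOf_coe]
      exact (((Nat.Prime.coprime_iff_not_dvd Nat.prime_two).2 hodd).coprime_dvd_right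
        (orderOf_dvd_natCard w)).pow_left i
    have hce : Commute e x := (mem_cent.1 (w : cent e).2).symm
    have hJ : Nat.card (cent e ⊓ cent x : Subgroup G) = a := by
      rw [← cent_mul_eq hce hco]
      refine (H.card _ (not_central_of_le ((cent_mul_eq hce hco).le.trans inf_le_right) hw)).resolve_right
        fun hB' => ?_
      have hDx : cent e ≤ cent x :=
        (H.eq_B he.2.1 hB' ((cent_mul_eq hce hco).le.trans inf_le_left)).ge.trans
          ((cent_mul_eq hce hco).le.trans inf_le_right)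
      obtain ⟨k, r, hp⟩ := exists_primary hw
      have hr2 : r ≠ 2 := fun e2 => by
        subst e2
        obtain ⟨i, hi⟩ := hp.2.2
        have : orderOf (x ^ k) = 1 := Nat.eq_one_of_dvd_coprimes (hco.pow_left 1) (by
          rw [hi]
          obtain ⟨i', hi'⟩ := he.2.2
          rw [pow_one, hi']
          exact pow_dvd_pow 2 (by
            by_contra hlt
            have h1 : 2 ∣ orderOf x := (dvd_pow_self 2 (by omega : i ≠ 0)).trans
              (hi ▸ orderOf_pow_dvd k)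
            rw [hx, orderOf_coe, orderOf_coe] at h1
            exact hodd (h1.trans (orderOf_dvd_natCard w)))) (orderOf_pow_dvd k)
        exact hp.2.1 (orderOf_eq_one_iff.1 this ▸ one_mem _)
      have hc' : Commute e (x ^ k) := hce.pow_right k
      rcases H.dichotomy' hk he hp hr2.symm hc' with h | h
      · rw [cent_mul_eq hc' (he.coprime hp hr2.symm),
          inf_eq_left.2 (hDx.trans (CfsgLib.InvChar.ConjRank.cent_le_pow x k)), hB] at h
        exact H.lt.ne' h
      · exact hnab h.2.2.2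
    set E : Subgroup (cent e) := (cent x).subgroupOf (cent e) with hE
    have hEc : Nat.card E = a := by
      rw [hE, ← inf_subgroupOf_left, Nat.card_congr (subgroupOfEquivOfLe inf_le_left).toEquiv, hJ]
    let f : ↥(E ⊓ (P : Subgroup (cent e))) × ↥(E ⊓ H₁) → E := fun z =>
      ⟨(z.1 : cent e) * z.2, mul_mem z.1.2.1 z.2.2.1⟩
    have hf : Function.Bijective f := by
      refine ⟨fun z z' h => ?_, fun ⟨m, hm⟩ => ?_⟩
      · have h' : ((z.1 : cent e), (z.2 : cent e)) = ((z'.1 : cent e), (z'.2 : cent e)) := by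
          have := hC.1 (a₁ := (⟨z.1, z.1.2.2⟩, ⟨z.2, z.2.2.2⟩)) (a₂ := (⟨z'.1, z'.1.2.2⟩, ⟨z'.2, z'.2.2.2⟩))
            (congrArg Subtype.val h)
          simp only [Prod.mk.injEq, Subtype.mk.injEq] at this ⊢
          exact this
        simp only [Prod.mk.injEq] at h'
        exact Prod.ext (Subtype.ext h'.1) (Subtype.ext h'.2)
      · obtain ⟨⟨p, k⟩, hpk⟩ := hC.2 m
        simp only at hpk
        set W : cent e := (w : cent e)
        have hmW : W * m * W⁻¹ = m := Subtype.ext (by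
          have h1 : (m : G) * x = x * (m : G) := (mem_cent.1 hm).eq
          show x * (m : G) * x⁻¹ = m
          rw [← h1, mul_inv_cancel_right])
        have h2 := hC.1 (a₁ := (⟨W * p * W⁻¹, hPn.conj_mem _ p.2 W⟩,
          ⟨W * k * W⁻¹, mul_mem (mul_mem w.2 k.2) (inv_mem w.2)⟩)) (a₂ := (p, k)) (by
            show W * p * W⁻¹ * (W * k * W⁻¹) = (p : cent e) * k
            rw [hpk, ← hmW, ← hpk]; group)
        simp only [Prod.ext_iff, Subtype.ext_iff] at h2
        have hfix : ∀ z : cent e, W * z * W⁻¹ = z → z ∈ E := fun z hz => mem_cent.2 (by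
          have := congrArg (fun t : cent e => (t : G)) (mul_inv_eq_iff_eq_mul.1 hz)
          exact this.symm)
        exact ⟨(⟨p, hfix p (Subtype.ext h2.1), p.2⟩, ⟨k, hfix k (Subtype.ext h2.2), k.2⟩), Subtype.ext hpk⟩
    have hEH : Nat.card (centralizer ({w} : Set H₁)) = Nat.card ↥(E ⊓ H₁) := by
      have h1 : centralizer ({w} : Set H₁) = E.subgroupOf H₁ := by
        ext v
        rw [mem_centralizer_singleton_iff, mem_subgroupOf, hE, mem_subgroupOf, mem_cent, hx, Subtype.ext_iff,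
          Subtype.ext_iff]
        exact Iff.rfl
      rw [h1, ← inf_subgroupOf_right, Nat.card_congr (subgroupOfEquivOfLe inf_le_right).toEquiv]
    obtain ⟨i, hij, hi⟩ := (Nat.dvd_prime_pow Nat.prime_two).1
      (hj ▸ Subgroup.card_dvd_of_le (inf_le_right : E ⊓ (P : Subgroup (cent e)) ≤ P))
    refine ⟨i, ?_, hij⟩
    rw [hEH, ← hi, ← Nat.card_prod, Nat.card_congr (Equiv.ofBijective f hf), hEc]
  obtain ⟨z₁, hz₁H, hz₁⟩ := H.exists_pr (K := H₁.map (cent e).subtype) hs₀ hs₀i (by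
    rw [card_map_of_injective (cent e).subtype_injective]
    refine (H.fac_le s₀).trans (le_of_eq ?_)
    rw [← hb, hj, Nat.factorization_mul (pow_ne_zero _ two_ne_zero) Nat.card_pos.ne', Finsupp.add_apply,
      Nat.Prime.factorization_pow Nat.prime_two, Finsupp.single_eq_of_ne hs₀2, zero_add])
  obtain ⟨w₁', hw₁, rfl⟩ := mem_map.1 hz₁H
  set w₁ : H₁ := ⟨w₁', hw₁⟩
  obtain ⟨i₁, hi₁, hij⟩ := hcard w₁ hz₁.2.1
  set n := (centralizer ({w₁} : Set H₁)).index with hn
  have hall : ∀ w : H₁, ((w : cent e) : G) ∉ center G → (centralizer ({w} : Set H₁)).index = n := by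
    intro w hw
    obtain ⟨i, hi, -⟩ := hcard w hw
    have hodd' : ∀ v : H₁, (Nat.card (centralizer ({v} : Set H₁))).Coprime 2 := fun v =>
      (((Nat.Prime.coprime_iff_not_dvd Nat.prime_two).2 hodd).symm).coprime_dvd_left (card_subgroup_dvd_card _)
    have he' : Nat.card (centralizer ({w} : Set H₁)) = Nat.card (centralizer ({w₁} : Set H₁)) :=
      Nat.dvd_antisymm (((hodd' w).pow_right i₁).dvd_of_dvd_mul_left (hi₁ ▸ hi ▸ dvd_mul_left _ _))
        (((hodd' w₁).pow_right i).dvd_of_dvd_mul_left (hi ▸ hi₁ ▸ dvd_mul_left _ _))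
    have h1 := (centralizer ({w} : Set H₁)).card_mul_index
    rw [he', ← (centralizer ({w₁} : Set H₁)).card_mul_index] at h1
    exact Nat.eq_of_mul_eq_mul_left Nat.card_pos h1
  have hn1 : 1 < n := by
    by_contra hle
    have : n = 1 := by
      have := (centralizer ({w₁} : Set H₁)).index_ne_zero_of_finite
      omega
    have h1 := (centralizer ({w₁} : Set H₁)).card_mul_index
    rw [← hn, this, mul_one] at h1
    refine hk 2 (j - i₁) Nat.prime_two ?_
    rw [← hb, ← hi₁, h1, hj, Nat.mul_div_mul_right _ _ Nat.card_pos, Nat.pow_div hij two_pos]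
  obtain ⟨r, hr, -, -, hP'⟩ := Cfsg.Agent.S4134.result (G := H₁) n hn1 (fun w => by
    by_cases hw : ((w : cent e) : G) ∈ center G
    · refine Or.inl ?_
      rw [index_eq_one, eq_top_iff]
      intro v _
      exact mem_centralizer_singleton_iff.2 (Subtype.ext (Subtype.ext (mem_center_iff.1 hw _)))
    · exact Or.inr (hall w hw)) ⟨w₁, rfl⟩
  obtain ⟨R⟩ := (inferInstance : Nonempty (Sylow r H₁))
  obtain ⟨-, ⟨N, hNn, hNR, hNab, hcomm⟩, -⟩ := hP' R
  obtain ⟨t, ht, hti, ht2, htr⟩ := H.exists_third Nat.prime_two hr.out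
  obtain ⟨z, hzH, hz⟩ := H.exists_pr (K := H₁.map (cent e).subtype) ht hti (by
    rw [card_map_of_injective (cent e).subtype_injective]
    refine (H.fac_le t).trans (le_of_eq ?_)
    rw [← hb, hj, Nat.factorization_mul (pow_ne_zero _ two_ne_zero) Nat.card_pos.ne', Finsupp.add_apply,
      Nat.Prime.factorization_pow Nat.prime_two, Finsupp.single_eq_of_ne ht2, zero_add])
  obtain ⟨z', hz', rfl⟩ := mem_map.1 hzH
  set wz : H₁ := ⟨z', hz'⟩
  have hzN : wz ∈ N := by
    obtain ⟨i, hi⟩ := hz.2.2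
    have h1 : orderOf ((wz : H₁) : H₁ ⧸ N) ∣ t ^ i := by
      rw [← hi]
      exact (orderOf_map_dvd (QuotientGroup.mk' N) wz).trans (dvd_of_eq (by
        show orderOf wz = orderOf ((z' : cent e) : G)
        rw [orderOf_coe]; exact orderOf_mk z' hz'))
    obtain ⟨j', hj'⟩ := IsPGroup.iff_card.1 R.isPGroup'
    have h2 : orderOf ((wz : H₁) : H₁ ⧸ N) ∣ r ^ j' := by
      rw [← hj', ← hNR.symm.index_eq_card, index_eq_card]
      exact orderOf_dvd_natCard _
    exact (QuotientGroup.eq_one_iff _).1 (orderOf_eq_one_iff.1 (Nat.eq_one_of_dvd_coprimes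
      (((Nat.coprime_primes ht hr.out).2 htr).pow i j') h1 h2))
  have htop : centralizer ({wz} : Set H₁) = ⊤ := top_le_iff.1 <| by
    rw [← hNR.sup_eq_top]
    exact sup_le (fun v hv => mem_centralizer_singleton_iff.2
      (congrArg Subtype.val (hNab.is_comm.comm ⟨v, hv⟩ ⟨_, hzN⟩))) fun v hv =>
        mem_centralizer_singleton_iff.2 (hcomm _ hzN v hv).symm
  have := hall wz hz.2.1
  rw [htop, index_top] at this
  omega

/-- Commuting modulo a small centraliser is impossible for a 2-element and an odd element. -/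
theorem Hyp.false_of_comm {u v : G} {s : ℕ} (hu : u ∈ normalizer (cent g : Set G)) (huA : u ∉ cent g)
    (huo : ∃ i, orderOf u = 2 ^ i) (hv : v ∈ normalizer (cent g : Set G)) (hvA : v ∉ cent g)
    (hs : s.Prime) (hs2 : s ≠ 2) (hvo : ∃ i, orderOf v = s ^ i)
    (hd : v * u * v⁻¹ * u⁻¹ ∈ cent g) : False := by
  have : Fact (Nat.Prime 2) := ⟨Nat.prime_two⟩
  have hab := H.comm_of_A hk hg hA
  obtain ⟨e, heA, he⟩ := H.exists_part hg Nat.prime_two H.two_dvd
  have hout : ∀ y : G, y ∉ cent g → ∀ x ∈ part (cent g) 2, Commute y x → x ∈ center G := fun y hy x hx hc => by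
    by_contra hxc
    have hxp := pr_of_part hab Nat.prime_two hx hxc
    exact hy (H.cent_two hk hg hA hxp (part_le _ _ hx) ▸ mem_cent.2 hc)
  refine key (part_isPGroup hab 2) (fun h => he.2.1 (h (he.mem_part hab heA)))
    (normalizer_le_part hab _ hu) huo (normalizer_le_part hab _ hv) ?_
    (fun x hx => hab _ hd x (part_le _ _ hx)) (hout u huA) (hout v hvA)
  obtain ⟨i, hi⟩ := hvo
  rw [hi]
  exact ((Nat.coprime_primes hs Nat.prime_two).2 hs2).pow_left i

/-- The 2-part is inverted by every 2-element of the normaliser squaring inside. -/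
theorem Hyp.inv_two {u : G} (hu : u ∈ normalizer (cent g : Set G)) (huA : u ∉ cent g)
    (huo : ∃ i, orderOf u = 2 ^ i) (hu2 : u * u ∈ cent g) : ∀ x ∈ part (cent g) 2, InvAt u x := by
  have hab := H.comm_of_A hk hg hA
  have huu : u * u ∈ part (cent g) 2 := (mem_part hab).2 ⟨hu2, by
    obtain ⟨i, hi⟩ := huo
    exact ⟨i, by rw [← pow_two, ← pow_mul, mul_comm, pow_mul, ← hi, pow_orderOf_eq_one, one_pow]⟩⟩
  have hsq : ∀ x ∈ part (cent g) 2, x * (u * x * u⁻¹) * (u * u) ∈ center G := fun x hx => by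
    have hm := mul_mem (mul_mem hx (conj_mem_normalizer (normalizer_le_part hab 2 hu) hx).1) huu
    by_contra hc
    have hp := pr_of_part hab Nat.prime_two hm hc
    have hxu : x * u ∈ cent g := H.cent_two hk hg hA hp (part_le _ _ hm) ▸ mem_cent.2 (by
      rw [show x * (u * x * u⁻¹) * (u * u) = (x * u) * (x * u) by group]
      exact (Commute.refl _).mul_right (Commute.refl _))
    exact huA (by simpa using mul_mem (inv_mem (part_le _ _ hx)) hxu)
  intro x hx
  have h1 : u * u ∈ center G := by simpa using hsq 1 (one_mem _)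
  have h2 := mul_mem (hsq x hx) (inv_mem h1)
  rw [mul_inv_cancel_right] at h2
  exact invAt_of_mem (hab x (part_le _ _ hx) _ (part_le _ _
    (conj_mem_normalizer (normalizer_le_part hab 2 hu) hx).1)) h2

omit hg hA in
include hk in
/-- The ratio is a prime power. -/
theorem Hyp.false_of_nonpower : False := by
  obtain ⟨g, hg, hA⟩ := H.exA
  have hab := H.comm_of_A hk hg hA
  have : Fact (Nat.Prime 2) := ⟨Nat.prime_two⟩
  obtain ⟨e, heA, he⟩ := H.exists_part hg Nat.prime_two H.two_dvd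
  -- a 2-element of the normaliser
  obtain ⟨u₀, -, hu₀N, hu₀A, hu₀o⟩ := H.exists_outer hk hg hA (K := ⊤) Nat.prime_two le_top
    (fun y _ hy => H.cent_two hk hg hA he heA ▸ mem_cent.2 (hy e (he.mem_part hab heA)))
    (by rw [card_top]; exact H.lt_full Nat.prime_two H.two_dvd)
  obtain ⟨j, huA, hu2⟩ := exists_square hu₀A hu₀o
  set u := u₀ ^ 2 ^ j with hu
  have huN : u ∈ normalizer (cent g : Set G) := pow_mem hu₀N _
  have huo : ∃ i, orderOf u = 2 ^ i := by
    obtain ⟨i, hi⟩ := hu₀o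
    obtain ⟨m, -, hm⟩ := (Nat.dvd_prime_pow Nat.prime_two).1 (hi ▸ orderOf_pow_dvd (x := u₀) (2 ^ j))
    exact ⟨m, hm⟩
  -- two odd primes, the first inverted
  obtain ⟨l, q, hl, hli, hl2, hq, hqi, hq2, hlq, hIl⟩ : ∃ l q : ℕ, l.Prime ∧ l ∣ (center G).index ∧ l ≠ 2 ∧
      q.Prime ∧ q ∣ (center G).index ∧ q ≠ 2 ∧ l ≠ q ∧ ∀ x ∈ part (cent g) l, InvAt u x := by
    obtain ⟨l, hl, hli, hl2, -⟩ := H.exists_third Nat.prime_two Nat.prime_two
    obtain ⟨q, hq, hqi, hq2, hql⟩ := H.exists_third Nat.prime_two hl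
    rcases H.inv_or_fixed hk hg hA huN hu2 hl with h | ⟨x, hxA, hx, hux⟩
    · exact ⟨l, q, hl, hli, hl2, hq, hqi, hq2, hql.symm, h⟩
    rcases H.inv_or_fixed hk hg hA huN hu2 hq with h | ⟨y, hyA, hy, huy⟩
    · exact ⟨q, l, hq, hqi, hq2, hl, hli, hl2, hql, h⟩
    · exact (huA (H.two_fixed hk hg hA hx hy hql.symm hxA hyA hux huy)).elim
  -- an odd element of the normaliser
  obtain ⟨v, s, hs, hs2, hvN, hvA, hvo⟩ : ∃ (v : G) (s : ℕ), s.Prime ∧ s ≠ 2 ∧
      v ∈ normalizer (cent g : Set G) ∧ v ∉ cent g ∧ ∃ i, orderOf v = s ^ i := by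
    by_cases hex : ∃ (z : G) (s : ℕ), s ≠ 2 ∧ z ∈ cent g ∧ Pr z s ∧ Nat.card (cent z) = a
    · obtain ⟨z, s, hs2, hzA, hz, hza⟩ := hex
      have heq := (H.eq_A hg hza (H.le_cent hk hg hA hzA)).symm
      obtain ⟨v, -, h1, h2, h3⟩ := H.exists_outer hk hg hA (K := ⊤) hz.1 le_top
        (fun y _ hy => heq ▸ mem_cent.2 (hy z (hz.mem_part hab hzA)))
        (by rw [card_top]; exact H.lt_full hz.1 (H.prime_dvd hz))
      exact ⟨v, s, hz.1, hs2, h1, h2, h3⟩
    push Not at hex
    obtain ⟨s, hs, hs2, -, hlt⟩ := H.exists_odd_ratio hk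
    obtain ⟨p, hp, hpi, hp2, hps⟩ : ∃ p : ℕ, p.Prime ∧ p ∣ (center G).index ∧ p ≠ 2 ∧ p ≠ s := by
      by_cases h : l = s
      · exact ⟨q, hq, hqi, hq2, fun e => hlq (h.trans e.symm)⟩
      · exact ⟨l, hl, hli, hl2, h⟩
    obtain ⟨y, hyA, hy⟩ := H.exists_part hg hp hpi
    have hyB : Nat.card (cent y) = b := (H.card y hy.2.1).resolve_left (hex y p hp2 hyA hy)
    obtain ⟨z, hzA, hz⟩ := H.exists_part hg hs (H.dvd_index hyB hlt)
    obtain ⟨v, -, h1, h2, h3⟩ := H.exists_outer hk hg hA (K := cent y) hs (H.le_cent hk hg hA hyA)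
      (fun w hw hcw => H.two_fixed hk hg hA hy hz hps hyA hzA (mem_cent.1 hw)
        (hcw z (hz.mem_part hab hzA))) (hyB.symm ▸ hlt)
    exact ⟨v, s, hs, hs2, h1, h2, h3⟩
  set d := v * u * v⁻¹ * u⁻¹ with hd
  have hd2 : ∀ x ∈ part (cent g) 2, d ∈ cmod x := fun x hx =>
    cmod_comm (H.inv_two hk hg hA huN huA huo hu2 x hx)
      (H.inv_two hk hg hA huN huA huo hu2 _ (conj_mem_normalizer (normalizer_le_part hab _ hvN) hx).2)
  have hdl : ∀ x ∈ part (cent g) l, d ∈ cmod x := fun x hx =>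
    cmod_comm (hIl x hx) (hIl _ (conj_mem_normalizer (normalizer_le_part hab _ hvN) hx).2)
  have hdN : d ∈ normalizer (cent g : Set G) :=
    mul_mem (mul_mem (mul_mem hvN huN) (inv_mem hvN)) (inv_mem huN)
  by_cases hdA : d ∈ cent g
  · exact H.false_of_comm hk hg hA huN huA huo hvN hvA hs hs2 hvo hdA
  obtain ⟨k, r, hr, hko, hkA⟩ : ∃ (k r : ℕ), r.Prime ∧ (∃ i, orderOf (d ^ k) = r ^ i) ∧ d ^ k ∉ cent g := by
    by_contra hcon
    push Not at hcon
    exact hdA (CfsgLib.StructC.ClassCoprime.mem_of_primary fun k r hr hi => hcon k r hr hi)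
  have hr2 : r = 2 := by
    by_contra hr2
    exact hkA (H.cent_two hk hg hA he heA ▸ mem_cent.2 (commute_of_cmod
      (pow_mem (hd2 e (he.mem_part hab heA)) k) (coprime_orderOf hr Nat.prime_two hr2 hko he.2.2)))
  subst hr2
  obtain ⟨m, hwA, hw2⟩ := exists_square hkA hko
  set w := (d ^ k) ^ 2 ^ m with hw
  have hwN : w ∈ normalizer (cent g : Set G) := pow_mem (pow_mem hdN k) _
  have hwo : ∃ i, orderOf w = 2 ^ i := by
    obtain ⟨i, hi⟩ := hko
    obtain ⟨m', -, hm⟩ := (Nat.dvd_prime_pow Nat.prime_two).1 (hi ▸ orderOf_pow_dvd (x := d ^ k) (2 ^ m))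
    exact ⟨m', hm⟩
  have hw2' : ∀ x ∈ part (cent g) 2, w ∈ cmod x := fun x hx => pow_mem (pow_mem (hd2 x hx) k) _
  have hwl : ∀ x ∈ part (cent g) l, w ∈ cmod x := fun x hx => pow_mem (pow_mem (hdl x hx) k) _
  obtain ⟨zl, hzlA, hzl⟩ := H.exists_part hg hl hli
  obtain ⟨zq, hzqA, hzq⟩ := H.exists_part hg hq hqi
  have hzlp := hzl.mem_part hab hzlA
  have hIq : ∀ x ∈ part (cent g) q, InvAt w x :=
    (H.inv_or_fixed hk hg hA hwN hw2 hq).resolve_right fun ⟨x, hxA, hx, hwx⟩ =>
      hwA (H.two_fixed hk hg hA hzl hx hlq hzlA hxA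
        (commute_of_cmod (hwl zl hzlp) (coprime_orderOf Nat.prime_two hl hl2.symm hwo hzl.2.2)) hwx)
  refine H.false_of_comm hk hg hA hwN hwA hwo hvN hvA hs hs2 hvo ?_
  exact H.mem_of_three hk hg hA he hzl hzq hl2.symm hq2.symm hlq heA hzlA hzqA
    (cmod_comm_trivial (hw2' e (he.mem_part hab heA))
      (hw2' _ (conj_mem_normalizer (normalizer_le_part hab _ hvN) (he.mem_part hab heA)).2))
    (cmod_comm_trivial (hwl zl hzlp) (hwl _ (conj_mem_normalizer (normalizer_le_part hab _ hvN) hzlp).2))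
    (cmod_comm (hIq zq (hzq.mem_part hab hzqA))
      (hIq _ (conj_mem_normalizer (normalizer_le_part hab _ hvN) (hzq.mem_part hab hzqA)).2))

end CfsgLib.Perm.ThreeSizes.Thick
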