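import Cfsg.Agent.Lib.Perm.ThreeSizes.Nil
import Cfsg.Agent.Lib.Perm.ThreeSizes.Acts
import Cfsg.Agent.Lib.StructB.InvertedOdd
import Cfsg.Agent.Lib.StructB.Misc
import Cfsg.Agent.Lib.Solvable.NilpotentHall
import Cfsg.Agent.S4034

/-!
# The ratio of the two centraliser orders is not a prime power
-/

set_option autoImplicit false
set_option linter.unusedSectionVars false

namespace CfsgLib.Perm.ThreeSizes.Thick

open Subgroup
open scoped Pointwise
open CfsgLib.InvChar.ConjRank (cent mem_cent self_mem_cent mem_cent_comm factorization_le_of_dvd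
  factorization_card_le mem_of_pow_coprime card_cent_conj)

universe u
variable {G : Type u} [Group G]

/-- An abelian Hall `r'`-subgroup of the centraliser of a noncentral `r`-element. -/
structure Pow (G : Type u) [Group G] (a r : ℕ) (x : G) (K : Subgroup G) : Prop where
  pr : Pr x r
  fac : ∀ y : G, y ∉ center G → ∀ p, p ≠ r → (Nat.card (cent y)).factorization p = a.factorization p
  le : K ≤ cent x
  comm : ∀ u ∈ K, ∀ v ∈ K, Commute u v
  hall : ∀ p, p ≠ r → (Nat.card K).factorization p = a.factorization p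
  ncop : ¬ r ∣ Nat.card K

variable [Finite G]

theorem mem_of_sq {K : Subgroup G} {x : G} (h : x * x ∈ K) (hodd : (orderOf x).Coprime 2) : x ∈ K :=
  mem_of_pow_coprime K hodd (by rw [pow_orderOf_eq_one]; exact one_mem _) (by rwa [pow_two])

variable {a b r : ℕ} (H : Hyp G a b)
include H

/-- The Hall subgroup exists. -/
theorem Hyp.exists_pow {α : ℕ} (hα : b / a = r ^ α) {x : G} (hx : Pr x r) :
    ∃ K, Pow G a r x K := by
  have hr := hx.1
  have hb : r ^ α * a = b := hα ▸ Nat.div_mul_cancel H.dvd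
  have hfac : ∀ y : G, y ∉ center G → ∀ p, p ≠ r →
      (Nat.card (cent y)).factorization p = a.factorization p := fun y hy p hp => by
    rcases H.card y hy with h | h <;> rw [h]
    rw [← hb, Nat.factorization_mul (pow_ne_zero _ hr.ne_zero) H.pos.ne', Finsupp.add_apply,
      hr.factorization_pow, Finsupp.single_eq_of_ne hp, zero_add]
  have := Fintype.ofFinite (cent x)
  have hconv : ∀ w : cent x, (ConjClasses.mk w).carrier.ncard = (centralizer ({w} : Set (cent x))).index :=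
    fun w => (Nat.card_coe_set_eq _).symm.trans (CfsgLib.Char.natCard_carrier_eq_index w)
  obtain ⟨K, hKab, hKr, k, hKi⟩ := (Cfsg.Agent.S4034.result (G := cent x) hr).1 fun w hw => by
    rw [hconv]
    set wG : G := (w : G) with hwG
    have hc : Commute x wG := (mem_cent.1 w.2).symm
    have hco : (orderOf x).Coprime (orderOf wG) := by
      obtain ⟨i, hi⟩ := hx.2.2
      rw [hi, hwG, orderOf_coe]
      exact hw.symm.pow_left i
    have hcc := cent_mul_eq hc hco
    have hne : x * wG ∉ center G := not_central_of_le (hcc.le.trans inf_le_left) hx.2.1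
    have hcard : Nat.card (centralizer ({w} : Set (cent x))) = Nat.card (cent (x * wG)) := by
      have h1 : centralizer ({w} : Set (cent x)) = (cent wG).subgroupOf (cent x) := by
        ext v
        rw [mem_centralizer_singleton_iff, mem_subgroupOf, mem_cent, hwG, Subtype.ext_iff]
        exact Iff.rfl
      rw [h1, ← inf_subgroupOf_left, Nat.card_congr (subgroupOfEquivOfLe inf_le_left).toEquiv, hcc]
    have hmul := (centralizer ({w} : Set (cent x))).card_mul_index
    have hle := card_subgroup_dvd_card (centralizer ({w} : Set (cent x)))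
    rw [hcard] at hmul hle
    rcases H.card x hx.2.1 with h1 | h1 <;> rcases H.card _ hne with h2 | h2 <;> rw [h1, h2] at hmul
    · exact ⟨0, by rw [pow_zero]; exact Nat.eq_of_mul_eq_mul_left H.pos (hmul.trans (mul_one a).symm)⟩
    · rw [h1, h2] at hle
      exact absurd (Nat.le_of_dvd H.pos hle) H.lt.not_ge
    · exact ⟨α, Nat.eq_of_mul_eq_mul_left H.pos (hmul.trans (hb.symm.trans (mul_comm _ _)))⟩
    · exact ⟨0, by rw [pow_zero]; exact Nat.eq_of_mul_eq_mul_left H.b_pos (hmul.trans (mul_one b).symm)⟩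
  refine ⟨K.map (cent x).subtype, hx, hfac, map_subtype_le _, ?_, fun p hp => ?_, ?_⟩
  · rintro _ ⟨u, hu, rfl⟩ _ ⟨v, hv, rfl⟩
    exact congrArg Subtype.val (hKab.is_comm.comm ⟨u, hu⟩ ⟨v, hv⟩ |> congrArg Subtype.val)
  · rw [card_map_of_injective (cent x).subtype_injective, ← hfac x hx.2.1 p hp, ← K.card_mul_index, hKi,
      Nat.factorization_mul Nat.card_pos.ne' (pow_ne_zero _ hr.ne_zero), Finsupp.add_apply,
      hr.factorization_pow, Finsupp.single_eq_of_ne hp, add_zero]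
  · rwa [card_map_of_injective (cent x).subtype_injective]

variable {x : G} {K : Subgroup G} (P : Pow G a r x K)
include P

theorem Pow.conj {c : G} (hc : c ∈ cent x) : Pow G a r x (K.map (MulAut.conj c).toMonoidHom) := by
  refine ⟨P.pr, P.fac, ?_, ?_, fun p hp => ?_, ?_⟩
  · rintro _ ⟨k, hk, rfl⟩
    exact mul_mem (mul_mem hc (P.le hk)) (inv_mem hc)
  · rintro _ ⟨u, hu, rfl⟩ _ ⟨v, hv, rfl⟩
    exact (P.comm u hu v hv).map _
  all_goals rw [card_map_of_injective (MulEquiv.injective (MulAut.conj c))]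
  exacts [P.hall p hp, P.ncop]

theorem Pow.le_cK : K ≤ centralizer (K : Set G) := fun u hu =>
  mem_centralizer_iff.2 fun v hv => (P.comm v hv u hu).eq

theorem Pow.mem_cK_self : x ∈ centralizer (K : Set G) :=
  mem_centralizer_iff.2 fun _ hv => (mem_cent.1 (P.le hv)).eq

theorem Pow.prime_ne {z : G} {l : ℕ} (hz : Pr z l) (hzK : z ∈ K) : l ≠ r := fun e => by
  subst e
  obtain ⟨i, hi⟩ := hz.2.2
  rcases Nat.eq_zero_or_pos i with h0 | h0
  · exact hz.2.1 ((orderOf_eq_one_iff.1 (by rw [hi, h0, pow_zero])) ▸ one_mem _)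
  · refine P.ncop ((dvd_pow_self l h0.ne').trans (hi ▸ ?_))
    rw [← orderOf_mk z hzK]
    exact orderOf_dvd_natCard _

theorem Pow.exists_part {p : ℕ} (hp : p.Prime) (hd : p ∣ (center G).index) (hne : p ≠ r) :
    ∃ z ∈ K, Pr z p :=
  H.exists_pr hp hd (P.hall p hne).ge

/-- A `p`-element normalising the `p`-part and commuting with a noncentral element centralising it. -/
theorem Pow.mem_part_of_fixed {w y : G} {p : ℕ} (hp : p.Prime) (hpr : p ≠ r) (hwo : ∃ i, orderOf w = p ^ i)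
    (hwN : w ∈ normalizer (part K p : Set G)) (hy : part K p ≤ cent y) (hyc : y ∉ center G)
    (hc : Commute w y) : w ∈ part K p := by
  have : Fact p.Prime := ⟨hp⟩
  obtain ⟨i, hi⟩ := hwo
  have hL : IsPGroup p (zpowers w ⊔ part K p : Subgroup G) :=
    (IsPGroup.of_card (n := i) (by rw [Nat.card_zpowers, hi]) : IsPGroup p (zpowers w)).to_sup_of_normal_right'
      (part_isPGroup P.comm p) (zpowers_le.2 hwN)
  have hle := factorization_card_le (sup_le (zpowers_le.2 (mem_cent.2 hc)) hy) p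
  rw [P.fac y hyc p hpr, ← P.hall p hpr, ← factorization_part P.comm p] at hle
  obtain ⟨m, hm⟩ := IsPGroup.iff_card.1 hL
  obtain ⟨n, hn⟩ := IsPGroup.iff_card.1 (part_isPGroup P.comm p)
  rw [hm, hn, hp.factorization_pow, hp.factorization_pow, Finsupp.single_eq_same,
    Finsupp.single_eq_same] at hle
  exact (eq_of_le_of_card_ge (le_sup_right : part K p ≤ zpowers w ⊔ part K p)
    (by rw [hm, hn]; exact Nat.pow_le_pow_right hp.pos hle)).ge (mem_sup_left (mem_zpowers w))

/-- Elements of order prime to `r` fixing a noncentral element lie in the subgroup. -/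
theorem Pow.mem_of_fixed {w y : G} {p : ℕ} (hp : p.Prime) (hpr : p ≠ r) (hwo : ∃ i, orderOf w = p ^ i)
    (hwN : w ∈ normalizer (K : Set G)) (hy : y ∈ centralizer (K : Set G)) (hyc : y ∉ center G)
    (hc : Commute w y) : w ∈ K :=
  part_le K p (P.mem_part_of_fixed H hp hpr hwo (normalizer_le_part P.comm p hwN)
    (fun t ht => mem_cent.2 (mem_centralizer_iff.1 hy t (part_le K p ht))) hyc hc)

/-- An `r`-element fixing noncentral elements of two primes centralises the subgroup. -/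
theorem Pow.mem_cK_of_rfix {u γ δ : G} {l m : ℕ} (hu : ∃ i, orderOf u = r ^ i) (hγ : Pr γ l) (hδ : Pr δ m)
    (hlm : l ≠ m) (hγK : γ ∈ K) (hδK : δ ∈ K) (h1 : Commute u γ) (h2 : Commute u δ) :
    u ∈ centralizer (K : Set G) := by
  refine mem_centralizer_iff.2 fun k hk => ?_
  refine (mem_cent.1 (CfsgLib.StructC.ClassCoprime.mem_of_primary (K := cent u) fun j s hs hj =>
    mem_cent.2 ?_) : Commute k u).eq
  by_cases hsr : s = r
  · subst hsr
    obtain ⟨i, hi⟩ := hj
    rcases Nat.eq_zero_or_pos i with h0 | h0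
    · rw [orderOf_eq_one_iff.1 (by rw [hi, h0, pow_zero] : orderOf (k ^ j) = 1)]
      exact Commute.one_left u
    · refine absurd ((dvd_pow_self s h0.ne').trans (hi ▸ ?_)) P.ncop
      rw [← orderOf_mk (k ^ j) (K.pow_mem hk j)]
      exact orderOf_dvd_natCard _
  · exact (H.commute_of_pair hγ hδ hlm (P.comm γ hγK δ hδK) (mem_cent.2 (h1.mul_right h2))
      (mem_cent.2 ((P.comm _ (K.pow_mem hk j) γ hγK).mul_right (P.comm _ (K.pow_mem hk j) δ hδK)))
      P.pr.1 hs hu hj (Ne.symm hsr)).symm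

/-- Acting trivially modulo the centre on two primes means centralising the subgroup. -/
theorem Pow.mem_cK {d γ δ : G} {l m : ℕ} (hd : d ∈ normalizer (K : Set G)) (hγ : Pr γ l) (hδ : Pr δ m)
    (hlm : l ≠ m) (hγK : γ ∈ K) (hδK : δ ∈ K) (h1 : d ∈ cmod γ) (h2 : d ∈ cmod δ) :
    d ∈ centralizer (K : Set G) := by
  refine CfsgLib.StructC.ClassCoprime.mem_of_primary fun k s hs h => ?_
  have hc : ∀ {w : G} {n : ℕ}, Pr w n → d ∈ cmod w → n ≠ s → Commute (d ^ k) w := fun hw hdw hne =>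
    commute_of_cmod (pow_mem hdw k) (coprime_orderOf hs hw.1 hne.symm h hw.2.2)
  by_cases hsr : s = r
  · subst hsr
    exact P.mem_cK_of_rfix H h hγ hδ hlm hγK hδK (hc hγ h1 (P.prime_ne H hγ hγK))
      (hc hδ h2 (P.prime_ne H hδ hδK))
  · refine P.le_cK H ?_
    by_cases hls : l = s
    · exact P.mem_of_fixed H hs hsr h (pow_mem hd k) (P.le_cK H hδK) hδ.2.1
        (hc hδ h2 fun e => hlm (hls.trans e.symm))
    · exact P.mem_of_fixed H hs hsr h (pow_mem hd k) (P.le_cK H hγK) hγ.2.1 (hc hγ h1 hls)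

/-- An element squaring into the centraliser inverts a part or fixes an element of it. -/
theorem Pow.inv_or_fixed {u : G} (hu : u ∈ normalizer (K : Set G)) (hu2 : u * u ∈ centralizer (K : Set G))
    {l : ℕ} (hl : l.Prime) :
    (∀ z ∈ part K l, InvAt u z) ∨ ∃ z ∈ K, Pr z l ∧ Commute u z := by
  refine or_iff_not_imp_right.2 fun hno z hz => ?_
  have hz' : u * z * u⁻¹ ∈ part K l := (conj_mem_normalizer (normalizer_le_part P.comm l hu) hz).1
  have hc := P.comm z (part_le _ _ hz) _ (part_le _ _ hz')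
  by_contra hcon
  have hn : z * (u * z * u⁻¹) ∉ center G := fun h => hcon (invAt_of_mem hc h)
  exact hno ⟨_, part_le _ _ (mul_mem hz hz'), pr_of_part P.comm hl (mul_mem hz hz') hn,
    commute_mul_image (show Commute (u * u) z from
      (mem_centralizer_iff.1 hu2 z (part_le _ _ hz)).symm) hc⟩

/-- Two Hall subgroups of one subgroup are conjugate there. -/
theorem Pow.exists_adjust {L : Subgroup G} {g : G} (hK : K ≤ L) (hg : ∀ k ∈ K, g * k * g⁻¹ ∈ L)
    (hL : ∀ p, p ≠ r → (Nat.card L).factorization p ≤ a.factorization p) :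
    ∃ c ∈ L, c⁻¹ * g ∈ normalizer (K : Set G) := by
  set K₁ := K.subgroupOf L with hK₁
  have hc1 : Nat.card K₁ = Nat.card K := Nat.card_congr (subgroupOfEquivOfLe hK).toEquiv
  have : IsMulCommutative K₁ :=
    ⟨⟨fun u v => Subtype.ext (Subtype.ext (P.comm _ (mem_subgroupOf.1 u.2) _ (mem_subgroupOf.1 v.2)).eq)⟩⟩
  have : Group.IsNilpotent K₁ := @CommGroup.isNilpotent _
    { (inferInstance : Group K₁) with mul_comm := fun u v => this.is_comm.comm u v }
  have hHall : (Nat.card K₁).Coprime K₁.index := Nat.coprime_of_dvd' fun p hp h1 h2 => by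
    exfalso
    rw [hc1] at h1
    have hpr : p ≠ r := fun e => P.ncop (e ▸ h1)
    have h3 := hL p hpr
    rw [← K₁.card_mul_index, Nat.factorization_mul Nat.card_pos.ne' index_ne_zero_of_finite,
      Finsupp.add_apply, hc1, P.hall p hpr] at h3
    have := hp.factorization_pos_of_dvd index_ne_zero_of_finite h2
    omega
  set K₂ := (K.map (MulAut.conj g).toMonoidHom).subgroupOf L
  have hle2 : K.map (MulAut.conj g).toMonoidHom ≤ L := by rintro _ ⟨k, hk, rfl⟩; exact hg k hk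
  have hc2 : Nat.card K₂ = Nat.card K := (Nat.card_congr (subgroupOfEquivOfLe hle2).toEquiv).trans
    (card_map_of_injective (MulEquiv.injective (MulAut.conj g)))
  obtain ⟨c, hc⟩ := CfsgLib.Solvable.exists_conj_le_aux K₁ hHall _ K₂ le_rfl fun p _ h => by
    rwa [hc1, ← hc2]
  refine ⟨c, c.2, mem_normalizer_fintype fun k hk => ?_⟩
  have h1 := hc (show (⟨g * k * g⁻¹, hg k hk⟩ : L) ∈ K₂ from ⟨k, hk, rfl⟩)
  rw [mem_pointwise_smul_iff_inv_smul_mem] at h1
  have h2 := mem_subgroupOf.1 h1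
  simp only [MulAut.smul_def, ← map_inv, MulAut.conj_apply, Subgroup.coe_mul, Subgroup.coe_inv, inv_inv]
    at h2
  simpa [mul_assoc] using h2

/-- Every prime other than `r` moves the subgroup. -/
theorem Pow.exists_outer {s : ℕ} (hs : s.Prime) (hd : s ∣ (center G).index) (hsr : s ≠ r) :
    ∃ v ∈ normalizer (K : Set G), v ∉ centralizer (K : Set G) ∧ ∃ i, orderOf v = s ^ i := by
  have : Fact s.Prime := ⟨hs⟩
  obtain ⟨g, -, hgN, hgT, hgo⟩ := exists_normalizing (part_isPGroup P.comm s) (le_top (a := part K s))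
    (by rw [factorization_part P.comm, P.hall s hsr, card_top]; exact H.lt_full hs hd)
  obtain ⟨z, hzK, hz⟩ := P.exists_part H hs hd hsr
  have hzT := hz.mem_part P.comm hzK
  set CT := centralizer (part K s : Set G) with hCT
  have hgC : g ∉ CT := fun h => hgT (P.mem_part_of_fixed H hs hsr hgo hgN
    (fun t ht => mem_cent.2 (P.comm t (part_le _ _ ht) z hzK)) hz.2.1
    (mem_centralizer_iff.1 h z hzT).symm)
  have hKCT : K ≤ CT := fun k hk => mem_centralizer_iff.2 fun t ht => (P.comm t (part_le _ _ ht) k hk).eq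
  obtain ⟨c, hc, hN⟩ := P.exists_adjust H (g := g) hKCT (fun k hk => mem_centralizer_iff.2 fun t ht => by
    have ht' := (conj_mem_normalizer hgN ht).2
    calc t * (g * k * g⁻¹) = g * (g⁻¹ * t * g * k) * g⁻¹ := by group
      _ = g * (k * (g⁻¹ * t * g)) * g⁻¹ := by rw [(P.comm _ (part_le _ _ ht') k hk).eq]
      _ = g * k * g⁻¹ * t := by group) fun p hp => by
    rw [← P.fac z hz.2.1 p hp]
    exact factorization_card_le (fun u hu => mem_cent.2 (mem_centralizer_iff.1 hu z hzT).symm) p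
  set g' := c⁻¹ * g with hg'
  have hrel : ∀ N : ℕ, g' ^ N * (g ^ N)⁻¹ ∈ CT := by
    intro N
    induction N with
    | zero => simp
    | succ N ih =>
      rw [pow_succ' g', pow_succ' g, show g' * g' ^ N * (g * g ^ N)⁻¹ = c⁻¹ * (g * (g' ^ N * (g ^ N)⁻¹) * g⁻¹)
        by rw [hg']; group]
      refine mul_mem (inv_mem hc) (mem_centralizer_iff.2 fun t ht => ?_)
      have h1 := mem_centralizer_iff.1 ih _ (conj_mem_normalizer hgN ht).2
      calc t * (g * (g' ^ N * (g ^ N)⁻¹) * g⁻¹) = g * (g⁻¹ * t * g * (g' ^ N * (g ^ N)⁻¹)) * g⁻¹ := by group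
        _ = _ := by rw [h1]; group
  obtain ⟨a', bb, k, hab, ha', hb', hco, hbk⟩ := CfsgLib.Perm.CountingComplement.exists_parts s g'
  refine ⟨bb, zpowers_le.2 hN hb', fun hbC => ?_, (order_pow_iff hs).1 ⟨k, hbk⟩⟩
  have hbCT : bb ∈ CT := centralizer_le (SetLike.coe_subset_coe.2 (part_le K s)) hbC
  obtain ⟨i, hi⟩ := hgo
  have hpow : g' ^ s ^ i ∈ CT := by
    have := hrel (s ^ i)
    rwa [show g ^ s ^ i = 1 by rw [← hi, pow_orderOf_eq_one], inv_one, mul_one] at this
  have hcomm : Commute a' bb := by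
    obtain ⟨m, rfl⟩ := mem_zpowers_iff.1 ha'
    obtain ⟨n, rfl⟩ := mem_zpowers_iff.1 hb'
    exact (Commute.refl g').zpow_zpow m n
  have ha'' : a' ^ s ^ i ∈ CT := by
    rw [hab, hcomm.mul_pow] at hpow
    have := mul_mem hpow (inv_mem (pow_mem hbCT (s ^ i)))
    rwa [mul_inv_cancel_right] at this
  have haCT : a' ∈ CT := mem_of_pow_coprime CT (hco.pow_right i)
    (by rw [pow_orderOf_eq_one]; exact one_mem _) ha''
  have := mul_mem hc (mul_mem haCT hbCT)
  rw [← hab, hg', mul_inv_cancel_left] at this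
  exact hgC this

/-- A commuting pair modulo the centraliser is impossible. -/
theorem Pow.false_of_comm {u v : G} {s : ℕ} (hs : s.Prime) (hs2 : s ≠ 2) (hsr : s ≠ r)
    (hsi : s ∣ (center G).index) (huN : u ∈ normalizer (K : Set G)) (huo : ∃ i, orderOf u = 2 ^ i)
    (hvN : v ∈ normalizer (K : Set G)) (hvo : ∃ i, orderOf v = s ^ i)
    (hvC : v ∉ centralizer (K : Set G)) (hd : v * u * v⁻¹ * u⁻¹ ∈ centralizer (K : Set G))
    (hfix : ∀ z ∈ part K s, Commute u z → z ∈ center G) : False := by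
  have : Fact s.Prime := ⟨hs⟩
  obtain ⟨z, hzK, hz⟩ := P.exists_part H hs hsi hsr
  refine key (part_isPGroup P.comm s) (fun h => hz.2.1 (h (hz.mem_part P.comm hzK)))
    (normalizer_le_part P.comm _ hvN) hvo (normalizer_le_part P.comm _ huN) ?_ ?_ ?_ hfix
  · obtain ⟨i, hi⟩ := huo
    rw [hi]
    exact ((Nat.coprime_primes Nat.prime_two hs).2 hs2.symm).pow_left i
  · intro y hy
    rw [show u * v * u⁻¹ * v⁻¹ = (v * u * v⁻¹ * u⁻¹)⁻¹ by group]
    exact (show Commute (v * u * v⁻¹ * u⁻¹) y from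
      (mem_centralizer_iff.1 hd y (part_le _ _ hy)).symm).inv_left
  · intro y hy hcy
    by_contra hyc
    exact hvC (P.le_cK H (P.mem_of_fixed H hs hsr hvo hvN (P.le_cK H (part_le _ _ hy)) hyc hcy))

/-- An inverted part has no fixed elements. -/
theorem Pow.fix_of_inv {u : G} {s : ℕ} (hs : s.Prime) (hs2 : s ≠ 2) (hI : ∀ z ∈ part K s, InvAt u z) :
    ∀ z ∈ part K s, Commute u z → z ∈ center G := fun z hz hc => by
  obtain ⟨i, hi⟩ := ((mem_part P.comm).1 hz).2
  refine mem_of_sq ((hI z hz).eq_one_of_cmod (mem_cmod_of_commute hc)) ?_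
  exact Nat.Coprime.coprime_dvd_left (orderOf_dvd_of_pow_eq_one hi)
    (((Nat.coprime_primes hs Nat.prime_two).2 hs2).pow_left i)

/-- The case of an odd prime `r`. -/
theorem Pow.false_of_odd (hr2 : r ≠ 2) : False := by
  obtain ⟨u₀, hu₀N, hu₀C, hu₀o⟩ := P.exists_outer H Nat.prime_two H.two_dvd hr2.symm
  obtain ⟨j, huC, hu2⟩ := exists_square hu₀C hu₀o
  set u := u₀ ^ 2 ^ j
  have huN : u ∈ normalizer (K : Set G) := pow_mem hu₀N _
  have huo : ∃ i, orderOf u = 2 ^ i := by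
    obtain ⟨i, hi⟩ := hu₀o
    obtain ⟨m, -, hm⟩ := (Nat.dvd_prime_pow Nat.prime_two).1 (hi ▸ orderOf_pow_dvd (x := u₀) (2 ^ j))
    exact ⟨m, hm⟩
  have hI : ∀ l : ℕ, l.Prime → ∀ z ∈ part K l, InvAt u z := fun l hl =>
    (P.inv_or_fixed H huN hu2 hl).resolve_right fun ⟨z, hzK, hz, hc⟩ =>
      huC (P.le_cK H (P.mem_of_fixed H Nat.prime_two hr2.symm huo huN (P.le_cK H hzK) hz.2.1 hc))
  obtain ⟨s, hs, hsi, hs2, hsr⟩ := H.exists_third Nat.prime_two P.pr.1
  obtain ⟨v, hvN, hvC, hvo⟩ := P.exists_outer H hs hsi hsr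
  obtain ⟨z, hzK, hz⟩ := P.exists_part H hs hsi hsr
  obtain ⟨e, heK, he⟩ := P.exists_part H Nat.prime_two H.two_dvd hr2.symm
  have hcm : ∀ {l : ℕ}, l.Prime → ∀ y ∈ part K l, v * u * v⁻¹ * u⁻¹ ∈ cmod y := fun hl y hy =>
    cmod_comm (hI _ hl y hy) (hI _ hl _ (conj_mem_normalizer (normalizer_le_part P.comm _ hvN) hy).2)
  exact P.false_of_comm H hs hs2 hsr hsi huN huo hvN hvo hvC
    (P.mem_cK H (mul_mem (mul_mem (mul_mem hvN huN) (inv_mem hvN)) (inv_mem huN)) hz he hs2 hzK heK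
      (hcm hs z (hz.mem_part P.comm hzK)) (hcm Nat.prime_two e (he.mem_part P.comm heK)))
    (P.fix_of_inv H hs hs2 (hI s hs))

/-- The 2-elements centralising the subgroup form a group. -/
theorem Pow.isPGroup_two (hr : r = 2) : IsPGroup 2 (part (centralizer (K : Set G)) 2) := by
  have : Fact (Nat.Prime 2) := ⟨Nat.prime_two⟩
  obtain ⟨l, hl, hli, hl2, -⟩ := H.exists_third Nat.prime_two Nat.prime_two
  obtain ⟨zl, hzlK, hzl⟩ := P.exists_part H hl hli (hr ▸ hl2)
  set CK := centralizer (K : Set G) with hCK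
  have hq : IsPGroup 2 (CK ⧸ center CK) := by
    intro q
    obtain ⟨⟨g, hg⟩, rfl⟩ := QuotientGroup.mk_surjective q
    obtain ⟨a', bb, k, hab, ha', hb', hco, hbk⟩ := CfsgLib.Perm.CountingComplement.exists_parts 2 g
    have haK : a' ∈ K := by
      refine CfsgLib.StructC.ClassCoprime.mem_of_primary fun m s hs ⟨i, hi⟩ => ?_
      have hmem : a' ^ m ∈ CK := pow_mem (zpowers_le.2 hg ha') m
      have hc : Commute (a' ^ m) zl := (mem_centralizer_iff.1 hmem zl hzlK).symm
      by_cases hs2 : s = 2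
      · have : orderOf (a' ^ m) = 1 :=
          Nat.eq_one_of_dvd_coprimes (hco.pow_right i) (orderOf_pow_dvd m) (hs2 ▸ hi.dvd)
        rw [orderOf_eq_one_iff.1 this]
        exact one_mem _
      · exact P.mem_of_fixed H hs (hr ▸ hs2) ⟨i, hi⟩ (centralizer_le_normalizer _ hmem) (P.le_cK H hzlK)
          hzl.2.1 hc
    refine ⟨k, ?_⟩
    rw [← QuotientGroup.mk_pow, QuotientGroup.eq_one_iff, mem_center_iff]
    rintro ⟨w, hw⟩
    refine Subtype.ext ?_
    show w * g ^ 2 ^ k = g ^ 2 ^ k * w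
    have hcomm : Commute a' bb := by
      obtain ⟨i, rfl⟩ := mem_zpowers_iff.1 ha'
      obtain ⟨n, rfl⟩ := mem_zpowers_iff.1 hb'
      exact (Commute.refl g).zpow_zpow i n
    rw [hab, hcomm.mul_pow, hbk, mul_one]
    exact (mem_centralizer_iff.1 hw _ (K.pow_mem haK _)).symm
  have := hq.isNilpotent
  have hnil : Group.IsNilpotent CK := Subgroup.isNilpotent_of_ker_le_center (QuotientGroup.mk' (center CK))
    (by rw [QuotientGroup.ker_mk'])
  obtain ⟨S⟩ := (inferInstance : Nonempty (Sylow 2 CK))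
  have hSn : (S : Subgroup CK).Normal :=
    S.normal_of_normalizerCondition Group.normalizerCondition_of_isNilpotent
  refine (S.isPGroup'.map CK.subtype).to_le ((closure_le _).2 ?_)
  rintro y ⟨hy, i, hi⟩
  refine ⟨⟨y, hy⟩, ?_, rfl⟩
  have hz : IsPGroup 2 (zpowers (⟨y, hy⟩ : CK)) := fun ⟨w, hw⟩ => by
    obtain ⟨m, rfl⟩ := mem_zpowers_iff.1 hw
    refine ⟨i, Subtype.ext ?_⟩
    show ((⟨y, hy⟩ : CK) ^ m) ^ 2 ^ i = 1
    rw [← zpow_natCast, zpow_comm, zpow_natCast, show (⟨y, hy⟩ : CK) ^ 2 ^ i = 1 from Subtype.ext hi, one_zpow]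
  have := hz.to_sup_of_normal_right S.isPGroup'
  exact (S.is_maximal' this le_sup_right).le (mem_sup_left (mem_zpowers _))

/-- The case `r = 2`, given a 2-element moving the subgroup. -/
theorem Pow.false_of_two (hr : r = 2) {u : G} (huN : u ∈ normalizer (K : Set G))
    (huC : u ∉ centralizer (K : Set G)) (huo : ∃ i, orderOf u = 2 ^ i)
    (hu2 : u * u ∈ centralizer (K : Set G)) : False := by
  have : Fact (Nat.Prime 2) := ⟨Nat.prime_two⟩
  obtain ⟨l, q, hl, hli, hl2, hq, hqi, hq2, hlq, hIl⟩ : ∃ l q : ℕ, l.Prime ∧ l ∣ (center G).index ∧ l ≠ 2 ∧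
      q.Prime ∧ q ∣ (center G).index ∧ q ≠ 2 ∧ l ≠ q ∧ ∀ y ∈ part K l, InvAt u y := by
    obtain ⟨l, hl, hli, hl2, -⟩ := H.exists_third Nat.prime_two Nat.prime_two
    obtain ⟨q, hq, hqi, hq2, hql⟩ := H.exists_third Nat.prime_two hl
    rcases P.inv_or_fixed H huN hu2 hl with h | ⟨y, hyK, hy, huy⟩
    · exact ⟨l, q, hl, hli, hl2, hq, hqi, hq2, hql.symm, h⟩
    rcases P.inv_or_fixed H huN hu2 hq with h | ⟨w, hwK, hw, huw⟩
    · exact ⟨q, l, hq, hqi, hq2, hl, hli, hl2, hql, h⟩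
    · exact (huC (P.mem_cK_of_rfix H (hr.symm ▸ huo) hy hw hql.symm hyK hwK huy huw)).elim
  have hlr : l ≠ r := hr ▸ hl2
  have hqr : q ≠ r := hr ▸ hq2
  obtain ⟨zl, hzlK, hzl⟩ := P.exists_part H hl hli hlr
  have hzlp := hzl.mem_part P.comm hzlK
  rcases P.inv_or_fixed H huN hu2 hq with hIq | ⟨xq, hxqK, hxq, huxq⟩
  · obtain ⟨v, hvN, hvC, hvo⟩ := P.exists_outer H hl hli hlr
    obtain ⟨zq, hzqK, hzq⟩ := P.exists_part H hq hqi hqr
    have hzqp := hzq.mem_part P.comm hzqK
    exact P.false_of_comm H hl hl2 hlr hli huN huo hvN hvo hvC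
      (P.mem_cK H (mul_mem (mul_mem (mul_mem hvN huN) (inv_mem hvN)) (inv_mem huN)) hzl hzq hlq hzlK hzqK
        (cmod_comm (hIl zl hzlp) (hIl _ (conj_mem_normalizer (normalizer_le_part P.comm _ hvN) hzlp).2))
        (cmod_comm (hIq zq hzqp) (hIq _ (conj_mem_normalizer (normalizer_le_part P.comm _ hvN) hzqp).2)))
      (P.fix_of_inv H hl hl2 hIl)
  obtain ⟨v, hvN, hvC, hvo⟩ := P.exists_outer H hq hqi hqr
  -- elements trivial modulo the centre on the `l`-part
  set M₀ : Subgroup G := normalizer (K : Set G) ⊓ ⨅ y : part K l, cmod (y : G) with hM₀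
  have hmemM₀ : ∀ {n : G}, n ∈ M₀ ↔ n ∈ normalizer (K : Set G) ∧ ∀ y ∈ part K l, n ∈ cmod y := by
    intro n
    rw [hM₀, mem_inf, mem_iInf]
    exact and_congr_right fun _ => ⟨fun h y hy => h ⟨y, hy⟩, fun h y => h y y.2⟩
  have hCM₀ : centralizer (K : Set G) ≤ M₀ := fun n hn => hmemM₀.2 ⟨centralizer_le_normalizer _ hn,
    fun y hy => mem_cmod_of_commute (mem_centralizer_iff.1 hn y (part_le _ _ hy)).symm⟩
  have hconjM₀ : ∀ {w n : G}, w ∈ normalizer (K : Set G) → n ∈ M₀ → w * n * w⁻¹ ∈ M₀ := by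
    intro w n hw hn
    obtain ⟨hnN, hn'⟩ := hmemM₀.1 hn
    refine hmemM₀.2 ⟨mul_mem (mul_mem hw hnN) (inv_mem hw), fun y hy => ?_⟩
    have h1 := (mem_cmod.1 (hn' _ (conj_mem_normalizer (normalizer_le_part P.comm l hw) hy).2)).map
      (MulAut.conj (QuotientGroup.mk' (center G) w)).toMonoidHom
    simp only [MulEquiv.coe_toMonoidHom, MulAut.conj_apply, map_mul, map_inv] at h1
    rw [mem_cmod, map_mul, map_mul, map_inv]
    simpa [mul_assoc] using h1
  by_cases hz : ∃ z ∈ M₀, z ∉ centralizer (K : Set G) ∧ ∃ i, orderOf z = 2 ^ i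
  · obtain ⟨z₀, hz₀M, hz₀C, hz₀o⟩ := hz
    obtain ⟨j, hzC, hz2⟩ := exists_square hz₀C hz₀o
    set z := z₀ ^ 2 ^ j
    have hzo : ∃ i, orderOf z = 2 ^ i := by
      obtain ⟨i, hi⟩ := hz₀o
      obtain ⟨m, -, hm⟩ := (Nat.dvd_prime_pow Nat.prime_two).1 (hi ▸ orderOf_pow_dvd (x := z₀) (2 ^ j))
      exact ⟨m, hm⟩
    obtain ⟨hzN, hzl'⟩ := hmemM₀.1 (pow_mem hz₀M (2 ^ j))
    have hIzq : ∀ y ∈ part K q, InvAt z y :=
      (P.inv_or_fixed H hzN hz2 hq).resolve_right fun ⟨w, hwK, hw, hzw⟩ =>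
        hzC (P.mem_cK_of_rfix H (hr.symm ▸ hzo) hzl hw hlq hzlK hwK
          (commute_of_cmod (hzl' zl hzlp) (coprime_orderOf Nat.prime_two hl hl2.symm hzo hzl.2.2)) hzw)
    have hxqp := hxq.mem_part P.comm hxqK
    exact P.false_of_comm H hq hq2 hqr hqi hzN hzo hvN hvo hvC
      (P.mem_cK H (mul_mem (mul_mem (mul_mem hvN hzN) (inv_mem hvN)) (inv_mem hzN)) hzl hxq hlq hzlK hxqK
        (cmod_comm_trivial (hzl' zl hzlp)
          (hzl' _ (conj_mem_normalizer (normalizer_le_part P.comm _ hvN) hzlp).2))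
        (cmod_comm (hIzq xq hxqp) (hIzq _ (conj_mem_normalizer (normalizer_le_part P.comm _ hvN) hxqp).2)))
      (P.fix_of_inv H hq hq2 hIzq)
  push Not at hz
  have hd : ∀ {w : G}, w ∈ normalizer (K : Set G) → w * u * w⁻¹ * u⁻¹ ∈ M₀ := fun {w} hw =>
    hmemM₀.2 ⟨mul_mem (mul_mem (mul_mem hw huN) (inv_mem hw)) (inv_mem huN), fun y hy =>
      cmod_comm (hIl y hy) (hIl _ (conj_mem_normalizer (normalizer_le_part P.comm _ hw) hy).2)⟩
  -- the subgroup of elements acting as a sign on the `l`-part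
  set M : Subgroup G := zpowers u ⊔ M₀ with hM
  have huNM : zpowers u ≤ normalizer (M₀ : Set G) :=
    zpowers_le.2 (mem_normalizer_fintype fun n hn => hconjM₀ huN hn)
  have hM₀M : M₀ ≤ M := le_sup_right
  have huM : u ∈ M := mem_sup_left (mem_zpowers u)
  have hsq : ∀ n ∈ M, n * n ∈ M₀ := by
    intro n hn
    have hn' : n ∈ ((zpowers u : Subgroup G) : Set G) * (M₀ : Set G) := by
      rw [← coe_mul_of_left_le_normalizer_right _ _ huNM]; exact hn
    obtain ⟨p, hp, m, hm, rfl⟩ := Set.mem_mul.1 hn'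
    obtain ⟨i, rfl⟩ := mem_zpowers_iff.1 hp
    have hpN : u ^ i ∈ normalizer (K : Set G) := zpow_mem huN i
    have h1 : (u * u) ^ i * ((u ^ i)⁻¹ * m * u ^ i * m) ∈ M₀ := mul_mem (zpow_mem (hCM₀ hu2) i)
      (mul_mem (by simpa using hconjM₀ (inv_mem hpN) hm) hm)
    rw [(Commute.refl u).mul_zpow] at h1
    simpa [mul_assoc] using h1
  have hvM : v ∉ M := fun h => by
    have h2 : v ∈ M₀ := mem_of_sq (hsq v h) (by
      obtain ⟨i, hi⟩ := hvo
      rw [hi]
      exact ((Nat.coprime_primes hq Nat.prime_two).2 hq2).pow_left i)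
    exact hvC (P.le_cK H (P.mem_of_fixed H hq hqr hvo hvN (P.le_cK H hzlK) hzl.2.1
      (commute_of_cmod ((hmemM₀.1 h2).2 zl hzlp) (coprime_orderOf hq hl hlq.symm hvo hzl.2.2))))
  have hMN : M ≤ normalizer (K : Set G) := sup_le (zpowers_le.2 huN) (fun n hn => (hmemM₀.1 hn).1)
  have hnormM : ∀ {w : G}, w ∈ normalizer (K : Set G) → w ∈ normalizer (M : Set G) := fun {w} hw =>
    mem_normalizer_fintype fun n hn => by
      have hle : M ≤ M.comap (MulAut.conj w).toMonoidHom := sup_le (zpowers_le.2 (by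
          show w * u * w⁻¹ ∈ M
          rw [show w * u * w⁻¹ = w * u * w⁻¹ * u⁻¹ * u by group]
          exact mul_mem (hM₀M (hd hw)) huM)) fun m hm => hM₀M (hconjM₀ hw hm)
      exact hle hn
  have hvNM := hnormM hvN
  obtain ⟨i₀, hi₀⟩ := huo
  obtain ⟨S, hS⟩ := (IsPGroup.of_card (p := 2) (n := i₀) (by
    rw [Nat.card_zpowers, orderOf_mk, hi₀]) : IsPGroup 2 (zpowers (⟨u, huM⟩ : M))).exists_le_sylow
  let c : ↥M ≃* ↥M := {
    toFun := fun y => ⟨v * y * v⁻¹, (mem_normalizer_iff.1 hvNM y).1 y.2⟩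
    invFun := fun y => ⟨v⁻¹ * y * v, (conj_mem_normalizer hvNM y.2).2⟩
    left_inv := fun y => Subtype.ext (by simp [mul_assoc])
    right_inv := fun y => Subtype.ext (by simp [mul_assoc])
    map_mul' := fun y w => Subtype.ext (by simp [mul_assoc]) }
  obtain ⟨m, hm⟩ := MulAction.exists_smul_eq M (S.mapSurjective (f := c.toMonoidHom) c.surjective) S
  set S' : Subgroup G := (S : Subgroup M).map M.subtype with hS'
  set n := (m : G) * v with hn
  have hnS : n ∈ normalizer (S' : Set G) := mem_normalizer_fintype fun y hy => by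
    obtain ⟨y', hy', rfl⟩ := (hy : y ∈ S')
    have h1 : c y' ∈ (S.mapSurjective (f := c.toMonoidHom) c.surjective : Subgroup M) := ⟨y', hy', rfl⟩
    have h2 : m * c y' * m⁻¹ ∈ (S : Subgroup M) := by
      rw [← hm, Sylow.coe_subgroup_smul, mem_pointwise_smul_iff_inv_smul_mem]
      show (MulAut.conj m)⁻¹ (m * c y' * m⁻¹) ∈ _
      simpa [MulAut.conj_inv_apply, mul_assoc] using h1
    refine ⟨_, h2, ?_⟩
    show (m : G) * (v * (y' : G) * v⁻¹) * (m : G)⁻¹ = (m : G) * v * (y' : G) * ((m : G) * v)⁻¹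
    group
  have hrel : ∀ N : ℕ, n ^ N * (v ^ N)⁻¹ ∈ M := by
    intro N
    induction N with
    | zero => simp
    | succ N ih =>
      rw [pow_succ' n, pow_succ' v, show n * n ^ N * (v * v ^ N)⁻¹ = (m : G) * (v * (n ^ N * (v ^ N)⁻¹) * v⁻¹)
        by rw [hn]; group]
      exact mul_mem m.2 ((mem_normalizer_iff.1 hvNM _).1 ih)
  have : Fact q.Prime := ⟨hq⟩
  obtain ⟨a', bb, k, hab, ha', hb', hco, hbk⟩ := CfsgLib.Perm.CountingComplement.exists_parts q n
  have hnN : n ∈ normalizer (K : Set G) := mul_mem (hMN m.2) hvN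
  have hbN : bb ∈ normalizer (K : Set G) := zpowers_le.2 hnN hb'
  have hbS : bb ∈ normalizer (S' : Set G) := zpowers_le.2 hnS hb'
  have hbM : bb ∉ M := fun hbM => by
    obtain ⟨i, hi⟩ := hvo
    have hpow : n ^ q ^ i ∈ M := by
      have := hrel (q ^ i)
      rwa [show v ^ q ^ i = 1 by rw [← hi, pow_orderOf_eq_one], inv_one, mul_one] at this
    have hcomm : Commute a' bb := by
      obtain ⟨i', rfl⟩ := mem_zpowers_iff.1 ha'
      obtain ⟨n', rfl⟩ := mem_zpowers_iff.1 hb'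
      exact (Commute.refl n).zpow_zpow i' n'
    have ha'' : a' ^ q ^ i ∈ M := by
      rw [hab, hcomm.mul_pow] at hpow
      have := mul_mem hpow (inv_mem (pow_mem hbM (q ^ i)))
      rwa [mul_inv_cancel_right] at this
    have haM : a' ∈ M := mem_of_pow_coprime M (hco.pow_right i)
      (by rw [pow_orderOf_eq_one]; exact one_mem _) ha''
    have := mul_mem (inv_mem m.2) (mul_mem haM hbM)
    rw [← hab, hn, inv_mul_cancel_left] at this
    exact hvM this
  have hbo : ∃ i, orderOf bb = q ^ i := (order_pow_iff hq).1 ⟨k, hbk⟩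
  have huS : u ∈ S' := ⟨⟨u, huM⟩, hS (mem_zpowers _), rfl⟩
  have hdS : bb * u * bb⁻¹ * u⁻¹ ∈ S' := mul_mem (conj_mem_normalizer hbS huS).1 (inv_mem huS)
  have hdC : bb * u * bb⁻¹ * u⁻¹ ∈ centralizer (K : Set G) := by
    by_contra hdC
    obtain ⟨i, hi⟩ := (S.isPGroup'.map M.subtype).exists_orderOf_eq_pow ⟨_, hdS⟩
    exact hz _ (hd hbN) hdC i (by rwa [orderOf_mk] at hi)
  -- the 2-elements centralising the subgroup
  set T := part (centralizer (K : Set G)) 2 with hT
  have hTC : T ≤ centralizer (K : Set G) := part_le _ _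
  have hnormT : ∀ {w : G}, w ∈ normalizer (K : Set G) → w ∈ normalizer (T : Set G) := fun {w} hw =>
    mem_normalizer_fintype fun y hy => by
      have hle : T ≤ T.comap (MulAut.conj w).toMonoidHom := (closure_le _).2 fun y ⟨hy, i, hi⟩ =>
        subset_closure ⟨mem_centralizer_iff.2 fun k hk => by
          have h1 := mem_centralizer_iff.1 hy _ (conj_mem_normalizer hw hk).2
          show k * (w * y * w⁻¹) = w * y * w⁻¹ * k
          calc k * (w * y * w⁻¹) = w * (w⁻¹ * k * w * y) * w⁻¹ := by group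
            _ = w * (y * (w⁻¹ * k * w)) * w⁻¹ := by rw [h1]
            _ = w * y * w⁻¹ * k := by group,
          i, by simp only [MulEquiv.coe_toMonoidHom, MulAut.conj_apply]; rw [conj_pow, hi]; group⟩
      exact hle hy
  have hxT : x ∈ T := subset_closure ⟨P.mem_cK_self H, by
    obtain ⟨i, hi⟩ := P.pr.2.2
    exact ⟨i, by rw [← hr, ← hi, pow_orderOf_eq_one]⟩⟩
  have hTp := P.isPGroup_two H hr
  have huT := hnormT huN
  have hbT := hnormT hbN
  -- a conjugation-fixed element of the coset of `u`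
  set d := bb * u * bb⁻¹ * u⁻¹ with hd'
  have hdT : d ∈ T := subset_closure ⟨hdC, by
    obtain ⟨i, hi⟩ := (S.isPGroup'.map M.subtype).exists_orderOf_eq_pow ⟨_, hdS⟩
    rw [orderOf_mk] at hi
    exact ⟨i, by rw [← hi, pow_orderOf_eq_one]⟩⟩
  have hmove : ∀ t ∈ T, u⁻¹ * (bb * (u * t) * bb⁻¹) ∈ T := fun t ht => by
    rw [show u⁻¹ * (bb * (u * t) * bb⁻¹) = u⁻¹ * d * u * (bb * t * bb⁻¹) by rw [hd']; group]
    exact mul_mem (conj_mem_normalizer huT hdT).2 (conj_mem_normalizer hbT ht).1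
  let f : T → T := fun t => ⟨u⁻¹ * (bb * (u * t) * bb⁻¹), hmove t t.2⟩
  have hfinj : Function.Injective f := fun t t' h => Subtype.ext <| by
    have h' := congrArg Subtype.val h
    simpa [f] using h'
  let σ : Equiv.Perm T := Equiv.ofBijective f (Finite.injective_iff_bijective.1 hfinj)
  have hσ : ∀ (N : ℕ) (t : T), u * (((σ ^ N) t : T) : G) = bb ^ N * (u * t) * (bb ^ N)⁻¹ := by
    intro N
    induction N with
    | zero => intro t; simp
    | succ N ih =>
      intro t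
      rw [pow_succ' σ, Equiv.Perm.mul_apply]
      show u * (u⁻¹ * (bb * (u * ((σ ^ N) t : T)) * bb⁻¹)) = _
      rw [ih, pow_succ' bb]
      group
  have hσ1 : σ ^ q ^ k = 1 := Equiv.ext fun t => Subtype.ext <| mul_left_cancel (a := u) <| by
    rw [hσ, hbk, one_mul, inv_one, mul_one]
    rfl
  obtain ⟨⟨t, ht⟩, htfix⟩ : ∃ t : T, σ t = t := by
    by_contra hcon
    push Not at hcon
    have : IsEmpty {t : T // σ t = t} := ⟨fun t => hcon t.1 t.2⟩
    have h1 := CfsgLib.StructB.card_fixed_modEq σ hσ1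
    rw [Nat.card_of_isEmpty] at h1
    obtain ⟨e, he⟩ := IsPGroup.iff_card.1 hTp
    have h2 : q ∣ 2 ^ e := Nat.modEq_zero_iff_dvd.1 (he ▸ h1.symm)
    exact hq2 ((Nat.prime_dvd_prime_iff_eq hq Nat.prime_two).1 (hq.dvd_of_dvd_pow h2))
  set u' := u * t with hu'
  have hfix' : Commute bb u' := by
    have h1 := hσ 1 ⟨t, ht⟩
    rw [pow_one, pow_one, htfix] at h1
    show bb * u' = u' * bb
    calc bb * u' = bb * (u * t) * bb⁻¹ * bb := by rw [hu']; group
      _ = u' * bb := by rw [← h1]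
  have hu'o : ∃ i, orderOf u' = 2 ^ i := by
    have hp : IsPGroup 2 (zpowers u ⊔ T : Subgroup G) :=
      (IsPGroup.of_card (n := i₀) (by rw [Nat.card_zpowers, hi₀]) : IsPGroup 2 (zpowers u)).to_sup_of_normal_right'
        hTp (zpowers_le.2 huT)
    obtain ⟨i, hi⟩ := hp.exists_orderOf_eq_pow ⟨u', mul_mem (mem_sup_left (mem_zpowers u)) (mem_sup_right ht)⟩
    exact ⟨i, by rwa [orderOf_mk] at hi⟩
  have htK : ∀ k' ∈ K, Commute t k' := fun k' hk' => (mem_centralizer_iff.1 (hTC ht) k' hk').symm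
  refine key hTp (fun h => P.pr.2.1 (h hxT)) (mul_mem huT (le_normalizer ht)) hu'o hbT ?_ ?_ ?_ ?_
  · obtain ⟨i, hi⟩ := hbo
    rw [hi]
    exact ((Nat.coprime_primes hq Nat.prime_two).2 hq2).pow_left i
  · intro y _
    rw [hfix'.eq, mul_inv_cancel_right, mul_inv_cancel]
    exact Commute.one_left y
  · intro y hy hcy
    by_contra hyc
    have hyC := hTC hy
    obtain ⟨i, hi⟩ := hTp.exists_orderOf_eq_pow ⟨y, hy⟩
    have hyp : Pr y 2 := ⟨Nat.prime_two, hyc, i, by rwa [orderOf_mk] at hi⟩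
    have hcyx : Commute y xq := (mem_centralizer_iff.1 hyC xq hxqK).symm
    have h1 := H.commute_of_pair hyp hxq hq2.symm hcyx
      (mem_cent.2 (hcy.mul_right (huxq.mul_left (htK xq hxqK))))
      (mem_cent.2 ((show Commute zl y from mem_centralizer_iff.1 hyC zl hzlK).mul_right (P.comm zl hzlK xq hxqK)))
      Nat.prime_two hl hu'o hzl.2.2 hl2.symm
    refine hzl.2.1 (P.fix_of_inv H hl hl2 hIl zl hzlp ?_)
    have h2 := h1.mul_left (htK zl hzlK).inv_left
    rwa [mul_inv_cancel_right] at h2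
  · intro y hy hcy
    by_contra hyc
    exact hbM (hM₀M (hCM₀ (P.le_cK H (P.mem_of_fixed H hq hqr hbo hbN (hTC hy) hyc hcy))))

omit P in
/-- The ratio is not a prime power. -/
theorem Hyp.false_of_power {r α : ℕ} (hr : r.Prime) (hri : r ∣ (center G).index) (hα : b / a = r ^ α) :
    False := by
  by_cases hr2 : r = 2
  swap
  · obtain ⟨g, hg, -⟩ := H.exA
    obtain ⟨x, -, hx⟩ := H.exists_part hg hr hri
    obtain ⟨K, P⟩ := H.exists_pow hα hx
    exact P.false_of_odd H hr2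
  subst hr2
  obtain ⟨s, w, y, hs, hs2, hwo, hyo, hinv⟩ := CfsgLib.StructB.exists_inverted_odd_prime H.insol
  have hne : w⁻¹ ≠ w := fun e => by
    have h2 : orderOf w ∣ 2 := orderOf_dvd_of_pow_eq_one (by
      rw [pow_two]; nth_rw 1 [← e]; exact inv_mul_cancel w)
    rw [hwo] at h2
    exact hs2 ((Nat.prime_dvd_prime_iff_eq hs Nat.prime_two).1 h2)
  have hw : Pr w s := ⟨hs, fun h => hne (by
    rw [← hinv, mem_center_iff.1 h y, mul_inv_cancel_right]), 1, by rw [hwo, pow_one]⟩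
  have hsi := H.prime_dvd hw
  obtain ⟨x, hxw, hx⟩ := H.exists_part hw.2.1 Nat.prime_two H.two_dvd
  obtain ⟨K₀, P₀⟩ := H.exists_pow hα hx
  have hwx : w ∈ cent x := mem_cent_comm.1 hxw
  obtain ⟨c, hc, hcK⟩ : ∃ c ∈ cent x, w ∈ K₀.map (MulAut.conj c).toMonoidHom := by
    set K₁ := K₀.subgroupOf (cent x)
    have hc1 : Nat.card K₁ = Nat.card K₀ := Nat.card_congr (subgroupOfEquivOfLe P₀.le).toEquiv
    have : IsMulCommutative K₁ :=
      ⟨⟨fun u v => Subtype.ext (Subtype.ext (P₀.comm _ (mem_subgroupOf.1 u.2) _ (mem_subgroupOf.1 v.2)).eq)⟩⟩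
    have : Group.IsNilpotent K₁ := @CommGroup.isNilpotent _
      { (inferInstance : Group K₁) with mul_comm := fun u v => this.is_comm.comm u v }
    have hHall : (Nat.card K₁).Coprime K₁.index := Nat.coprime_of_dvd' fun p hp h1 h2 => by
      exfalso
      rw [hc1] at h1
      have hpr : p ≠ 2 := fun e => P₀.ncop (e ▸ h1)
      have h3 := (P₀.fac x hx.2.1 p hpr).le
      rw [← K₁.card_mul_index, Nat.factorization_mul Nat.card_pos.ne' index_ne_zero_of_finite,
        Finsupp.add_apply, hc1, P₀.hall p hpr] at h3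
      have := hp.factorization_pos_of_dvd index_ne_zero_of_finite h2
      omega
    obtain ⟨c, hc⟩ := CfsgLib.Solvable.exists_conj_le_aux K₁ hHall _ (zpowers (⟨w, hwx⟩ : cent x)) le_rfl
      fun p hp h => by
        rw [Nat.card_zpowers, orderOf_mk, hwo] at h
        rw [hc1, (Nat.prime_dvd_prime_iff_eq hp hs).1 h]
        refine Nat.dvd_of_factorization_pos (Nat.pos_iff_ne_zero.1 ?_)
        rw [P₀.hall s hs2]
        exact (H.fac_center hs hsi).trans_le' (Nat.zero_le _)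
    have h1 := hc (mem_zpowers _)
    rw [mem_pointwise_smul_iff_inv_smul_mem] at h1
    refine ⟨c, c.2, _, mem_subgroupOf.1 h1, ?_⟩
    simp [mul_assoc]
  have P := P₀.conj H hc
  set K := K₀.map (MulAut.conj c).toMonoidHom
  obtain ⟨c', hc', hN⟩ := P.exists_adjust H (L := cent w) (g := y)
    (fun k hk => mem_cent.2 (P.comm k hk w hcK)) (fun k hk => by
      refine mem_cent.2 ?_
      have h1 := (P.comm k hk w hcK).map (MulAut.conj y).toMonoidHom
      simp only [MulEquiv.coe_toMonoidHom, MulAut.conj_apply, hinv] at h1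
      exact inv_inv w ▸ h1.inv_right) fun p hp => (P.fac w hw.2.1 p hp).le
  set g := c'⁻¹ * y with hg
  have hgw : g * w * g⁻¹ = w⁻¹ := by
    calc g * w * g⁻¹ = c'⁻¹ * (y * w * y⁻¹) * c' := by rw [hg]; group
      _ = c'⁻¹ * (w⁻¹ * c') := by rw [hinv, mul_assoc]
      _ = w⁻¹ := by rw [((mem_cent.1 hc').inv_right).symm.eq, inv_mul_cancel_left]
  obtain ⟨m, k, hm, hk⟩ := CfsgLib.StructB.exists_odd_pow_two_power g
  have hu₀w := CfsgLib.StructB.conj_odd_pow_eq_inv hgw hm
  have hu₀C : g ^ m ∉ centralizer (K : Set G) := fun h => hne (by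
    rw [← hu₀w, (show Commute (g ^ m) w from (mem_centralizer_iff.1 h w hcK).symm).eq, mul_inv_cancel_right])
  obtain ⟨j, huC, hu2⟩ := exists_square hu₀C ((order_pow_iff Nat.prime_two).1 ⟨k, hk⟩)
  refine P.false_of_two H rfl (pow_mem (pow_mem hN m) _) huC ?_ hu2
  exact (order_pow_iff Nat.prime_two).1 ⟨k, by rw [← pow_mul, mul_comm, pow_mul, hk, one_pow]⟩

end CfsgLib.Perm.ThreeSizes.Thick
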