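import Cfsg.Agent.Lib.Perm.ThreeSizes.Basic
import Cfsg.Agent.Lib.Perm.ThreeSizes.NonPower
import Cfsg.Agent.Lib.Perm.ThreeSizes.Power

/-!
# No group with two centraliser orders, the smaller dividing the larger, and every prime thick
-/

set_option autoImplicit false

namespace CfsgLib.Perm.ThreeSizes.Thick

open Subgroup
open CfsgLib.InvChar.ConjRank (cent factorization_card_le)

universe u
variable {G : Type u} [Group G] [Finite G]

/-- Conversion of the hypothesis. -/
theorem hyp_of_has {a b : ℕ} (h : ThreeSizes.Hyp G a b) (hd : a ∣ b)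
    (ht : ∀ p : ℕ, p.Prime → (∃ x : G, x ∉ center G ∧ ∃ i, orderOf x = p ^ i) → Has G p a) :
    Thick.Hyp G a b := by
  obtain ⟨x₀, hx₀, hxa⟩ := h.exists_fst
  obtain ⟨y₀, -, hyb⟩ := h.exists_snd
  have hb : 0 < b := hyb ▸ Nat.card_pos
  refine ⟨lt_of_le_of_ne (Nat.le_of_dvd hb hd) h.ne, hd, h.card_cent, ⟨x₀, hx₀, hxa⟩, fun p hp hpi => ?_,
    h.not_solvable⟩
  have hZ : Nat.card (center G) ∣ a := hxa ▸ Subgroup.card_dvd_of_le (ThreeSizes.center_le_cent x₀)
  obtain ⟨z, -, hz⟩ := Thick.exists_pr (K := (⊤ : Subgroup G)) hp (by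
    rw [card_top, ← (center G).card_mul_index,
      Nat.factorization_mul Nat.card_pos.ne' index_ne_zero_of_finite, Finsupp.add_apply]
    have := hp.factorization_pos_of_dvd index_ne_zero_of_finite hpi
    omega)
  have hlt : (Nat.card (center G)).factorization p < a.factorization p := ht p hp ⟨z, hz.2⟩
  have ha : a ≠ 0 := fun e => by
    have := hxa ▸ (Nat.card_pos (α := cent x₀))
    omega
  rw [← Nat.factorization_le_iff_dvd (mul_ne_zero hp.ne_zero Nat.card_pos.ne') ha,
    Nat.factorization_mul hp.ne_zero Nat.card_pos.ne']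
  intro q
  have hle := (Nat.factorization_le_iff_dvd Nat.card_pos.ne' ha).2 hZ q
  rw [Finsupp.add_apply, hp.factorization, Finsupp.single_apply]
  split_ifs with hq
  · subst hq; omega
  · omega

/-- The divisible case with every prime thick does not occur. -/
theorem false_of_thick {a b : ℕ} (h : ThreeSizes.Hyp G a b) (hd : a ∣ b)
    (ht : ∀ p : ℕ, p.Prime → (∃ x : G, x ∉ center G ∧ ∃ i, orderOf x = p ^ i) → Has G p a) : False := by
  have H := hyp_of_has h hd ht
  by_cases hk : ∀ r i : ℕ, r.Prime → b / a ≠ r ^ i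
  · exact H.false_of_nonpower hk
  push Not at hk
  obtain ⟨r, i, hr, hri⟩ := hk
  obtain ⟨y₀, -, hyb⟩ := h.exists_snd
  have hb : r ^ i * a = b := hri ▸ Nat.div_mul_cancel hd
  have hi : i ≠ 0 := fun e => by
    rw [e, pow_zero, one_mul] at hb
    exact h.ne hb
  refine H.false_of_power hr (H.dvd_index hyb ?_) hri
  rw [← hb, Nat.factorization_mul (pow_ne_zero _ hr.ne_zero) H.pos.ne', Finsupp.add_apply,
    hr.factorization_pow, Finsupp.single_eq_same]
  omega

end CfsgLib.Perm.ThreeSizes.Thick
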