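import Cfsg.Agent.S0205
import Cfsg.Agent.S4134
import Cfsg.Agent.Lib.InvChar.ConjRank.Basic
import Cfsg.Agent.Lib.Perm.CountingComplement
import Cfsg.Agent.Lib.StructC.ClassCoprime
import Cfsg.Agent.Lib.Char.Burnside

/-!
# Two centraliser orders outside the centre, every prime thick: first consequences
-/

set_option autoImplicit false
set_option linter.unusedSectionVars false

namespace CfsgLib.Perm.ThreeSizes.Thick

open Subgroup
open CfsgLib.InvChar.ConjRank (cent mem_cent self_mem_cent mem_cent_comm cent_le_pow cent_mul_le_of_coprime)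

universe u
variable {G : Type u} [Group G]

/-- The standing hypothesis: two centraliser orders `a ∣ b` outside the centre, no prime is thin, and the
group is not soluble. -/
structure Hyp (G : Type u) [Group G] (a b : ℕ) : Prop where
  lt : a < b
  dvd : a ∣ b
  card : ∀ x : G, x ∉ center G → Nat.card (cent x) = a ∨ Nat.card (cent x) = b
  exA : ∃ x : G, x ∉ center G ∧ Nat.card (cent x) = a
  thick : ∀ p : ℕ, p.Prime → p ∣ (center G).index → p * Nat.card (center G) ∣ a
  insol : ¬ Group.IsSolvable G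

/-- A noncentral element of `p`-power order. -/
def Pr (x : G) (p : ℕ) : Prop := p.Prime ∧ x ∉ center G ∧ ∃ i, orderOf x = p ^ i

theorem cent_eq_top {x : G} : cent x = ⊤ ↔ x ∈ center G := by
  rw [eq_top_iff, mem_center_iff]
  exact ⟨fun h g => (mem_cent.1 (h (mem_top g))).eq, fun h g _ => mem_cent.2 (h g)⟩

theorem cent_inf_center (x : G) : center G ≤ cent x :=
  fun _ hz => mem_cent.2 ((mem_center_iff.1 hz x).symm)

theorem not_central_of_le {x y : G} (h : cent y ≤ cent x) (hx : x ∉ center G) : y ∉ center G :=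
  fun hy => hx (cent_eq_top.1 (top_le_iff.1 (cent_eq_top.2 hy ▸ h)))

theorem cent_mul_eq {z u : G} (hc : Commute z u) (hco : (orderOf z).Coprime (orderOf u)) :
    cent (z * u) = cent z ⊓ cent u :=
  le_antisymm (cent_mul_le_of_coprime hc hco) fun _ hw =>
    mem_cent.2 ((mem_cent.1 hw.1).mul_right (mem_cent.1 hw.2))

theorem Pr.coprime {x y : G} {p q : ℕ} (hx : Pr x p) (hy : Pr y q) (h : p ≠ q) :
    (orderOf x).Coprime (orderOf y) := by
  obtain ⟨hp, -, i, hi⟩ := hx
  obtain ⟨hq, -, j, hj⟩ := hy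
  rw [hi, hj]
  exact ((Nat.coprime_primes hp hq).2 h).pow i j

theorem Pr.mul_not_central {x y : G} {p q : ℕ} (hx : Pr x p) (hy : Pr y q) (h : p ≠ q)
    (hc : Commute x y) : x * y ∉ center G :=
  not_central_of_le ((cent_mul_eq hc (hx.coprime hy h)).le.trans inf_le_left) hx.2.1

theorem Pr.pow {x : G} {p : ℕ} (hx : Pr x p) {k : ℕ} (h : x ^ k ∉ center G) : Pr (x ^ k) p := by
  obtain ⟨hp, -, i, hi⟩ := hx
  obtain ⟨j, -, hj⟩ := (Nat.dvd_prime_pow hp).1 (hi ▸ orderOf_pow_dvd (x := x) k)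
  exact ⟨hp, h, j, hj⟩

theorem Pr.conj {x : G} {p : ℕ} (hx : Pr x p) (g : G) : Pr (g * x * g⁻¹) p := by
  refine ⟨hx.1, fun h => hx.2.1 ?_, ?_⟩
  · have := (inferInstance : (center G).Normal).conj_mem _ h g⁻¹
    simpa [mul_assoc] using this
  · obtain ⟨i, hi⟩ := hx.2.2
    exact ⟨i, (MulEquiv.orderOf_eq (MulAut.conj g) x).trans hi⟩

theorem cent_zpowers {x y : G} (h : x ∈ zpowers y) : cent y ≤ cent x := fun c hc => by
  obtain ⟨j, rfl⟩ := mem_zpowers_iff.1 h
  exact mem_cent.2 ((mem_cent.1 hc).zpow_right j)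

/-- A noncentral element has a noncentral power of prime power order. -/
theorem exists_primary [Finite G] {w : G} (hw : w ∉ center G) : ∃ (k p : ℕ), Pr (w ^ k) p := by
  by_contra hcon
  exact hw (CfsgLib.StructC.ClassCoprime.mem_of_primary fun k s hs h => by
    by_contra hk
    exact hcon ⟨k, s, hs, hk, h⟩)

/-- A subgroup is abelian as soon as its elements of prime power order commute. -/
theorem comm_of_primary [Finite G] {K : Subgroup G}
    (h : ∀ u ∈ K, ∀ v ∈ K, (∃ l i, l.Prime ∧ orderOf u = l ^ i) → (∃ m j, m.Prime ∧ orderOf v = m ^ j) →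
      Commute u v) : ∀ u ∈ K, ∀ v ∈ K, Commute u v := by
  intro u hu v hv
  refine mem_cent.1 (CfsgLib.StructC.ClassCoprime.mem_of_primary (K := cent v) fun k s hs ⟨i, hi⟩ => ?_)
  refine mem_cent_comm.1 (CfsgLib.StructC.ClassCoprime.mem_of_primary (K := cent (u ^ k))
    fun l r hr ⟨j, hj⟩ => mem_cent.2 ?_)
  exact (h _ (K.pow_mem hu k) _ (K.pow_mem hv l) ⟨s, i, hs, hi⟩ ⟨r, j, hr, hj⟩).symm

/-- The `l`-elements among the powers of `x` are powers of its `l`-part. -/
theorem pow_mem_part [Finite G] {x x' u : G} {l n : ℕ} (hx : x = x' * u) (hx' : x' ∈ zpowers x)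
    (huz : u ∈ zpowers x) (hx'l : (orderOf x').Coprime l) (hul : u ^ l ^ n = 1) :
    ∀ j, (∃ i, orderOf (x ^ j) = l ^ i) → x ^ j ∈ zpowers u := by
  have hxu : Commute x u := mem_cent.1 (cent_zpowers huz (self_mem_cent x))
  have hcc : Commute x' u := (mem_cent.1 (cent_zpowers hx' (mem_cent.2 hxu.symm))).symm
  rintro j ⟨i, hi⟩
  have e1 : x ^ j = x' ^ j * u ^ j := by rw [← hcc.mul_pow, ← hx]
  have h3 : x' ^ j = x ^ j * (u ^ j)⁻¹ := by rw [e1, mul_inv_cancel_right]
  have e2 : x' ^ j = 1 := by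
    have p1 : (x ^ j) ^ l ^ (i + n) = 1 :=
      orderOf_dvd_iff_pow_eq_one.1 (hi ▸ pow_dvd_pow l (Nat.le_add_right i n))
    have p2 : (u ^ j) ^ l ^ (i + n) = 1 := by
      rw [← pow_mul, mul_comm, pow_mul, pow_add, mul_comm (l ^ i), pow_mul, hul, one_pow, one_pow]
    have h2 : orderOf (x' ^ j) ∣ l ^ (i + n) := orderOf_dvd_of_pow_eq_one (by
      rw [h3, ((hxu.pow_pow j j).inv_right).mul_pow, inv_pow, p1, p2, inv_one, one_mul])
    exact orderOf_eq_one_iff.1 (Nat.eq_one_of_dvd_coprimes (Nat.Coprime.pow_right _ hx'l)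
      (orderOf_pow_dvd j) h2)
  rw [e1, e2, one_mul]
  exact pow_mem (mem_zpowers _) _

variable [Finite G] {a b : ℕ} (H : Hyp G a b)
include H

theorem Hyp.card_ge {x : G} (hx : x ∉ center G) : a ≤ Nat.card (cent x) := by
  rcases H.card x hx with h | h <;> rw [h]
  exact H.lt.le

theorem Hyp.card_le {x : G} (hx : x ∉ center G) : Nat.card (cent x) ≤ b := by
  rcases H.card x hx with h | h <;> rw [h]
  exact H.lt.le

theorem Hyp.pos : 0 < a := by
  obtain ⟨x, -, h⟩ := H.exA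
  exact h ▸ Nat.card_pos

theorem Hyp.eq_A {x y : G} (hx : x ∉ center G) (hy : Nat.card (cent y) = a) (h : cent x ≤ cent y) :
    cent x = cent y :=
  eq_of_le_of_card_ge h (hy.le.trans (H.card_ge hx))

theorem Hyp.eq_B {x y : G} (hy : y ∉ center G) (hx : Nat.card (cent x) = b) (h : cent x ≤ cent y) :
    cent x = cent y :=
  eq_of_le_of_card_ge h ((H.card_le hy).trans hx.ge)

/-- In a minimal centraliser the elements of order prime to the element are central. -/
theorem Hyp.central_of_A {x u : G} (hx : x ∉ center G) (hA : Nat.card (cent x) = a) (hu : u ∈ cent x)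
    (hco : (orderOf x).Coprime (orderOf u)) : cent x ≤ cent u := by
  have e := cent_mul_eq (mem_cent.1 hu).symm hco
  have hne : x * u ∉ center G := not_central_of_le (e.le.trans inf_le_left) hx
  exact (H.eq_A hne hA (e.le.trans inf_le_left)).ge.trans (e.le.trans inf_le_right)

theorem Hyp.prime_dvd {x : G} {p : ℕ} (hx : Pr x p) : p ∣ (center G).index := by
  obtain ⟨hp, hx, i, hi⟩ := hx
  have h1 : orderOf (x : G ⧸ center G) ∣ p ^ i := hi ▸ orderOf_map_dvd (QuotientGroup.mk' (center G)) x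
  obtain ⟨j, -, hj⟩ := (Nat.dvd_prime_pow hp).1 h1
  have hj0 : j ≠ 0 := fun e => hx ((QuotientGroup.eq_one_iff x).1
    (orderOf_eq_one_iff.1 (by rw [hj, e, pow_zero])))
  rw [index_eq_card]
  exact ((dvd_pow_self p hj0).trans hj.symm.dvd).trans (orderOf_dvd_natCard _)

/-- Every centraliser contains noncentral elements of every prime. -/
theorem Hyp.exists_part {x : G} (hx : x ∉ center G) {p : ℕ} (hp : p.Prime) (hd : p ∣ (center G).index) :
    ∃ z : G, z ∈ cent x ∧ Pr z p := by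
  have : Fact p.Prime := ⟨hp⟩
  have hc : p * Nat.card (center G) ∣ Nat.card (cent x) := by
    rcases H.card x hx with h | h <;> rw [h]
    · exact H.thick p hp hd
    · exact (H.thick p hp hd).trans H.dvd
  set n := (Nat.card (center G)).factorization p with hn
  have h1 : p ^ (n + 1) ∣ Nat.card (cent x) :=
    (by rw [pow_succ']; exact mul_dvd_mul_left p (Nat.ordProj_dvd _ _) :
      p ^ (n + 1) ∣ p * Nat.card (center G)).trans hc
  obtain ⟨K, hK⟩ := Sylow.exists_subgroup_card_pow_prime p h1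
  have hKp : IsPGroup p (K.map (cent x).subtype) := (IsPGroup.of_card hK).map _
  obtain ⟨z, hzK, hzc⟩ : ∃ z ∈ K.map (cent x).subtype, z ∉ center G := by
    by_contra hcon
    push Not at hcon
    have := Subgroup.card_dvd_of_le (show K.map (cent x).subtype ≤ center G from hcon)
    rw [Nat.card_congr (K.equivMapOfInjective _ (cent x).subtype_injective).symm.toEquiv, hK,
      hp.pow_dvd_iff_le_factorization Nat.card_pos.ne', ← hn] at this
    omega
  refine ⟨z, map_subtype_le _ hzK, hp, hzc, ?_⟩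
  obtain ⟨i, hi⟩ := IsPGroup.iff_orderOf.1 hKp ⟨z, hzK⟩
  exact ⟨i, by rw [← hi, orderOf_mk]⟩

theorem Hyp.not_solvable_quotient : ¬ Group.IsSolvable (G ⧸ center G) := fun h => H.insol
  (@Group.isSolvable_of_ker_le_range _ _ _ _ _ _ (center G).subtype (QuotientGroup.mk' (center G))
    (by simp) (Group.isSolvable_of_comm fun u v => Subtype.ext ((mem_center_iff.1 v.2 u))) h)

theorem Hyp.two_dvd : 2 ∣ (center G).index := by
  by_contra h
  exact H.not_solvable_quotient (Cfsg.Agent.S0205.result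
    (by rw [← index_eq_card, ← Nat.not_even_iff_odd, even_iff_two_dvd]; exact h))

/-- There is a third prime. -/
theorem Hyp.exists_third {p q : ℕ} (hp : p.Prime) (hq : q.Prime) :
    ∃ s : ℕ, s.Prime ∧ s ∣ (center G).index ∧ s ≠ p ∧ s ≠ q := by
  by_contra hcon
  push Not at hcon
  obtain ⟨i, m, hm, him⟩ := Nat.exists_eq_pow_mul_and_not_dvd
    (index_ne_zero_of_finite (H := center G)) p hp.ne_one
  have hm0 : m ≠ 0 := fun e => index_ne_zero_of_finite (H := center G) (by rw [him, e, mul_zero])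
  have hmq := Nat.eq_prime_pow_of_unique_prime_dvd hm0 (p := q) fun {d} hd hdm =>
    hcon d hd (him ▸ dvd_mul_of_dvd_right hdm _) fun e => hm (e ▸ hdm)
  exact H.not_solvable_quotient (CfsgLib.Char.burnside_pq p q hp hq i _ _
    (by rw [← index_eq_card, him, ← hmq]))

theorem Hyp.exists_part_ne {x : G} (hx : x ∉ center G) {p q : ℕ} (hp : p.Prime) (hq : q.Prime) :
    ∃ (s : ℕ) (z : G), z ∈ cent x ∧ Pr z s ∧ s ≠ p ∧ s ≠ q := by
  obtain ⟨s, hs, hd, hsp, hsq⟩ := H.exists_third hp hq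
  obtain ⟨z, hz, hzs⟩ := H.exists_part hx hs hd
  exact ⟨s, z, hz, hzs, hsp, hsq⟩

/-- Two commuting noncentral elements of different primes: a small centraliser, or the same large one. -/
theorem Hyp.dichotomy {β γ : G} {p q : ℕ} (hβ : Pr β p) (hγ : Pr γ q) (hpq : p ≠ q) (hc : Commute β γ) :
    Nat.card (cent (β * γ)) = a ∨
      (cent β = cent γ ∧ cent (β * γ) = cent β ∧ Nat.card (cent β) = b) := by
  have e := cent_mul_eq hc (hβ.coprime hγ hpq)
  refine (H.card _ (hβ.mul_not_central hγ hpq hc)).imp id fun hB => ?_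
  have h1 := H.eq_B hβ.2.1 hB (e.le.trans inf_le_left)
  have h2 := H.eq_B hγ.2.1 hB (e.le.trans inf_le_right)
  exact ⟨h1.symm.trans h2, h1, h1 ▸ hB⟩

/-- For `u` primary in a large centraliser with two central primes: central there or of index `b / a`. -/
theorem Hyp.inf_card_primary {β γ u : G} {p q l : ℕ} (hβ : Pr β p) (hγ : Pr γ q) (hpq : p ≠ q)
    (he : cent β = cent γ) (hB : Nat.card (cent β) = b) (hu : Pr u l) (huD : u ∈ cent β) :
    cent β ≤ cent u ∨ Nat.card (cent β ⊓ cent u : Subgroup G) = a := by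
  obtain ⟨δ, r, hδ, hδe, hrl⟩ : ∃ (δ : G) (r : ℕ), Pr δ r ∧ cent δ = cent β ∧ r ≠ l := by
    by_cases h : p = l
    · exact ⟨γ, q, hγ, he.symm, fun e => hpq (h.trans e.symm)⟩
    · exact ⟨β, p, hβ, rfl, h⟩
  have hc : Commute δ u := (mem_cent.1 (hδe ▸ huD : u ∈ cent δ)).symm
  rw [← hδe, ← cent_mul_eq hc (hδ.coprime hu hrl)]
  rcases H.dichotomy hδ hu hrl hc with h | ⟨h1, -, -⟩
  · exact Or.inr h
  · exact Or.inl h1.le

/-- A large centraliser with two central primes has one class size. -/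
theorem Hyp.inf_card {β γ x : G} {p q : ℕ} (hβ : Pr β p) (hγ : Pr γ q) (hpq : p ≠ q)
    (he : cent β = cent γ) (hB : Nat.card (cent β) = b) (hxD : x ∈ cent β) :
    cent β ≤ cent x ∨ Nat.card (cent β ⊓ cent x : Subgroup G) = a := by
  classical
  by_cases hall : ∀ k l : ℕ, Pr (x ^ k) l → cent β ≤ cent (x ^ k)
  · refine Or.inl fun d hd => mem_cent_comm.1 (CfsgLib.StructC.ClassCoprime.mem_of_primary
      fun k s hs h => mem_cent_comm.1 ?_)
    by_cases hk : x ^ k ∈ center G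
    · exact (cent_eq_top.2 hk).ge (mem_top d)
    · exact hall k s ⟨hs, hk, h⟩ hd
  push Not at hall
  obtain ⟨k, l, hu0, hnu0⟩ := hall
  have : Fact l.Prime := ⟨hu0.1⟩
  -- the full `l`-part of `x`
  obtain ⟨x', u, n, hx, hx', huz, hx'l, hul⟩ := CfsgLib.Perm.CountingComplement.exists_parts l x
  have hlpart := pow_mem_part hx hx' huz hx'l hul
  have hku : cent u ≤ cent (x ^ k) := cent_zpowers (hlpart k hu0.2.2)
  have hu : Pr u l := by
    obtain ⟨i, -, hi⟩ := (Nat.dvd_prime_pow hu0.1).1 (orderOf_dvd_of_pow_eq_one hul)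
    exact ⟨hu0.1, not_central_of_le hku hu0.2.1, i, hi⟩
  have huD : u ∈ cent β := (zpowers_le.2 hxD) huz
  have hJ : Nat.card (cent β ⊓ cent u : Subgroup G) = a :=
    (H.inf_card_primary hβ hγ hpq he hB hu huD).resolve_left fun h => hnu0 (h.trans hku)
  right
  rw [← hJ]
  refine congrArg (fun K : Subgroup G => Nat.card K) ?_
  refine le_antisymm (inf_le_inf_left _ (cent_zpowers huz)) (le_inf inf_le_left fun d hd =>
    mem_cent_comm.1 (CfsgLib.StructC.ClassCoprime.mem_of_primary fun j m hm h => mem_cent_comm.1 ?_))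
  by_cases hj : x ^ j ∈ center G
  · exact (cent_eq_top.2 hj).ge (mem_top d)
  rcases eq_or_ne m l with rfl | hml
  · exact cent_zpowers (hlpart j h) hd.2
  have hv : Pr (x ^ j) m := ⟨hm, hj, h⟩
  -- the common centraliser seen from an element `δ * u`
  have key : ∀ (δ : G) (r : ℕ), Pr δ r → cent δ = cent β → r ≠ l → r ≠ m → d ∈ cent (x ^ j) := by
    intro δ r hδ hδe hrl hrm
    have hc : Commute δ u := (mem_cent.1 (hδe ▸ huD : u ∈ cent δ)).symm
    have eJ : cent (δ * u) = cent β ⊓ cent u := by rw [cent_mul_eq hc (hδ.coprime hu hrl), hδe]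
    refine H.central_of_A (hδ.mul_not_central hu hrl hc) (eJ ▸ hJ)
      (eJ ▸ ⟨(cent β).pow_mem hxD j, cent_zpowers huz (mem_cent.2 ((Commute.refl x).pow_left j))⟩) ?_
      (eJ ▸ hd)
    · rw [hc.orderOf_mul_eq_mul_orderOf_of_coprime (hδ.coprime hu hrl)]
      exact (hδ.coprime hv hrm).mul_left (hu.coprime hv hml.symm)
  obtain ⟨δ, r, hδ, hδe, hrm⟩ : ∃ (δ : G) (r : ℕ), Pr δ r ∧ cent δ = cent β ∧ r ≠ m := by
    by_cases hpm : p = m
    · exact ⟨γ, q, hγ, he.symm, fun e => hpq (hpm.trans e.symm)⟩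
    · exact ⟨β, p, hβ, rfl, hpm⟩
  by_cases hrl : r = l
  swap
  · exact key δ r hδ hδe hrl hrm
  subst hrl
  -- the other central prime is that of `x ^ j`, or usable
  obtain ⟨δ₁, r₁, hδ₁, hδ₁e, hr₁⟩ : ∃ (δ₁ : G) (r₁ : ℕ), Pr δ₁ r₁ ∧ cent δ₁ = cent β ∧ r₁ ≠ r := by
    by_cases hpr : p = r
    · exact ⟨γ, q, hγ, he.symm, fun e => hpq (hpr.trans e.symm)⟩
    · exact ⟨β, p, hβ, rfl, hpr⟩
  by_cases hr₁m : r₁ = m
  swap
  · exact key δ₁ r₁ hδ₁ hδ₁e hr₁ hr₁m
  subst hr₁m
  have hc₁ : Commute δ₁ u := (mem_cent.1 (hδ₁e ▸ huD : u ∈ cent δ₁)).symm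
  have eJ : cent (δ₁ * u) = cent β ⊓ cent u := by rw [cent_mul_eq hc₁ (hδ₁.coprime hu hr₁), hδ₁e]
  have hJn := hδ₁.mul_not_central hu hr₁ hc₁
  obtain ⟨s, e, he', hes, hsr, hsl⟩ := H.exists_part_ne hJn hδ₁.1 hu.1
  have hJe : cent β ⊓ cent u ≤ cent e := eJ ▸ H.central_of_A hJn (eJ ▸ hJ) he' (by
    rw [hc₁.orderOf_mul_eq_mul_orderOf_of_coprime (hδ₁.coprime hu hr₁)]
    exact (hδ₁.coprime hes hsr.symm).mul_left (hu.coprime hes hsl.symm))
  have hed : Commute δ e := (mem_cent.1 (hδe ▸ ((eJ ▸ he' : e ∈ cent β ⊓ cent u)).1 : e ∈ cent δ)).symm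
  rcases H.dichotomy hδ hes hsl.symm hed with hA | ⟨h1, -, -⟩
  · -- the same small centraliser
    have eE : cent (δ * e) = cent δ ⊓ cent e := cent_mul_eq hed (hδ.coprime hes hsl.symm)
    have hle : cent β ⊓ cent u ≤ cent (δ * e) :=
      eE ▸ le_inf (inf_le_left.trans hδe.ge) hJe
    have heq : cent (δ₁ * u) = cent (δ * e) := H.eq_A hJn hA (eJ.le.trans hle)
    refine H.central_of_A (hδ.mul_not_central hes hsl.symm hed) hA (heq ▸ eJ ▸ ⟨(cent β).pow_mem hxD j,
      cent_zpowers huz (mem_cent.2 ((Commute.refl x).pow_left j))⟩) ?_ (heq ▸ eJ ▸ hd)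
    rw [hed.orderOf_mul_eq_mul_orderOf_of_coprime (hδ.coprime hes hsl.symm)]
    exact (hδ.coprime hv hrm).mul_left (hes.coprime hv hsr)
  · exact key e s hes (h1.symm.trans hδe) hsl hsr

end CfsgLib.Perm.ThreeSizes.Thick
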