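import Cfsg.Agent.Lib.Perm.ThreeSizes.Central
import Cfsg.Agent.Lib.Perm.ThreeSizes.Tools

/-!
# The standing hypothesis of the thick case
-/

set_option autoImplicit false

namespace CfsgLib.Perm.ThreeSizes

open CfsgLib.InvChar.ConjRank

universe u

variable {G : Type u} [Group G] [Finite G]

/-- Thick primes in the form used by the divisible case. -/
theorem thick_hyp {a b : ℕ} (h : Hyp G a b) (hlt : a < b) (hd : a ∣ b)
    (ht : ∀ p : ℕ, p.Prime → (∃ x : G, x ∉ Subgroup.center G ∧ ∃ i, orderOf x = p ^ i) → Has G p a) :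
    Thick.Hyp G a b := by
  refine ⟨hlt, hd, h.card_cent, h.exists_fst, fun p hp hpd => ?_, h.not_solvable⟩
  have : Fact p.Prime := ⟨hp⟩
  obtain ⟨t, ht'⟩ := exists_prime_orderOf_dvd_card' (G := G ⧸ Subgroup.center G) p
    (by rwa [← Subgroup.index_eq_card])
  obtain ⟨y, -, hy, -, hi, -⟩ := exists_lift hp ht'
  have hlt' := ht p hp ⟨y, hy, hi⟩
  obtain ⟨x, -, hxa⟩ := h.exists_fst
  have hza : Nat.card (Subgroup.center G) ∣ a := hxa ▸ Subgroup.card_dvd_of_le (center_le_cent x)
  have ha : a ≠ 0 := hxa ▸ Nat.card_pos.ne'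
  rw [← Nat.factorization_le_iff_dvd (mul_ne_zero hp.ne_zero Nat.card_pos.ne') ha,
    Nat.factorization_mul hp.ne_zero Nat.card_pos.ne', hp.factorization]
  intro r
  rw [Finsupp.add_apply, Finsupp.single_apply]
  split
  · subst r; rw [Has] at hlt'; omega
  · rw [zero_add]; exact factorization_le_of_dvd ha hza r

end CfsgLib.Perm.ThreeSizes
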